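import Mathlib

/-!
# Subgroup sums and traces in modular group algebras
-/

set_option autoImplicit false

namespace Cfsg.Agent.Lib.SteinbergBlock

open MonoidAlgebra

universe u v

variable {G : Type u} [Group G] [Finite G] {k : Type v} [CommRing k]

/-- a group element in the algebra -/
noncomputable abbrev el (g : G) : MonoidAlgebra k G := single g 1

omit [Finite G] in
theorem el_mul (g h : G) : (el g : MonoidAlgebra k G) * el h = el (g * h) := by
  simp [el]

omit [Finite G] in
theorem el_one : (el 1 : MonoidAlgebra k G) = 1 := rfl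

/-- sum of the elements of a subgroup -/
noncomputable def hat (H : Subgroup G) : MonoidAlgebra k G :=
  letI := Fintype.ofFinite H
  ∑ h : H, el (h : G)

theorem hat_def (H : Subgroup G) [Fintype H] :
    (hat H : MonoidAlgebra k G) = ∑ h : H, el (h : G) := by
  rw [hat]
  convert rfl

/-- fixed by left multiplication by `H` -/
def LFix (H : Subgroup G) (y : MonoidAlgebra k G) : Prop := ∀ h ∈ H, el h * y = y

theorem lfix_hat (H : Subgroup G) : LFix H (hat H : MonoidAlgebra k G) := by
  intro h hh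
  letI := Fintype.ofFinite H
  rw [hat_def, Finset.mul_sum]
  simp only [el_mul]
  exact Fintype.sum_equiv (Equiv.mulLeft (⟨h, hh⟩ : H)) _ _ fun _ => rfl

theorem hat_mul_el {H : Subgroup G} {h : G} (hh : h ∈ H) :
    (hat H : MonoidAlgebra k G) * el h = hat H := by
  letI := Fintype.ofFinite H
  rw [hat_def, Finset.sum_mul]
  simp only [el_mul]
  exact Fintype.sum_equiv (Equiv.mulRight (⟨h, hh⟩ : H)) _ _ fun _ => rfl

omit [Finite G] in
theorem LFix.mul {H : Subgroup G} {y : MonoidAlgebra k G} (hy : LFix H y) (z : MonoidAlgebra k G) :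
    LFix H (y * z) := fun h hh => by rw [← mul_assoc, hy h hh]

omit [Finite G] in
theorem LFix.mono {H K : Subgroup G} {y : MonoidAlgebra k G} (hy : LFix H y) (hle : K ≤ H) :
    LFix K y := fun h hh => hy h (hle hh)

theorem hat_mul_lfix {H : Subgroup G} {y : MonoidAlgebra k G} (hy : LFix H y) :
    hat H * y = (Nat.card H : k) • y := by
  letI := Fintype.ofFinite H
  rw [hat_def, Finset.sum_mul, Finset.sum_congr rfl (fun h _ => hy h.1 h.2), Finset.sum_const,
    Finset.card_univ, Nat.card_eq_fintype_card, Nat.cast_smul_eq_nsmul]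

theorem el_mul_hat_of_normalizes {H : Subgroup G} {g : G}
    (hg : ∀ h ∈ H, g * h * g⁻¹ ∈ H) : (el g : MonoidAlgebra k G) * hat H = hat H * el g := by
  letI := Fintype.ofFinite H
  let f : H → H := fun h => ⟨g * h * g⁻¹, hg h h.2⟩
  have hf : Function.Bijective f := Finite.injective_iff_bijective.1 fun a b h =>
    Subtype.ext (by simpa [f] using congrArg Subtype.val h)
  rw [hat_def, Finset.mul_sum, Finset.sum_mul]
  simp only [el_mul]
  exact Fintype.sum_bijective f hf _ _ fun h => by simp [f]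

theorem hat_eq_mul {H H₁ H₂ : Subgroup G} (h₁ : H₁ ≤ H) (h₂ : H₂ ≤ H) (hd : H₁ ⊓ H₂ = ⊥)
    (hcov : ∀ h ∈ H, ∃ a ∈ H₁, ∃ b ∈ H₂, h = a * b) :
    (hat H : MonoidAlgebra k G) = hat H₁ * hat H₂ := by
  letI := Fintype.ofFinite H; letI := Fintype.ofFinite H₁; letI := Fintype.ofFinite H₂
  rw [hat_def, hat_def, hat_def, Finset.sum_mul_sum, ← Finset.sum_product', Finset.univ_product_univ]
  simp only [el_mul]
  let f : H₁ × H₂ → H := fun x => ⟨x.1.1 * x.2.1, mul_mem (h₁ x.1.2) (h₂ x.2.2)⟩
  have hf : Function.Bijective f := by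
    refine ⟨fun x y hxy => ?_, fun h => ?_⟩
    · have he : x.1.1 * x.2.1 = y.1.1 * y.2.1 := congrArg Subtype.val hxy
      have hm : y.1.1⁻¹ * x.1.1 = y.2.1 * x.2.1⁻¹ := by
        calc y.1.1⁻¹ * x.1.1 = y.1.1⁻¹ * (x.1.1 * x.2.1) * x.2.1⁻¹ := by group
          _ = _ := by rw [he]; group
      have hbot : y.1.1⁻¹ * x.1.1 ∈ H₁ ⊓ H₂ :=
        Subgroup.mem_inf.2 ⟨mul_mem (inv_mem y.1.2) x.1.2, hm ▸ mul_mem y.2.2 (inv_mem x.2.2)⟩
      rw [hd, Subgroup.mem_bot] at hbot
      have h1 : x.1 = y.1 := Subtype.ext (inv_mul_eq_one.1 hbot).symm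
      rw [hbot, eq_comm, mul_inv_eq_one] at hm
      exact Prod.ext h1 (Subtype.ext hm.symm)
    · obtain ⟨a, ha, b, hb, e⟩ := hcov h.1 h.2
      exact ⟨(⟨a, ha⟩, ⟨b, hb⟩), Subtype.ext e.symm⟩
  exact (Fintype.sum_bijective f hf _ _ fun _ => rfl).symm

theorem exists_eq_hat_mul {H : Subgroup G} {y : MonoidAlgebra k G} (hy : LFix H y) :
    ∃ c : MonoidAlgebra k G, y = hat H * c := by
  classical
  letI := Fintype.ofFinite H
  cases nonempty_fintype G
  let r : G → G := fun x => (Quotient.mk (QuotientGroup.rightRel H) x).out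
  have hr : ∀ x, x * (r x)⁻¹ ∈ H := fun x => by
    have := Quotient.mk_out (s := QuotientGroup.rightRel H) x
    exact QuotientGroup.rightRel_apply.1 this
  have hrh : ∀ (h : G), h ∈ H → ∀ x, r (h * x) = r x := fun h hh x => by
    have : (Quotient.mk (QuotientGroup.rightRel H) (h * x)) = Quotient.mk _ x :=
      Quotient.sound (QuotientGroup.rightRel_apply.2 (by simpa using hh))
    simp only [r, this]
  let c : MonoidAlgebra k G := ∑ x : G, if r x = x then single x (y.coeff x) else 0
  refine ⟨c, MonoidAlgebra.ext (Finsupp.ext fun x => ?_)⟩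
  have hinv : ∀ (h : G), h ∈ H → y.coeff (h * x) = y.coeff x := fun h hh => by
    have := congrArg (fun z : MonoidAlgebra k G => z.coeff (h * x)) (hy h hh)
    simpa [el, coeff_single_mul_apply] using this.symm
  have hc : ∀ z, c.coeff z = if r z = z then y.coeff z else 0 := fun z => by
    simp only [c, coeff_sum, Finsupp.coe_finset_sum, Finset.sum_apply]
    rw [Finset.sum_eq_single z]
    · split_ifs <;> simp
    · intro w _ hw
      split_ifs <;> simp [coeff_single, hw]
    · simp
  rw [hat_def, Finset.sum_mul, coeff_sum, Finsupp.coe_finset_sum, Finset.sum_apply,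
    Finset.sum_eq_single (⟨x * (r x)⁻¹, hr x⟩ : H)]
  · simp only [el, coeff_single_mul_apply, one_mul, hc]
    rw [show (x * (r x)⁻¹)⁻¹ * x = r x by group]
    have h1 : r (r x) = r x := by
      have := hrh (r x * x⁻¹) (by simpa using inv_mem (hr x)) x
      simpa using this
    rw [if_pos h1, show r x = (r x * x⁻¹) * x by group, hinv _ (by simpa using inv_mem (hr x))]
  · intro h _ hne
    simp only [el, coeff_single_mul_apply, one_mul, hc]
    rw [if_neg]
    intro he
    rw [hrh _ (inv_mem h.2)] at he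
    have h2 : (h : G) = x * ((h : G)⁻¹ * x)⁻¹ := by group
    rw [← he] at h2
    exact hne (Subtype.ext h2)
  · simp

omit [Finite G] in
theorem coeff_one_mul_comm [Fintype G] (a b : MonoidAlgebra k G) :
    (a * b).coeff 1 = (b * a).coeff 1 := by
  classical
  rw [coeff_mul_apply_left, coeff_mul_apply_left, Finsupp.sum_fintype _ _ (by simp),
    Finsupp.sum_fintype _ _ (by simp)]
  refine Fintype.sum_equiv (Equiv.inv G) _ _ fun x => ?_
  simp [mul_comm]

/-- trace from the trivial subgroup -/
noncomputable def trOne (a : MonoidAlgebra k G) : MonoidAlgebra k G :=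
  letI := Fintype.ofFinite G
  ∑ g : G, el g * a * el g⁻¹

theorem trOne_def [Fintype G] (a : MonoidAlgebra k G) :
    trOne a = ∑ g : G, el g * a * el g⁻¹ := by
  rw [trOne]
  convert rfl

omit [Finite G] in
theorem central_of_el {z : MonoidAlgebra k G} (h : ∀ g : G, el g * z = z * el g)
    (x : MonoidAlgebra k G) : x * z = z * x := by
  induction x using MonoidAlgebra.induction_on with
  | of g => exact h g
  | add a b ha hb => rw [add_mul, mul_add, ha, hb]
  | smul r a ha => rw [smul_mul_assoc, mul_smul_comm, ha]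

theorem trOne_central (a x : MonoidAlgebra k G) : x * trOne a = trOne a * x := by
  letI := Fintype.ofFinite G
  refine central_of_el (fun h => ?_) x
  rw [trOne_def, Finset.mul_sum, Finset.sum_mul]
  refine Fintype.sum_equiv (Equiv.mulLeft h) _ _ fun g => ?_
  simp only [Equiv.coe_mulLeft, ← mul_assoc, el_mul]
  rw [mul_assoc _ (el (h * g)⁻¹) (el h), el_mul]
  congr 2
  group

theorem coeff_one_trOne_mul (a x : MonoidAlgebra k G) :
    (trOne a * x).coeff 1 = (a * trOne x).coeff 1 := by
  letI := Fintype.ofFinite G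
  rw [trOne_def, trOne_def, Finset.sum_mul, Finset.mul_sum, coeff_sum, coeff_sum,
    Finsupp.coe_finset_sum, Finsupp.coe_finset_sum, Finset.sum_apply, Finset.sum_apply]
  refine Fintype.sum_equiv (Equiv.inv G) _ _ fun g => ?_
  rw [mul_assoc, mul_assoc, coeff_one_mul_comm]
  simp [mul_assoc]

/-- The properties of a reduced block idempotent of defect zero. -/
structure IsDZ (E : MonoidAlgebra k G) : Prop where
  central : ∀ x, x * E = E * x
  idem : E * E = E
  ne_zero : E ≠ 0
  trace : ∃ a, E = trOne a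
  scalar : ∀ z, (∀ x, x * z = z * x) → ∃ c : k, E * z = c • E

/-- A defect zero block is semiprime. -/
theorem IsDZ.eq_zero_of_forall_mul [IsDomain k] {E : MonoidAlgebra k G} (hE : IsDZ E)
    {x : MonoidAlgebra k G} (hx : E * x = x) (h : ∀ a, x * a * x = 0) : x = 0 := by
  letI := Fintype.ofFinite G
  have hzero : ∀ b, trOne (b * x) = 0 := by
    intro b
    have hsq : trOne (b * x) * trOne (b * x) = 0 := by
      rw [trOne_def, Finset.sum_mul_sum]
      refine Finset.sum_eq_zero fun g _ => Finset.sum_eq_zero fun h' _ => ?_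
      calc el g * (b * x) * el g⁻¹ * (el h' * (b * x) * el h'⁻¹)
          = el g * b * (x * (el g⁻¹ * el h' * b) * x) * el h'⁻¹ := by noncomm_ring
        _ = 0 := by rw [h]; simp
    have hEz : E * trOne (b * x) = trOne (b * x) := by
      rw [trOne_def, Finset.mul_sum]
      refine Finset.sum_congr rfl fun g _ => ?_
      rw [← mul_assoc, ← mul_assoc, ← hE.central, mul_assoc (el g) E, ← mul_assoc E b x, ← hE.central b,
        mul_assoc b E x, hx]
    obtain ⟨c, hc⟩ := hE.scalar _ (fun y => trOne_central _ y)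
    rw [hEz] at hc
    rw [hc] at hsq ⊢
    rw [smul_mul_smul_comm, hE.idem] at hsq
    by_cases hc0 : c = 0
    · rw [hc0, zero_smul]
    · exfalso
      apply hE.ne_zero
      ext g
      have := congrArg (fun z : MonoidAlgebra k G => z.coeff g) hsq
      simpa [hc0] using this
  obtain ⟨a, ha⟩ := hE.trace
  ext g
  have h1 : (E * (el g⁻¹ * x)).coeff 1 = 0 := by
    rw [ha, coeff_one_trOne_mul, hzero, mul_zero]
    simp
  rw [← mul_assoc, ← hE.central, mul_assoc, hx] at h1
  simpa [el, coeff_single_mul_apply] using h1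

theorem IsDZ.exists_mul_mul_ne_zero [IsDomain k] {E : MonoidAlgebra k G} (hE : IsDZ E)
    {x : MonoidAlgebra k G} (hx : E * x = x) (h0 : x ≠ 0) : ∃ a, x * a * x ≠ 0 := by
  by_contra h
  push Not at h
  exact h0 (hE.eq_zero_of_forall_mul hx h)

/-- A nonzero central idempotent is not killed by the sum of a `p`-subgroup. -/
theorem hat_mul_ne_zero {p : ℕ} [Fact p.Prime] [CharP k p] {E : MonoidAlgebra k G}
    (hidem : E * E = E) (hcen : ∀ x, x * E = E * x) (h0 : E ≠ 0) {H : Subgroup G}
    (hH : IsPGroup p H) : hat H * E ≠ 0 := by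
  classical
  cases nonempty_fintype G
  let Φ : (G → ZMod p) →+ MonoidAlgebra k G :=
    { toFun := fun f => ∑ g : G, (ZMod.castHom dvd_rfl k (f g)) • (el g * E)
      map_zero' := by simp
      map_add' := fun a b => by simp [add_smul, Finset.sum_add_distrib] }
  let W := Φ.range
  have hcl : ∀ (h : G) (w : MonoidAlgebra k G), w ∈ W → el h * w ∈ W := by
    rintro h _ ⟨f, rfl⟩
    refine ⟨fun g => f (h⁻¹ * g), ?_⟩
    show ∑ g : G, _ = el h * ∑ g : G, _
    rw [Finset.mul_sum]
    refine (Fintype.sum_equiv (Equiv.mulLeft h) _ _ fun g => ?_).symm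
    simp [mul_smul_comm, ← mul_assoc, el_mul]
  letI : MulAction H W :=
    { smul := fun h w => ⟨el (h : G) * w.1, hcl h w.1 w.2⟩
      one_smul := fun w => Subtype.ext (show el ((1 : H) : G) * w.1 = w.1 by simp [el_one])
      mul_smul := fun a b w => Subtype.ext (show el ((a * b : H) : G) * w.1 = el (a : G) * (el (b : G) * w.1) by
        rw [← mul_assoc, el_mul]; rfl) }
  haveI : Finite W := Finite.of_surjective _ Φ.rangeRestrict_surjective
  have hE : E ∈ W := ⟨Pi.single 1 1, by
    show ∑ g : G, _ = E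
    rw [Finset.sum_eq_single 1] <;> simp +contextual [el_one]⟩
  have hdvd : p ∣ Nat.card W := by
    have h1 : Nat.card W ∣ Nat.card (G → ZMod p) := AddSubgroup.card_range_dvd Φ
    rw [Nat.card_fun, Nat.card_zmod] at h1
    obtain ⟨i, -, hi⟩ := (Nat.dvd_prime_pow Fact.out).1 h1
    rcases i with _ | i
    · exfalso
      rw [pow_zero, Nat.card_eq_one_iff_unique] at hi
      have := hi.1.allEq ⟨E, hE⟩ 0
      exact h0 (congrArg Subtype.val this)
    · rw [hi]; exact dvd_pow_self p (by omega)
  have h0fix : (0 : W) ∈ MulAction.fixedPoints H W := fun h => Subtype.ext (mul_zero _)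
  obtain ⟨w, hw, hne⟩ := hH.exists_fixed_point_of_prime_dvd_card_of_fixed_point W hdvd h0fix
  have hwE : E * w.1 = w.1 := by
    obtain ⟨f, hf⟩ := w.2
    rw [← hf]
    show E * ∑ g : G, _ = ∑ g : G, _
    rw [Finset.mul_sum]
    refine Finset.sum_congr rfl fun g _ => ?_
    rw [mul_smul_comm, ← mul_assoc, ← hcen, mul_assoc, hidem]
  obtain ⟨c, hc⟩ := exists_eq_hat_mul (H := H) (y := w.1)
    fun h hh => congrArg Subtype.val (hw ⟨h, hh⟩)
  intro hzero
  apply hne
  apply Subtype.ext
  show (0 : MonoidAlgebra k G) = w.1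
  rw [← hwE, hc, ← mul_assoc, ← hcen, hzero, zero_mul]

end Cfsg.Agent.Lib.SteinbergBlock
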