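import Mathlib
import Cfsg.Agent.Lib.SteinbergBlock.Algebra

/-!
# Central idempotents and centralizers of p-subgroups

Orbit sums modulo `p`, and their consequences for the coefficients of central idempotents of a
modular group algebra.
-/

set_option autoImplicit false

namespace Cfsg.Agent.Lib.SteinbergBlock

open MonoidAlgebra
open scoped Classical

universe u v w

/-- Modulo `p` an invariant sum over a set with a `p`-group action is the sum over the fixed points. -/
theorem sum_eq_sum_fixed {Q : Type u} [Group Q] [Finite Q] {p : ℕ} [Fact p.Prime] (hQ : IsPGroup p Q)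
    {X : Type v} [Fintype X] [MulAction Q X] {k : Type w} [CommRing k] [CharP k p] (f : X → k)
    (hf : ∀ (q : Q) (x : X), f (q • x) = f x) :
    ∑ x : X, f x = ∑ x ∈ Finset.univ.filter (fun x => ∀ q : Q, q • x = x), f x := by
  set P : X → Prop := fun x => ∀ q : Q, q • x = x
  set s : Finset k := Finset.univ.image f
  rw [← Finset.sum_fiberwise_of_maps_to (t := s) (g := f) (fun x _ => Finset.mem_image_of_mem f (Finset.mem_univ x)),
    ← Finset.sum_fiberwise_of_maps_to (s := Finset.univ.filter P) (t := s) (g := f)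
      (fun x _ => Finset.mem_image_of_mem f (Finset.mem_univ x))]
  refine Finset.sum_congr rfl fun c _ => ?_
  rw [Finset.sum_congr rfl (fun x hx => (Finset.mem_filter.1 hx).2), Finset.sum_const,
    Finset.sum_congr rfl (s₁ := (Finset.univ.filter P).filter _) (fun x hx => (Finset.mem_filter.1 hx).2),
    Finset.sum_const, nsmul_eq_mul, nsmul_eq_mul]
  congr 1
  rw [CharP.natCast_eq_natCast k p]
  letI act : MulAction Q {x : X // f x = c} :=
    { smul := fun q x => ⟨q • x.1, (hf q x.1).trans x.2⟩
      one_smul := fun x => Subtype.ext (one_smul Q x.1)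
      mul_smul := fun a b x => Subtype.ext (mul_smul a b x.1) }
  have h1 := hQ.card_modEq_card_fixedPoints {x : X // f x = c}
  have e1 : Nat.card {x : X // f x = c} = (Finset.univ.filter fun x => f x = c).card := by
    rw [Nat.card_eq_fintype_card, Fintype.card_subtype]
  have e2 : Nat.card (MulAction.fixedPoints Q {x : X // f x = c}) =
      ((Finset.univ.filter P).filter fun x => f x = c).card := by
    rw [Nat.card_congr (Equiv.subtypeSubtypeEquivSubtypeExists _ _), Nat.card_eq_fintype_card,
      Fintype.card_subtype, Finset.filter_filter]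
    congr 1
    refine Finset.filter_congr fun x _ => ⟨fun ⟨hx, h⟩ => ⟨fun q => congrArg Subtype.val (h q), hx⟩,
      fun ⟨hp, hx⟩ => ⟨hx, fun q => Subtype.ext (hp q)⟩⟩
  rwa [e1, e2] at h1

variable {G : Type u} [Group G] [Finite G] {k : Type v} [Field k] {p : ℕ} [Fact p.Prime] [CharP k p]

omit [Finite G] [Fact p.Prime] [CharP k p] in
theorem coeff_conj {e : MonoidAlgebra k G} (hcen : ∀ x, x * e = e * x) (g x : G) :
    e.coeff (g * x * g⁻¹) = e.coeff x := by
  have := congrArg (fun z : MonoidAlgebra k G => z.coeff (g * x)) (hcen (el g))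
  simp only [el, coeff_single_mul_apply, coeff_mul_single_apply, inv_mul_cancel_left, one_mul, mul_one] at this
  exact this.symm

omit [Fact p.Prime] [CharP k p] in
theorem coeff_hat_mul (U : Subgroup G) (e : MonoidAlgebra k G) (g : G) [Fintype U] :
    (hat U * e).coeff g = ∑ u : U, e.coeff ((u : G) * g) := by
  rw [hat_def, Finset.sum_mul, coeff_sum, Finsupp.coe_finsetSum, Finset.sum_apply]
  refine Fintype.sum_equiv (Equiv.inv U) _ _ fun u => ?_
  simp [el, coeff_single_mul_apply]

/-- The product with the sum of a subgroup vanishes at the normalizer of a `p`-subgroup on whose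
centralizer a central element vanishes. -/
theorem coeff_hat_mul_eq_zero {e : MonoidAlgebra k G} (hcen : ∀ x, x * e = e * x) {U V : Subgroup G}
    (hVU : V ≤ U) (hV : IsPGroup p V) {g : G} (hg : ∀ v ∈ V, g * v * g⁻¹ ∈ V)
    (hzero : ∀ x ∈ Subgroup.centralizer (V : Set G), e.coeff x = 0) : (hat U * e).coeff g = 0 := by
  letI := Fintype.ofFinite U
  rw [coeff_hat_mul]
  letI act : MulAction V U :=
    { smul := fun v u => ⟨(v : G) * u * (g * (v : G)⁻¹ * g⁻¹),
        mul_mem (mul_mem (hVU v.2) u.2) (hVU (hg _ (inv_mem v.2)))⟩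
      one_smul := fun u => Subtype.ext (show ((1 : V) : G) * u * (g * ((1 : V) : G)⁻¹ * g⁻¹) = u by simp)
      mul_smul := fun a b u => Subtype.ext (show ((a * b : V) : G) * u * (g * ((a * b : V) : G)⁻¹ * g⁻¹) =
        (a : G) * ((b : G) * u * (g * (b : G)⁻¹ * g⁻¹)) * (g * (a : G)⁻¹ * g⁻¹) by
          rw [Subgroup.coe_mul]; group) }
  rw [sum_eq_sum_fixed hV (fun u : U => e.coeff ((u : G) * g)) ?_]
  · refine Finset.sum_eq_zero fun u hu => hzero _ (Subgroup.mem_centralizer_iff.2 fun v hv => ?_)
    have h1 : (v : G) * u * (g * v⁻¹ * g⁻¹) = u :=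
      congrArg Subtype.val ((Finset.mem_filter.1 hu).2 ⟨v, hv⟩)
    calc v * ((u : G) * g) = v * u * (g * v⁻¹ * g⁻¹) * g * v := by group
      _ = _ := by rw [h1]
  · intro v u
    show e.coeff ((v : G) * u * (g * (v : G)⁻¹ * g⁻¹) * g) = _
    rw [show (v : G) * u * (g * (v : G)⁻¹ * g⁻¹) * g = (v : G) * ((u : G) * g) * (v : G)⁻¹ by group,
      coeff_conj hcen]

/-- The coefficient at one of a product of two central elements is computed on a centralizer. -/
theorem coeff_mul_eq_sum_centralizer [Fintype G] {a b : MonoidAlgebra k G} (ha : ∀ x, x * a = a * x)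
    (hb : ∀ x, x * b = b * x) {Q : Subgroup G} (hQ : IsPGroup p Q) {x : G}
    (hx : x ∈ Subgroup.centralizer (Q : Set G)) :
    (a * b).coeff x = ∑ y ∈ Finset.univ.filter (fun y => y ∈ Subgroup.centralizer (Q : Set G)),
      a.coeff y * b.coeff (y⁻¹ * x) := by
  rw [coeff_mul_apply_left, Finsupp.sum_fintype _ _ (by simp)]
  letI act : MulAction Q G :=
    { smul := fun q y => (q : G) * y * (q : G)⁻¹
      one_smul := fun y => show ((1 : Q) : G) * y * ((1 : Q) : G)⁻¹ = y by simp
      mul_smul := fun s t y => show ((s * t : Q) : G) * y * ((s * t : Q) : G)⁻¹ =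
        (s : G) * ((t : G) * y * (t : G)⁻¹) * (s : G)⁻¹ by rw [Subgroup.coe_mul]; group }
  rw [sum_eq_sum_fixed hQ (fun y : G => a.coeff y * b.coeff (y⁻¹ * x)) ?_]
  · refine Finset.sum_congr ?_ fun _ _ => rfl
    ext y
    simp only [Finset.mem_filter, Finset.mem_univ, true_and]
    refine ⟨fun h => Subgroup.mem_centralizer_iff.2 fun q hq => ?_, fun h q => ?_⟩
    · exact mul_inv_eq_iff_eq_mul.1 (h ⟨q, hq⟩)
    · show (q : G) * y * (q : G)⁻¹ = y
      rw [Subgroup.mem_centralizer_iff.1 h q.1 q.2, mul_inv_cancel_right]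
  · intro q y
    show a.coeff ((q : G) * y * (q : G)⁻¹) * b.coeff (((q : G) * y * (q : G)⁻¹)⁻¹ * x) = _
    rw [coeff_conj ha]
    congr 1
    have hqx : (q : G) * x * (q : G)⁻¹ = x := by
      rw [Subgroup.mem_centralizer_iff.1 hx q.1 q.2, mul_inv_cancel_right]
    have e1 : ((q : G) * y * (q : G)⁻¹)⁻¹ * ((q : G) * x * (q : G)⁻¹) = (q : G) * (y⁻¹ * x) * (q : G)⁻¹ := by
      group
    rw [hqx] at e1
    rw [e1, coeff_conj hb]

/-- On a centralizer that is a `p`-group a central idempotent is zero or one. -/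
theorem coeff_centralizer_cases {e : MonoidAlgebra k G} (hcen : ∀ x, x * e = e * x) (hidem : e * e = e)
    {Q : Subgroup G} (hQ : IsPGroup p Q) (hC : IsPGroup p (Subgroup.centralizer (Q : Set G))) :
    (∀ x ∈ Subgroup.centralizer (Q : Set G), e.coeff x = 0) ∨
      ∀ x ∈ Subgroup.centralizer (Q : Set G), e.coeff x = (1 : MonoidAlgebra k G).coeff x := by
  set H := Subgroup.centralizer (Q : Set G)
  cases nonempty_fintype G
  set f : MonoidAlgebra k H := ∑ y : H, single y (e.coeff (y : G))
  have hcoef : ∀ y : H, f.coeff y = e.coeff (y : G) := fun y => by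
    simp [f, coeff_sum, Finsupp.coe_finsetSum, Finset.sum_apply, coeff_single, Finsupp.single_apply]
  have hf : f * f = f := MonoidAlgebra.ext (Finsupp.ext fun y => by
    rw [hcoef]
    conv_rhs => rw [← hidem]
    rw [coeff_mul_eq_sum_centralizer hcen hcen hQ y.2, coeff_mul_apply_left,
      Finsupp.sum_fintype _ _ (by simp)]
    simp only [hcoef]
    exact (Finset.sum_subtype _ (fun z => by simp [H]) (fun z => e.coeff z * e.coeff (z⁻¹ * (y : G)))).symm)
  have hfc : ∀ z, z * f = f * z := central_of_el fun y => MonoidAlgebra.ext (Finsupp.ext fun z => by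
    simp only [el, coeff_single_mul_apply, coeff_mul_single_apply, one_mul, mul_one, hcoef]
    rw [show (((z * y⁻¹ : H)) : G) = (y : G) * ((y⁻¹ * z : H) : G) * (y : G)⁻¹ by
      simp [mul_assoc], coeff_conj hcen])
  have htop : IsPGroup p (⊤ : Subgroup H) := hC.to_subgroup ⊤
  set ε : k := ∑ y : H, f.coeff y
  have hε : (hat (⊤ : Subgroup H) : MonoidAlgebra k H) * f = ε • hat (⊤ : Subgroup H) := by
    have hdec : f = ∑ y : H, f.coeff y • el y := MonoidAlgebra.ext (Finsupp.ext fun y => by
      simp [el, coeff_sum, Finsupp.coe_finsetSum, Finset.sum_apply, coeff_single, Finsupp.single_apply])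
    conv_lhs => rw [hdec]
    rw [Finset.mul_sum, Finset.sum_smul]
    exact Finset.sum_congr rfl fun y _ => by rw [mul_smul_comm, hat_mul_el (Subgroup.mem_top y)]
  have hhat : (hat (⊤ : Subgroup H) : MonoidAlgebra k H) ≠ 0 := by
    intro h0
    exact hat_mul_ne_zero (p := p) (E := (1 : MonoidAlgebra k H)) (one_mul 1) (fun z => by simp)
      one_ne_zero htop (by rw [h0, zero_mul])
  have hεε : (ε * ε - ε) • (hat (⊤ : Subgroup H) : MonoidAlgebra k H) = 0 := by
    rw [sub_smul, mul_smul, ← hε, ← smul_mul_assoc, ← hε, mul_assoc, hf, sub_self]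
  have hε01 : ε = 0 ∨ ε = 1 := by
    have h := (smul_eq_zero.1 hεε).resolve_right hhat
    rcases mul_eq_zero.1 (show ε * (ε - 1) = 0 by linear_combination h) with h | h
    · exact Or.inl h
    · exact Or.inr (sub_eq_zero.1 h)
  rcases hε01 with h | h
  · left
    have h0 : f = 0 := by_contra fun hne => hat_mul_ne_zero (p := p) hf hfc hne htop (by rw [hε, h, zero_smul])
    intro x hx
    have := hcoef ⟨x, hx⟩
    rw [h0] at this
    simpa using this.symm
  · right
    have h0 : (1 - f : MonoidAlgebra k H) = 0 := by_contra fun hne =>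
      hat_mul_ne_zero (p := p) (E := 1 - f)
        (by rw [mul_sub, sub_mul, sub_mul, one_mul, mul_one, hf]; simp)
        (fun z => by rw [mul_sub, sub_mul, mul_one, one_mul, hfc]) hne htop
        (by rw [mul_sub, mul_one, hε, h, one_smul, sub_self])
    intro x hx
    have := hcoef ⟨x, hx⟩
    rw [← sub_eq_zero.1 h0, MonoidAlgebra.one_def, coeff_single, Finsupp.single_apply] at this
    rw [← this]
    simp [MonoidAlgebra.one_def, coeff_single, Finsupp.single_apply, Subtype.ext_iff, eq_comm]

/-- Two central elements equal to one on the centralizer of a `p`-subgroup have nonzero product. -/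
theorem mul_ne_zero_of_coeff_centralizer {a b : MonoidAlgebra k G} (ha : ∀ x, x * a = a * x)
    (hb : ∀ x, x * b = b * x) {Q : Subgroup G} (hQ : IsPGroup p Q)
    (ha1 : ∀ x ∈ Subgroup.centralizer (Q : Set G), a.coeff x = (1 : MonoidAlgebra k G).coeff x)
    (hb1 : ∀ x ∈ Subgroup.centralizer (Q : Set G), b.coeff x = (1 : MonoidAlgebra k G).coeff x) : a * b ≠ 0 := by
  cases nonempty_fintype G
  intro h
  have h1 := coeff_mul_eq_sum_centralizer ha hb hQ (one_mem (Subgroup.centralizer (Q : Set G)))
  rw [h, Finset.sum_eq_single (1 : G)] at h1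
  · rw [ha1 1 (one_mem _), inv_one, one_mul, hb1 1 (one_mem _)] at h1
    simp [MonoidAlgebra.one_def] at h1
  · intro y hy hy1
    rw [ha1 y (Finset.mem_filter.1 hy).2, MonoidAlgebra.one_def, coeff_single, Finsupp.single_eq_of_ne hy1,
      zero_mul]
  · intro hn
    exact absurd (Finset.mem_filter.2 ⟨Finset.mem_univ _, one_mem _⟩) hn

end Cfsg.Agent.Lib.SteinbergBlock
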