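import Mathlib
import Cfsg.Agent.Lib.GLFlags.Bruhat

/-!
# Unitriangular, diagonal and monomial elements of `SL_n(F)`
-/

set_option autoImplicit false

namespace Cfsg.Agent.Lib.SteinbergBlock

open Matrix

universe u

variable {n : ℕ} {F : Type u} [Field F] [Fintype F]

/-- special linear group -/
abbrev SLn (n : ℕ) (F : Type u) [Field F] : Type u := Matrix.SpecialLinearGroup (Fin n) F

section vals
variable {ι : Type*} [Fintype ι] [DecidableEq ι]

omit [Fintype F] in
theorem val_mul (a b : Matrix.SpecialLinearGroup ι F) : (a * b).1 = a.1 * b.1 := rfl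

omit [Fintype F] in
theorem val_one : (1 : Matrix.SpecialLinearGroup ι F).1 = 1 := rfl

omit [Fintype F] in
theorem val_pow (a : Matrix.SpecialLinearGroup ι F) (m : ℕ) : (a ^ m).1 = a.1 ^ m :=
  Matrix.SpecialLinearGroup.coe_pow a m

end vals

/-- a submonoid of a finite group as a subgroup -/
def subgroupOfClosed {G : Type*} [Group G] [Finite G] (s : Set G) (h1 : (1 : G) ∈ s)
    (hmul : ∀ a b, a ∈ s → b ∈ s → a * b ∈ s) : Subgroup G where
  carrier := s
  one_mem' := h1
  mul_mem' := fun {a b} ha hb => hmul a b ha hb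
  inv_mem' := fun {a} ha => by
    have hpow : ∀ m : ℕ, a ^ m ∈ s := fun m => by
      induction m with
      | zero => rwa [pow_zero]
      | succ m ih => rw [pow_succ]; exact hmul _ _ ih ha
    have : a⁻¹ = a ^ (orderOf a - 1) := by
      refine inv_eq_of_mul_eq_one_right ?_
      rw [← pow_succ', Nat.sub_add_cancel (orderOf_pos a), pow_orderOf_eq_one]
    rw [this]
    exact hpow _

/-- upper unitriangular with prescribed vanishing above the diagonal -/
def IsShape (S : Fin n → Fin n → Prop) (g : SLn n F) : Prop :=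
  (∀ i, g.1 i i = 1) ∧ ∀ i j, i ≠ j → g.1 i j ≠ 0 → i < j ∧ S i j

theorem shape_mul {S : Fin n → Fin n → Prop}
    (hS : ∀ i k j, i < k → k < j → S i k → S k j → S i j) {a b : SLn n F}
    (ha : IsShape S a) (hb : IsShape S b) : IsShape S (a * b) := by
  constructor
  · intro i
    rw [val_mul, Matrix.mul_apply, Finset.sum_eq_single i]
    · rw [ha.1, hb.1, one_mul]
    · intro k _ hk
      by_contra h
      obtain ⟨h1, h2⟩ := mul_ne_zero_iff.1 h
      exact lt_asymm (ha.2 i k (Ne.symm hk) h1).1 (hb.2 k i hk h2).1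
    · simp
  · intro i j hij h
    rw [val_mul, Matrix.mul_apply] at h
    obtain ⟨k, -, hk⟩ := Finset.exists_ne_zero_of_sum_ne_zero h
    obtain ⟨h1, h2⟩ := mul_ne_zero_iff.1 hk
    rcases eq_or_ne i k with rfl | hik
    · exact hb.2 i j hij h2
    rcases eq_or_ne k j with rfl | hkj
    · exact ha.2 i k hik h1
    obtain ⟨l1, s1⟩ := ha.2 i k hik h1
    obtain ⟨l2, s2⟩ := hb.2 k j hkj h2
    exact ⟨l1.trans l2, hS i k j l1 l2 s1 s2⟩

theorem shape_one (S : Fin n → Fin n → Prop) : IsShape S (1 : SLn n F) :=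
  ⟨fun i => by simp, fun i j hij h => absurd (by simp [hij]) h⟩

/-- subgroup of unitriangular elements with entries in a transitive set of places -/
def shapeGroup (S : Fin n → Fin n → Prop)
    (hS : ∀ i k j, i < k → k < j → S i k → S k j → S i j) : Subgroup (SLn n F) :=
  subgroupOfClosed {g | IsShape S g} (shape_one S) fun _ _ ha hb => shape_mul hS ha hb

theorem mem_shapeGroup {S : Fin n → Fin n → Prop}
    {hS : ∀ i k j, i < k → k < j → S i k → S k j → S i j} {g : SLn n F} :
    g ∈ shapeGroup S hS ↔ IsShape S g := Iff.rfl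

/-- upper unitriangular group -/
def upU (n : ℕ) (F : Type u) [Field F] [Fintype F] : Subgroup (SLn n F) :=
  shapeGroup (fun _ _ => True) (fun _ _ _ _ _ _ _ => trivial)

/-- inversion subgroup of a permutation -/
def invU (w : Equiv.Perm (Fin n)) (F : Type u) [Field F] [Fintype F] : Subgroup (SLn n F) :=
  shapeGroup (fun i j => w.symm j < w.symm i) fun _ _ _ _ _ h1 h2 => h2.trans h1

/-- kernel of the `(i, i+1)` coordinate -/
def radU (i i' : Fin n) (h : (i' : ℕ) = i + 1) (F : Type u) [Field F] [Fintype F] : Subgroup (SLn n F) :=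
  shapeGroup (fun a b => ¬ (a = i ∧ b = i')) fun a k b h1 h2 _ _ hab => by
    obtain ⟨rfl, rfl⟩ := hab
    have := Fin.lt_def.1 h1
    have := Fin.lt_def.1 h2
    omega

theorem mem_upU {g : SLn n F} :
    g ∈ upU n F ↔ (∀ i, g.1 i i = 1) ∧ ∀ i j, j < i → g.1 i j = 0 := by
  refine ⟨fun h => ⟨h.1, fun i j hji => ?_⟩, fun h => ⟨h.1, fun i j hij hne => ⟨?_, trivial⟩⟩⟩
  · by_contra hne
    exact lt_asymm hji (h.2 i j hji.ne' hne).1
  · exact (lt_or_gt_of_ne hij).resolve_right fun hji => hne (h.2 i j hji)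

theorem shapeGroup_le_upU {S : Fin n → Fin n → Prop}
    {hS : ∀ i k j, i < k → k < j → S i k → S k j → S i j} :
    shapeGroup S hS ≤ upU n F := fun _ h => ⟨h.1, fun i j hij hne => ⟨(h.2 i j hij hne).1, trivial⟩⟩

theorem isPGroup_upU (p : ℕ) [Fact p.Prime] [CharP F p] : IsPGroup p (upU n F) := by
  intro g
  obtain ⟨a, ha⟩ : ∃ a, n ≤ p ^ a := ⟨n, (Nat.lt_pow_self (Fact.out : p.Prime).one_lt).le⟩
  refine ⟨a, ?_⟩
  have hN : ∀ (k : ℕ) (i j : Fin n), (j : ℕ) < i + k →
      ((g.1.1 - 1 : Matrix (Fin n) (Fin n) F) ^ k) i j = 0 := by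
    intro k
    induction k with
    | zero =>
      intro i j h
      rw [pow_zero, Matrix.one_apply_ne]
      intro e; subst e; simp at h
    | succ k ih =>
      intro i j h
      rw [pow_succ, Matrix.mul_apply]
      refine Finset.sum_eq_zero fun l _ => ?_
      rcases Nat.lt_or_ge (l : ℕ) (i + k) with hl | hl
      · rw [ih i l hl, zero_mul]
      · rw [Matrix.sub_apply]
        rcases lt_trichotomy j l with hjl | rfl | hjl
        · rw [(mem_upU.1 g.2).2 l j hjl, Matrix.one_apply_ne hjl.ne', sub_zero, mul_zero]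
        · rw [(mem_upU.1 g.2).1 j, Matrix.one_apply_eq, sub_self, mul_zero]
        · have := Fin.lt_def.1 hjl; omega
  apply Subtype.ext; apply Subtype.ext
  rw [SubmonoidClass.coe_pow, val_pow, OneMemClass.coe_one, val_one]
  rcases Nat.eq_zero_or_pos n with rfl | hn
  · ext i; exact i.elim0
  haveI : Nonempty (Fin n) := ⟨⟨0, hn⟩⟩
  have h0 : (g.1.1 - 1 : Matrix (Fin n) (Fin n) F) ^ p ^ a = 0 := by
    ext i j; exact hN _ i j (by omega)
  have h1 : ((g.1.1 - 1) + 1 : Matrix (Fin n) (Fin n) F) ^ p ^ a = 1 := by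
    rw [add_pow_char_pow_of_commute p a (Commute.one_right _),
      h0, one_pow, zero_add]
  rwa [sub_add_cancel] at h1

/-- monomial element with permutation `w` -/
def IsMono (g : SLn n F) (w : Equiv.Perm (Fin n)) : Prop := ∀ a b, a ≠ w b → g.1 a b = 0

omit [Fintype F] in
theorem IsMono.apply_ne {g : SLn n F} {w : Equiv.Perm (Fin n)} (h : IsMono g w) (b : Fin n) :
    g.1 (w b) b ≠ 0 := by
  intro h0
  have : (g.1).det = 0 := Matrix.det_eq_zero_of_column_eq_zero b fun a => by
    by_cases ha : a = w b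
    · rw [ha, h0]
    · exact h a b ha
  rw [g.2] at this
  exact one_ne_zero this

omit [Fintype F] in
theorem IsMono.one : IsMono (1 : SLn n F) 1 := fun a b h => by
  simp [Matrix.one_apply_ne (show a ≠ b from h)]

omit [Fintype F] in
theorem IsMono.mul {g h : SLn n F} {w v : Equiv.Perm (Fin n)} (hg : IsMono g w) (hh : IsMono h v) :
    IsMono (g * h) (w * v) := by
  intro a b hab
  rw [val_mul, Matrix.mul_apply]
  refine Finset.sum_eq_zero fun k _ => ?_
  by_cases hk : k = v b
  · subst hk; rw [hg a (v b) hab, zero_mul]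
  · rw [hh k b hk, mul_zero]

omit [Fintype F] in
theorem IsMono.mul_apply_right {g : SLn n F} {w : Equiv.Perm (Fin n)} (hg : IsMono g w)
    (A : SLn n F) (a b : Fin n) : (A * g).1 a b = A.1 a (w b) * g.1 (w b) b := by
  rw [val_mul, Matrix.mul_apply, Finset.sum_eq_single (w b)]
  · intro k _ hk; rw [hg k b hk, mul_zero]
  · simp

omit [Fintype F] in
theorem IsMono.mul_apply_left {g : SLn n F} {w : Equiv.Perm (Fin n)} (hg : IsMono g w)
    (A : SLn n F) (a b : Fin n) : (g * A).1 (w a) b = g.1 (w a) a * A.1 a b := by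
  rw [val_mul, Matrix.mul_apply, Finset.sum_eq_single a]
  · intro k _ hk; rw [hg (w a) k (fun e => hk (w.injective e).symm), zero_mul]
  · simp

omit [Fintype F] in
theorem IsMono.conj_entry {g : SLn n F} {w : Equiv.Perm (Fin n)} (hg : IsMono g w)
    (A : SLn n F) (a b : Fin n) :
    (g * A * g⁻¹).1 (w a) (w b) * g.1 (w b) b = g.1 (w a) a * A.1 a b := by
  rw [← hg.mul_apply_right, inv_mul_cancel_right, hg.mul_apply_left]

omit [Fintype F] in
theorem IsMono.conj_diag {g : SLn n F} {w : Equiv.Perm (Fin n)} (hg : IsMono g w)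
    (A : SLn n F) (a : Fin n) : (g * A * g⁻¹).1 (w a) (w a) = A.1 a a :=
  mul_right_cancel₀ (hg.apply_ne a) ((hg.conj_entry A a a).trans (mul_comm _ _))

omit [Fintype F] in
theorem IsMono.conj_ne {g : SLn n F} {w : Equiv.Perm (Fin n)} (hg : IsMono g w)
    (A : SLn n F) (a b : Fin n) : (g * A * g⁻¹).1 (w a) (w b) ≠ 0 ↔ A.1 a b ≠ 0 := by
  have h := hg.conj_entry A a b
  constructor
  · intro h1 h2
    rw [h2, mul_zero] at h
    exact mul_ne_zero h1 (hg.apply_ne b) h
  · intro h1 h2
    rw [h2, zero_mul] at h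
    exact mul_ne_zero (hg.apply_ne a) h1 h.symm

/-- conjugation of shaped elements -/
theorem IsMono.conj_shape {g : SLn n F} {w : Equiv.Perm (Fin n)} (hg : IsMono g w)
    {S S' : Fin n → Fin n → Prop} {A : SLn n F} (hA : IsShape S A)
    (h : ∀ a b, a < b → S a b → A.1 a b ≠ 0 → w a < w b ∧ S' (w a) (w b)) :
    IsShape S' (g * A * g⁻¹) := by
  constructor
  · intro i
    obtain ⟨a, rfl⟩ := w.surjective i
    rw [hg.conj_diag, hA.1]
  · intro i j hij hne
    obtain ⟨a, rfl⟩ := w.surjective i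
    obtain ⟨b, rfl⟩ := w.surjective j
    rw [hg.conj_ne] at hne
    obtain ⟨h1, h2⟩ := hA.2 a b (fun e => hij (by rw [e])) hne
    exact h a b h1 h2 hne

omit [Fintype F] in
theorem IsMono.inv {g : SLn n F} {w : Equiv.Perm (Fin n)} (hg : IsMono g w) :
    IsMono g⁻¹ w⁻¹ := by
  intro a b hab
  have h := hg.mul_apply_left g⁻¹ a b
  rw [mul_inv_cancel, val_one, Matrix.one_apply_ne] at h
  · exact ((mul_eq_zero.1 h.symm).resolve_left (hg.apply_ne a))
  · intro e; exact hab (by rw [← e]; simp)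

/-- diagonal subgroup -/
def torus (n : ℕ) (F : Type u) [Field F] [Fintype F] : Subgroup (SLn n F) :=
  subgroupOfClosed {g | IsMono g 1} IsMono.one fun _ _ ha hb => by
    have := ha.mul hb; rwa [one_mul] at this

theorem mem_torus {g : SLn n F} : g ∈ torus n F ↔ IsMono g 1 := Iff.rfl

theorem torus_comm {s t : SLn n F} (hs : s ∈ torus n F) (ht : t ∈ torus n F) : s * t = t * s := by
  apply Subtype.ext
  ext a b
  rw [IsMono.mul_apply_right (mem_torus.1 ht) s a b, IsMono.mul_apply_right (mem_torus.1 hs) t a b]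
  show s.1 a b * t.1 b b = t.1 a b * s.1 b b
  by_cases hab : a = b
  · subst hab; ring
  · rw [hs a b hab, ht a b hab]; ring

theorem IsMono.conj_torus {g : SLn n F} {w : Equiv.Perm (Fin n)} (hg : IsMono g w) {t : SLn n F}
    (ht : t ∈ torus n F) : g * t * g⁻¹ ∈ torus n F := by
  intro a b hab
  obtain ⟨a, rfl⟩ := w.surjective a
  obtain ⟨b, rfl⟩ := w.surjective b
  by_contra h
  rw [← ne_eq, hg.conj_ne] at h
  exact h (ht a b fun e => hab (congrArg w e))

theorem torus_normalizes {S : Fin n → Fin n → Prop}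
    {hS : ∀ i k j, i < k → k < j → S i k → S k j → S i j} {t : SLn n F} (ht : t ∈ torus n F)
    {g : SLn n F} (hg : g ∈ shapeGroup S hS) : t * g * t⁻¹ ∈ shapeGroup S hS :=
  IsMono.conj_shape (mem_torus.1 ht) hg fun _ _ h h' _ => ⟨h, h'⟩

section rank1

variable (i i' : Fin n) (h : (i' : ℕ) = i + 1)

include h in
theorem ne_succ : i ≠ i' := fun e => by subst e; omega

/-- split the indices into `{i, i+1}` and the rest -/
def pairEquiv : Fin n ≃ Fin 2 ⊕ {a : Fin n // a ≠ i ∧ a ≠ i'} where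
  toFun a := if h1 : a = i then .inl 0 else if h2 : a = i' then .inl 1 else .inr ⟨a, h1, h2⟩
  invFun x := Sum.elim ![i, i'] Subtype.val x
  left_inv a := by
    by_cases h1 : a = i
    · simp [h1]
    · by_cases h2 : a = i'
      · subst h2; simp [h1]
      · simp [h1, h2]
  right_inv x := by
    rcases x with j | ⟨a, h1, h2⟩
    · fin_cases j
      · simp
      · simp [Ne.symm (ne_succ i i' h)]
    · simp [h1, h2]

/-- embedded `SL_2` -/
noncomputable def sl2 : SpecialLinearGroup (Fin 2) F →* SLn n F where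
  toFun A := ⟨(Matrix.fromBlocks A.1 0 0 1).submatrix (pairEquiv i i' h) (pairEquiv i i' h), by
    rw [Matrix.det_submatrix_equiv_self, Matrix.det_fromBlocks_zero₂₁, A.2, Matrix.det_one, one_mul]⟩
  map_one' := Subtype.ext (by simp [Matrix.submatrix_one_equiv])
  map_mul' A B := Subtype.ext (by
    show (Matrix.fromBlocks (A.1 * B.1) 0 0 1).submatrix _ _ = _ * _
    simp [Matrix.submatrix_mul_equiv, Matrix.fromBlocks_multiply])

omit [Fintype F] in
theorem sl2_apply (A : SpecialLinearGroup (Fin 2) F) :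
    ((sl2 i i' h A).1 i i = A.1 0 0 ∧ (sl2 i i' h A).1 i i' = A.1 0 1 ∧
      (sl2 i i' h A).1 i' i = A.1 1 0 ∧ (sl2 i i' h A).1 i' i' = A.1 1 1) ∧
      ∀ a b, ¬ ((a = i ∨ a = i') ∧ (b = i ∨ b = i')) →
        (sl2 i i' h A).1 a b = if a = b then 1 else 0 := by
  have hne := ne_succ i i' h
  refine ⟨⟨?_, ?_, ?_, ?_⟩, fun a b hab => ?_⟩
  iterate 4 (show (Matrix.fromBlocks A.1 0 0 1) (pairEquiv i i' h _) (pairEquiv i i' h _) = _; simp [pairEquiv, Ne.symm hne])
  show (Matrix.fromBlocks A.1 0 0 1) (pairEquiv i i' h a) (pairEquiv i i' h b) = _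
  by_cases a1 : a = i
  · subst a1
    push Not at hab
    obtain ⟨b1, b2⟩ := hab (Or.inl rfl)
    simp [pairEquiv, b1, b2, Ne.symm b1]
  by_cases a2 : a = i'
  · subst a2
    push Not at hab
    obtain ⟨b1, b2⟩ := hab (Or.inr rfl)
    simp [pairEquiv, a1, b1, b2, Ne.symm b2]
  by_cases b1 : b = i
  · subst b1; simp [pairEquiv, a1, a2]
  by_cases b2 : b = i'
  · subst b2; simp [pairEquiv, a1, a2, b1]
  simp [pairEquiv, a1, a2, b1, b2, Matrix.one_apply]

/-- upper unipotent of `SL_2` -/
def x2 (t : F) : SpecialLinearGroup (Fin 2) F := ⟨!![1, t; 0, 1], by simp [Matrix.det_fin_two]⟩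

/-- Weyl element of `SL_2` -/
def w2 : SpecialLinearGroup (Fin 2) F := ⟨!![0, 1; -1, 0], by simp [Matrix.det_fin_two]⟩

/-- torus element of `SL_2` -/
def d2 (c : Fˣ) : SpecialLinearGroup (Fin 2) F :=
  ⟨!![(c : F), 0; 0, ((c⁻¹ : Fˣ) : F)], by simp [Matrix.det_fin_two]⟩

omit [Fintype F] in
theorem x2_val (t : F) : (x2 t).1 = !![1, t; 0, 1] := rfl

omit [Fintype F] in
theorem w2_val : (w2 : SpecialLinearGroup (Fin 2) F).1 = !![0, 1; -1, 0] := rfl

omit [Fintype F] in
theorem d2_val (c : Fˣ) : (d2 c).1 = !![(c : F), 0; 0, ((c⁻¹ : Fˣ) : F)] := rfl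

omit [Fintype F] in
theorem x2_zero : x2 (0 : F) = 1 :=
  Subtype.ext (by rw [x2_val, val_one]; ext a b; fin_cases a <;> fin_cases b <;> simp)

omit [Fintype F] in
theorem d2_mul_inv (c : Fˣ) : d2 c * d2 c⁻¹ = 1 := by
  apply Subtype.ext
  rw [val_mul, val_one, d2_val, d2_val]
  ext a b; fin_cases a <;> fin_cases b <;> simp [Matrix.mul_apply, Fin.sum_univ_two]

omit [Fintype F] in
theorem x2_mul (s t : F) : x2 s * x2 t = x2 (s + t) := by
  apply Subtype.ext
  rw [val_mul, x2_val, x2_val, x2_val]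
  ext a b; fin_cases a <;> fin_cases b <;> simp [Matrix.mul_apply, Fin.sum_univ_two, add_comm]

omit [Fintype F] in
theorem w2_sq : (w2 : SpecialLinearGroup (Fin 2) F) * w2 = d2 (-1) := by
  apply Subtype.ext
  rw [val_mul, w2_val, d2_val]
  ext a b; fin_cases a <;> fin_cases b <;> simp [Matrix.mul_apply, Fin.sum_univ_two]

omit [Fintype F] in
theorem w2_x2_w2 (c : Fˣ) :
    w2 * x2 (-((c⁻¹ : Fˣ) : F)) * w2 = x2 (c : F) * d2 c * w2 * x2 (c : F) := by
  apply Subtype.ext
  simp only [val_mul, w2_val, d2_val, x2_val]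
  ext a b
  fin_cases a <;> fin_cases b <;>
    simp [Matrix.mul_apply, Fin.sum_univ_two]

/-- root element -/
noncomputable abbrev root (t : F) : SLn n F := sl2 i i' h (x2 t)
/-- simple Weyl representative -/
noncomputable abbrev nsimp : SLn n F := sl2 i i' h w2
/-- coroot -/
noncomputable abbrev coroot (c : Fˣ) : SLn n F := sl2 i i' h (d2 c)

theorem coroot_mem (c : Fˣ) : coroot i i' h c ∈ torus n F := by
  intro a b hab
  obtain ⟨⟨h1, h2, h3, h4⟩, h5⟩ := sl2_apply i i' h (d2 c)
  change a ≠ b at hab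
  by_cases hin : (a = i ∨ a = i') ∧ (b = i ∨ b = i')
  · rcases hin with ⟨rfl | rfl, rfl | rfl⟩
    · exact absurd rfl hab
    · rw [h2]; simp [d2]
    · rw [h3]; simp [d2]
    · exact absurd rfl hab
  · rw [h5 a b hin, if_neg hab]

omit [Fintype F] in
theorem nsimp_mono : IsMono (nsimp i i' h : SLn n F) (Equiv.swap i i') := by
  intro a b hab
  obtain ⟨⟨h1, h2, h3, h4⟩, h5⟩ := sl2_apply i i' h (w2 : SpecialLinearGroup (Fin 2) F)
  by_cases hin : (a = i ∨ a = i') ∧ (b = i ∨ b = i')
  · rcases hin with ⟨rfl | rfl, rfl | rfl⟩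
    · rw [h1]; simp [w2]
    · simp at hab
    · simp at hab
    · rw [h4]; simp [w2]
  · rw [h5 a b hin, if_neg]
    rintro rfl
    apply hin
    by_cases a1 : a = i
    · exact ⟨Or.inl a1, Or.inl a1⟩
    · by_cases a2 : a = i'
      · exact ⟨Or.inr a2, Or.inr a2⟩
      · exact absurd (Equiv.swap_apply_of_ne_of_ne a1 a2).symm hab

/-- root subgroup -/
noncomputable def rootGroup : Subgroup (SLn n F) :=
  subgroupOfClosed (Set.range (root i i' h)) ⟨0, by
    show sl2 i i' h (x2 0) = 1
    rw [x2_zero, map_one]⟩ (by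
    rintro _ _ ⟨s, rfl⟩ ⟨t, rfl⟩
    exact ⟨s + t, by rw [root, ← x2_mul, map_mul]⟩)

omit [Fintype F] in
theorem root_injective : Function.Injective (root i i' h : F → SLn n F) := by
  intro s t e
  have e' := congrArg (fun g : SLn n F => g.1 i i') e
  simpa [(sl2_apply i i' h (x2 s)).1.2.1, (sl2_apply i i' h (x2 t)).1.2.1, x2] using e'

theorem isShape_root (t : F) {S : Fin n → Fin n → Prop} (hSi : S i i') :
    IsShape S (root i i' h t) := by
  obtain ⟨⟨h1, h2, h3, h4⟩, h5⟩ := sl2_apply i i' h (x2 t)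
  constructor
  · intro a
    by_cases a1 : a = i
    · subst a1; rw [h1]; simp [x2]
    by_cases a2 : a = i'
    · subst a2; rw [h4]; simp [x2]
    rw [h5 a a (by tauto), if_pos rfl]
  · intro a b hab hne
    by_cases hin : (a = i ∨ a = i') ∧ (b = i ∨ b = i')
    · rcases hin with ⟨rfl | rfl, rfl | rfl⟩
      · exact absurd rfl hab
      · exact ⟨Fin.lt_def.2 (by omega), hSi⟩
      · rw [h3] at hne; simp [x2] at hne
      · exact absurd rfl hab
    · rw [h5 a b hin, if_neg hab] at hne
      exact absurd rfl hne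

theorem rootGroup_le_upU : rootGroup i i' h ≤ upU n F := by
  rintro _ ⟨t, rfl⟩
  exact isShape_root i i' h t trivial

include h in
/-- the `(i,i+1)` entry is additive on the unitriangular group -/
theorem entry_mul {a b : SLn n F} (ha : a ∈ upU n F) (hb : b ∈ upU n F) :
    (a * b).1 i i' = a.1 i i' + b.1 i i' := by
  rw [mem_upU] at ha hb
  rw [val_mul, Matrix.mul_apply,
    Fintype.sum_eq_add i i' (ne_succ i i' h) (fun k hk => ?_), ha.1, hb.1, one_mul, mul_one, add_comm]
  rcases lt_or_gt_of_ne hk.1 with hlt | hgt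
  · rw [ha.2 i k hlt, zero_mul]
  · have : i' < k := Fin.lt_def.2 (by
      have := Fin.lt_def.1 hgt
      have := Fin.val_ne_iff.2 hk.2
      omega)
    rw [hb.2 k i' this, mul_zero]

theorem mem_radU {g : SLn n F} : g ∈ radU i i' h F ↔ g ∈ upU n F ∧ g.1 i i' = 0 := by
  refine ⟨fun hg => ⟨shapeGroup_le_upU hg, ?_⟩, fun hg => ⟨(mem_upU.1 hg.1).1, fun a b hab hne => ?_⟩⟩
  · by_contra h0
    exact (hg.2 i i' (ne_succ i i' h) h0).2 ⟨rfl, rfl⟩
  · exact ⟨(hg.1.2 a b hab hne).1, fun e => hne (by rw [e.1, e.2, hg.2])⟩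

theorem exists_root_mul_rad {g : SLn n F} (hg : g ∈ upU n F) :
    ∃ a ∈ rootGroup i i' h, ∃ b ∈ radU i i' h F, g = a * b := by
  set c := g.1 i i'
  have hm : root i i' h (-c) ∈ upU n F := rootGroup_le_upU i i' h ⟨-c, rfl⟩
  refine ⟨root i i' h c, ⟨c, rfl⟩, root i i' h (-c) * g,
    (mem_radU i i' h).2 ⟨mul_mem hm hg, ?_⟩, ?_⟩
  · rw [entry_mul i i' h hm hg, (sl2_apply i i' h (x2 (-c))).1.2.1]
    simp [x2, c]
  · rw [← mul_assoc, root, root, ← map_mul, x2_mul, add_neg_cancel,
      x2_zero,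
      map_one, one_mul]

theorem rootGroup_inf_radU : rootGroup i i' h ⊓ radU i i' h F = ⊥ := by
  rw [eq_bot_iff]
  rintro g hg
  obtain ⟨⟨t, rfl⟩, h2⟩ := Subgroup.mem_inf.1 hg
  have h0 := ((mem_radU i i' h).1 h2).2
  rw [(sl2_apply i i' h (x2 t)).1.2.1] at h0
  have ht : t = 0 := by simpa [x2] using h0
  subst ht
  rw [Subgroup.mem_bot]
  show sl2 i i' h (x2 0) = 1
  rw [x2_zero, map_one]

theorem upU_normalizes_radU {u g : SLn n F} (hu : u ∈ upU n F) (hg : g ∈ radU i i' h F) :
    u * g * u⁻¹ ∈ radU i i' h F := by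
  obtain ⟨hg1, hg2⟩ := (mem_radU i i' h).1 hg
  refine (mem_radU i i' h).2 ⟨mul_mem (mul_mem hu hg1) (inv_mem hu), ?_⟩
  have h1 := entry_mul i i' h (mul_mem (mul_mem hu hg1) (inv_mem hu)) hu
  rw [inv_mul_cancel_right, entry_mul i i' h hu hg1, hg2, add_zero] at h1
  exact right_eq_add.1 h1

include h in
theorem swap_lt {a b : Fin n} (hab : a < b) (hne : ¬ (a = i ∧ b = i')) :
    Equiv.swap i i' a < Equiv.swap i i' b := by
  have := Fin.lt_def.1 hab
  simp only [Equiv.swap_apply_def]
  split_ifs with h1 h2 h3 h4 h5 h6 <;> rw [Fin.lt_def] <;>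
    simp only [Fin.ext_iff, not_and] at * <;> omega

theorem nsimp_conj_radU {g : SLn n F} (hg : g ∈ radU i i' h F) :
    nsimp i i' h * g * (nsimp i i' h)⁻¹ ∈ radU i i' h F ∧
      (nsimp i i' h)⁻¹ * g * nsimp i i' h ∈ radU i i' h F := by
  constructor
  · refine (nsimp_mono i i' h).conj_shape hg fun a b hab hS _ => ⟨swap_lt i i' h hab hS, fun e => ?_⟩
    have ha : a = i' := by rw [← Equiv.swap_apply_self i i' a, e.1, Equiv.swap_apply_left]
    have hb : b = i := by rw [← Equiv.swap_apply_self i i' b, e.2, Equiv.swap_apply_right]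
    subst ha hb
    have := Fin.lt_def.1 hab
    omega
  · have h1 : IsMono (nsimp i i' h : SLn n F)⁻¹ (Equiv.swap i i') := by
      simpa [Equiv.swap_inv] using (nsimp_mono i i' h (F := F)).inv
    have := h1.conj_shape (S' := fun a b => ¬ (a = i ∧ b = i')) hg fun a b hab hS _ =>
      ⟨swap_lt i i' h hab hS, fun e => ?_⟩
    · rwa [inv_inv] at this
    · have ha : a = i' := by rw [← Equiv.swap_apply_self i i' a, e.1, Equiv.swap_apply_left]
      have hb : b = i := by rw [← Equiv.swap_apply_self i i' b, e.2, Equiv.swap_apply_right]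
      subst ha hb
      have := Fin.lt_def.1 hab
      omega

end rank1

/-- The diagonal group is generated by the coroots. -/
theorem torus_induction {p : SLn n F → Prop} (h1 : p 1) (hmul : ∀ a b, p a → p b → p (a * b))
    (hco : ∀ (i i' : Fin n) (h : (i' : ℕ) = i + 1) (c : Fˣ), p (coroot i i' h c)) :
    ∀ t ∈ torus n F, p t := by
  suffices key : ∀ (k : ℕ) (t : SLn n F), t ∈ torus n F → (∀ a : Fin n, k < a → t.1 a a = 1) → p t from
    fun t ht => key n t ht fun a ha => absurd a.2 (by omega)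
  intro k
  induction k with
  | zero =>
    intro t ht hfix
    have : t = 1 := by
      apply Subtype.ext
      have hdiag : t.1 = Matrix.diagonal fun a => t.1 a a := by
        ext a b
        by_cases hab : a = b
        · subst hab; simp
        · rw [Matrix.diagonal_apply_ne _ hab, ht a b hab]
      have hdet := t.2
      rw [hdiag, Matrix.det_diagonal] at hdet
      ext a b
      by_cases hab : a = b
      · subst hab
        rw [val_one, Matrix.one_apply_eq]
        by_cases ha : (0 : ℕ) < a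
        · exact hfix a ha
        · rwa [Fintype.prod_eq_single a (fun b hb => hfix b (by
            have := Fin.val_ne_iff.2 hb; omega))] at hdet
      · rw [ht a b hab, val_one, Matrix.one_apply_ne hab]
    rw [this]; exact h1
  | succ k ih =>
    intro t ht hfix
    by_cases hk : k + 1 < n
    · let i : Fin n := ⟨k, by omega⟩
      let i' : Fin n := ⟨k + 1, hk⟩
      have hc : t.1 i' i' ≠ 0 := IsMono.apply_ne (mem_torus.1 ht) i'
      let c : Fˣ := Units.mk0 _ hc
      have hmem := coroot_mem (F := F) i i' rfl c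
      have hp := ih (t * coroot i i' rfl c) (mul_mem ht hmem) fun a ha => by
        rw [IsMono.mul_apply_right (mem_torus.1 hmem)]
        show t.1 a a * _ = 1
        obtain ⟨⟨-, -, -, e4⟩, e5⟩ := sl2_apply i i' rfl (d2 c)
        by_cases hai : a = i'
        · rw [hai]
          show t.1 i' i' * (coroot i i' rfl c).1 i' i' = 1
          rw [e4]; simp [d2, c, hc]
        · have h1' : a ≠ i := fun e => by simp [e, i] at ha
          show t.1 a a * (coroot i i' rfl c).1 a a = 1
          rw [e5 a a (by tauto), if_pos rfl, mul_one]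
          refine hfix a ?_
          have := Fin.val_ne_iff.2 hai
          simp only [i'] at this
          omega
      have := hmul _ _ hp (hco i i' rfl c⁻¹)
      rwa [mul_assoc, coroot, coroot, ← map_mul, d2_mul_inv,
        map_one, mul_one] at this
    · exact ih t ht fun a ha => absurd a.2 (by omega)

/-- Bruhat decomposition in `SL_n` with unitriangular factors. -/
theorem exists_bruhat_sl (g : SLn n F) :
    ∃ u ∈ upU n F, ∃ u' ∈ upU n F, ∃ (w : Equiv.Perm (Fin n)) (m : SLn n F),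
      IsMono m w ∧ g = u * m * u' := by
  obtain ⟨w, b, hb, b', hb', e⟩ := GLFlags.exists_bruhat (SpecialLinearGroup.toGL g)
  rw [GLFlags.mem_upperTriangularGL_iff] at hb hb'
  have hdet : ∀ c : GL (Fin n) F, (∀ i j : Fin n, j < i → c.val i j = 0) → ∀ i, c.val i i ≠ 0 := by
    intro c hc i h0
    have h1 : c.val.det ≠ 0 := ((Matrix.isUnit_iff_isUnit_det _).1 c.isUnit).ne_zero
    rw [Matrix.det_of_upperTriangular (fun a d h => hc a d h)] at h1
    exact h1 (Finset.prod_eq_zero (Finset.mem_univ i) h0)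
  let db : Fin n → F := fun i => b.val i i
  let db' : Fin n → F := fun i => b'.val i i
  let U₁ : Matrix (Fin n) (Fin n) F := b.val * Matrix.diagonal fun i => (db i)⁻¹
  let U₂ : Matrix (Fin n) (Fin n) F := (Matrix.diagonal fun i => (db' i)⁻¹) * b'.val
  have hU1e : ∀ a c, U₁ a c = b.val a c * (db c)⁻¹ := fun a c => Matrix.mul_diagonal _ _ _ _
  have hU2e : ∀ a c, U₂ a c = (db' a)⁻¹ * b'.val a c := fun a c => Matrix.diagonal_mul _ _ _ _
  have h1lo : ∀ a c, c < a → U₁ a c = 0 := fun a c h => by rw [hU1e, hb a c h, zero_mul]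
  have h2lo : ∀ a c, c < a → U₂ a c = 0 := fun a c h => by rw [hU2e, hb' a c h, mul_zero]
  have h1di : ∀ a, U₁ a a = 1 := fun a => by rw [hU1e]; exact mul_inv_cancel₀ (hdet b hb a)
  have h2di : ∀ a, U₂ a a = 1 := fun a => by rw [hU2e]; exact inv_mul_cancel₀ (hdet b' hb' a)
  have d1 : U₁.det = 1 := by
    rw [Matrix.det_of_upperTriangular (fun a c h => h1lo a c h)]; simp [h1di]
  have d2' : U₂.det = 1 := by
    rw [Matrix.det_of_upperTriangular (fun a c h => h2lo a c h)]; simp [h2di]
  let u : SLn n F := ⟨U₁, d1⟩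
  let u' : SLn n F := ⟨U₂, d2'⟩
  refine ⟨u, mem_upU.2 ⟨h1di, h1lo⟩, u', mem_upU.2 ⟨h2di, h2lo⟩, w, u⁻¹ * g * u'⁻¹, ?_, by group⟩
  have heq : (u⁻¹ * g * u'⁻¹).1 =
      Matrix.diagonal db * (GLFlags.permGL w : GL (Fin n) F).val * Matrix.diagonal db' := by
    have hb1 : b.val = U₁ * Matrix.diagonal db := by
      simp only [U₁]
      rw [Matrix.mul_assoc, Matrix.diagonal_mul_diagonal,
        show (fun i => (db i)⁻¹ * db i) = fun _ => (1 : F) from
          funext fun i => inv_mul_cancel₀ (hdet b hb i), Matrix.diagonal_one, mul_one]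
    have hb2 : b'.val = Matrix.diagonal db' * U₂ := by
      simp only [U₂]
      rw [← Matrix.mul_assoc, Matrix.diagonal_mul_diagonal,
        show (fun i => db' i * (db' i)⁻¹) = fun _ => (1 : F) from
          funext fun i => mul_inv_cancel₀ (hdet b' hb' i), Matrix.diagonal_one, one_mul]
    have hg : g.1 = b.val * (GLFlags.permGL w : GL (Fin n) F).val * b'.val :=
      congrArg Units.val e
    rw [hb1, hb2] at hg
    have hu : (u⁻¹).1 * U₁ = 1 := congrArg Subtype.val (inv_mul_cancel u)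
    have hu' : U₂ * (u'⁻¹).1 = 1 := congrArg Subtype.val (mul_inv_cancel u')
    rw [val_mul, val_mul, hg]
    calc (u⁻¹).1 * (U₁ * Matrix.diagonal db * (GLFlags.permGL w : GL (Fin n) F).val *
          (Matrix.diagonal db' * U₂)) * (u'⁻¹).1
        = ((u⁻¹).1 * U₁) * (Matrix.diagonal db * (GLFlags.permGL w : GL (Fin n) F).val *
          Matrix.diagonal db') * (U₂ * (u'⁻¹).1) := by simp only [Matrix.mul_assoc]
      _ = _ := by rw [hu, hu', one_mul, mul_one]
  intro a c hac
  rw [heq, Matrix.mul_diagonal, Matrix.diagonal_mul, GLFlags.permGL_apply, if_neg hac, mul_zero,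
    zero_mul]

theorem exists_mono_rev : ∃ m : SLn n F, IsMono m (Fin.revPerm : Equiv.Perm (Fin n)) := by
  classical
  rcases Nat.eq_zero_or_pos n with rfl | hn
  · exact ⟨1, fun a => a.elim0⟩
  let z : Fin n := ⟨0, hn⟩
  let ε : F := ((Equiv.Perm.sign (Fin.revPerm : Equiv.Perm (Fin n)) : ℤ) : F)
  let A : Matrix (Fin n) (Fin n) F :=
    (1 : Matrix (Fin n) (Fin n) F).submatrix (Fin.revPerm : Equiv.Perm (Fin n)) id *
      Matrix.diagonal (fun b => if b = z then ε else 1)
  have hA : A.det = 1 := by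
    simp only [A]
    rw [Matrix.det_mul, Matrix.det_permute, Matrix.det_one, Matrix.det_diagonal,
      Fintype.prod_eq_single z (fun b hb => if_neg hb), if_pos rfl]
    simp only [ε, mul_one, ← Int.cast_mul, ← Units.val_mul, Int.units_mul_self]
    simp
  refine ⟨⟨A, hA⟩, fun a b hab => ?_⟩
  show A a b = 0
  simp only [A, Matrix.mul_diagonal, Matrix.submatrix_apply, id, Matrix.one_apply]
  rw [if_neg, zero_mul]
  intro e
  exact hab (by rw [← e]; simp)

theorem eq_revPerm {w : Equiv.Perm (Fin n)} (h : ∀ a b : Fin n, a < b → w b < w a) :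
    w = Fin.revPerm := by
  have hmono : StrictMono fun a : Fin n => Fin.rev (w a) := fun a b hab =>
    Fin.rev_lt_rev.2 (h a b hab)
  have h2 : (fun a : Fin n => Fin.rev (w a)) = id :=
    (StrictMono.range_inj hmono strictMono_id).1 (by
      rw [Set.range_id]; exact (Fin.rev_surjective.comp w.surjective).range_eq)
  ext a
  have h3 : Fin.rev (w a) = a := congrFun h2 a
  rw [← Fin.rev_rev (w a), h3]; rfl

end Cfsg.Agent.Lib.SteinbergBlock
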