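import Mathlib
import Cfsg.Agent.Lib.SteinbergBlock.Algebra
import Cfsg.Agent.Lib.SteinbergBlock.Groups

/-!
# The Hecke element of the Steinberg block of `SL_n(F)` in characteristic `p`
-/

set_option autoImplicit false

namespace Cfsg.Agent.Lib.SteinbergBlock

open MonoidAlgebra
open scoped Classical

universe u v

variable {n : ℕ} {F : Type u} [Field F] [Fintype F] {k : Type v} [Field k]

/-- sum over the Borel `T` part -/
noncomputable abbrev tHat (n : ℕ) (F : Type u) [Field F] [Fintype F] (k : Type v) [Field k] :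
    MonoidAlgebra k (SLn n F) := hat (torus n F)

/-- the longest monomial element -/
noncomputable def n0 (n : ℕ) (F : Type u) [Field F] [Fintype F] : SLn n F :=
  (exists_mono_rev (n := n) (F := F)).choose

theorem n0_mono : IsMono (n0 n F) Fin.revPerm := (exists_mono_rev (n := n) (F := F)).choose_spec

/-- `Û n₀ Û` -/
noncomputable def vEl (n : ℕ) (F : Type u) [Field F] [Fintype F] (k : Type v) [Field k] :
    MonoidAlgebra k (SLn n F) := hat (upU n F) * el (n0 n F) * hat (upU n F)

/-- `T̂ Û n₀ Û` -/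
noncomputable def pEl (n : ℕ) (F : Type u) [Field F] [Fintype F] (k : Type v) [Field k] :
    MonoidAlgebra k (SLn n F) := tHat n F k * vEl n F k

section simple

variable (i i' : Fin n) (h : (i' : ℕ) = i + 1)

/-- `Û_s n_s` -/
noncomputable def qEl (k : Type v) [Field k] : MonoidAlgebra k (SLn n F) :=
  hat (rootGroup i i' h) * el (nsimp i i' h)

theorem root_mem (t : F) : root i i' h t ∈ rootGroup i i' h := ⟨t, rfl⟩

theorem hat_root : (hat (rootGroup i i' h) : MonoidAlgebra k (SLn n F)) =
    ∑ t : F, el (root i i' h t) := by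
  classical
  letI := Fintype.ofFinite (rootGroup i i' h (F := F))
  rw [hat_def]
  let f : F → rootGroup i i' h (F := F) := fun t => ⟨root i i' h t, t, rfl⟩
  have hf : Function.Bijective f :=
    ⟨fun s t e => root_injective i i' h (congrArg Subtype.val e), fun x => by
      obtain ⟨t, ht⟩ := x.2
      exact ⟨t, Subtype.ext ht⟩⟩
  exact (Fintype.sum_bijective f hf _ _ fun _ => rfl).symm

theorem torus_mul_hat {S : Fin n → Fin n → Prop}
    {hS : ∀ a c b, a < c → c < b → S a c → S c b → S a b} {t : SLn n F} (ht : t ∈ torus n F) :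
    (el t : MonoidAlgebra k (SLn n F)) * hat (shapeGroup S hS) = hat (shapeGroup S hS) * el t :=
  el_mul_hat_of_normalizes fun _ hg => torus_normalizes ht hg

theorem torus_mul_hat_root {t : SLn n F} (ht : t ∈ torus n F) :
    (el t : MonoidAlgebra k (SLn n F)) * hat (rootGroup i i' h) = hat (rootGroup i i' h) * el t := by
  refine el_mul_hat_of_normalizes fun g hg => ?_
  obtain ⟨a, ha, b, hb, e⟩ := exists_root_mul_rad i i' h
    (shapeGroup_le_upU (torus_normalizes ht (rootGroup_le_upU i i' h hg) : t * g * t⁻¹ ∈ upU n F))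
  obtain ⟨s, rfl⟩ := hg
  -- the conjugate has entries only at `(i, i+1)`
  have hsh : IsShape (fun a b => a = i ∧ b = i') (t * root i i' h s * t⁻¹) :=
    IsMono.conj_shape (mem_torus.1 ht) (isShape_root i i' h s (S := fun a b => a = i ∧ b = i')
      ⟨rfl, rfl⟩) fun _ _ h1 h2 _ => ⟨h1, h2⟩
  refine ⟨(t * root i i' h s * t⁻¹).1 i i', ?_⟩
  apply Subtype.ext
  ext x y
  obtain ⟨⟨h1, h2, h3, h4⟩, h5⟩ := sl2_apply i i' h (x2 ((t * root i i' h s * t⁻¹).1 i i'))
  have hne := ne_succ i i' h
  by_cases hxy : x = y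
  · subst hxy
    rw [hsh.1]
    exact (isShape_root i i' h _ (S := fun _ _ => True) trivial).1 x
  · by_cases hii : x = i ∧ y = i'
    · obtain ⟨rfl, rfl⟩ := hii
      rw [h2]; simp [x2_val]
    · have z1 : (t * root i i' h s * t⁻¹).1 x y = 0 := by
        by_contra hh; exact hii (hsh.2 x y hxy hh).2
      have z2 : (root i i' h ((t * root i i' h s * t⁻¹).1 i i')).1 x y = 0 := by
        by_contra hh
        exact hii ((isShape_root i i' h _ (S := fun a b => a = i ∧ b = i') ⟨rfl, rfl⟩).2 x y hxy hh).2
      rw [z1, z2]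

/-- moving a torus element through `q` -/
theorem q_mul_torus {t : SLn n F} (ht : t ∈ torus n F) :
    qEl i i' h k * el t = el (nsimp i i' h * t * (nsimp i i' h)⁻¹) * qEl i i' h k := by
  rw [qEl, ← mul_assoc, torus_mul_hat_root i i' h ((nsimp_mono i i' h).conj_torus ht), mul_assoc,
    mul_assoc, el_mul, el_mul, inv_mul_cancel_right]

theorem q_mul_tHat : qEl i i' h k * tHat n F k = tHat n F k * qEl i i' h k := by
  rw [qEl, mul_assoc, el_mul_hat_of_normalizes (fun _ ht => (nsimp_mono i i' h).conj_torus ht),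
    ← mul_assoc, ← mul_assoc]
  congr 1
  letI := Fintype.ofFinite (torus n F)
  show _ = hat (torus n F) * hat (rootGroup i i' h)
  rw [hat_def (torus n F), Finset.mul_sum, Finset.sum_mul]
  exact Finset.sum_congr rfl fun t _ => (torus_mul_hat_root i i' h t.2).symm

end simple

theorem card_pgroup_eq_zero {p : ℕ} [Fact p.Prime] [CharP k p] {G : Type*} [Group G] [Finite G] (hG : IsPGroup p G) [Nontrivial G] :
    (Nat.card G : k) = 0 := by
  rw [CharP.cast_eq_zero_iff k p]
  obtain ⟨a, ha, e⟩ := hG.nontrivial_iff_card.1 inferInstance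
  rw [e]
  exact dvd_pow_self p (by omega)

section simple

variable (i i' : Fin n) (h : (i' : ℕ) = i + 1)

/-- The quadratic relation on vectors fixed by the unitriangular group. -/
theorem q_quadratic {p : ℕ} [Fact p.Prime] [CharP F p] [CharP k p] {y : MonoidAlgebra k (SLn n F)} (hy : LFix (upU n F) y) :
    qEl i i' h k * (qEl i i' h k * y) =
      (∑ c : Fˣ, el (coroot i i' h c)) * (qEl i i' h k * y) := by
  classical
  have hlf : LFix (rootGroup i i' h) y := hy.mono (rootGroup_le_upU i i' h)
  have hcard : (Nat.card (rootGroup i i' h (F := F)) : k) = 0 := by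
    haveI : Nontrivial (rootGroup i i' h (F := F)) :=
      ⟨⟨⟨_, 0, rfl⟩, ⟨_, 1, rfl⟩, fun e => zero_ne_one (root_injective i i' h (congrArg Subtype.val e))⟩⟩
    exact card_pgroup_eq_zero (p := p) ((isPGroup_upU p).to_le (rootGroup_le_upU i i' h))
  have hexp : qEl i i' h k * (qEl i i' h k * y) =
      ∑ t : F, hat (rootGroup i i' h) * (el (sl2 i i' h (w2 * x2 t * w2)) * y) := by
    have e0 : ∀ z : MonoidAlgebra k (SLn n F),
        qEl i i' h k * z = hat (rootGroup i i' h) * (el (nsimp i i' h) * z) := fun z => mul_assoc _ _ _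
    have e1 : qEl i i' h k * y = ∑ t : F, el (root i i' h t) * (el (nsimp i i' h) * y) := by
      rw [e0, hat_root i i' h (k := k), Finset.sum_mul]
    rw [e0, e1, Finset.mul_sum, Finset.mul_sum]
    refine Finset.sum_congr rfl fun t _ => ?_
    rw [← mul_assoc (el (nsimp i i' h)), ← mul_assoc (el (nsimp i i' h) * el (root i i' h t)),
      el_mul, el_mul, map_mul, map_mul]
  rw [hexp, ← Finset.add_sum_erase _ _ (Finset.mem_univ (0 : F)), x2_zero, mul_one, w2_sq]
  have hfirst : hat (rootGroup i i' h) * (el (coroot i i' h (-1 : Fˣ)) * y) = 0 := by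
    rw [← mul_assoc, ← torus_mul_hat_root i i' h (coroot_mem i i' h _), mul_assoc, hat_mul_lfix hlf,
      hcard, zero_smul, mul_zero]
  rw [show sl2 i i' h (d2 (-1 : Fˣ)) = coroot i i' h (-1 : Fˣ) from rfl, hfirst, zero_add,
    Finset.sum_mul]
  refine Finset.sum_bij' (fun t ht => -(Units.mk0 t (Finset.ne_of_mem_erase ht))⁻¹)
    (fun c _ => -((c⁻¹ : Fˣ) : F)) (fun _ _ => Finset.mem_univ _)
    (fun c _ => Finset.mem_erase.2 ⟨neg_ne_zero.2 (Units.ne_zero _), Finset.mem_univ _⟩)
    (fun t ht => by simp [inv_neg]) (fun c _ => Units.ext (by simp [inv_neg])) (fun t ht => ?_)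
  set c : Fˣ := -(Units.mk0 t (Finset.ne_of_mem_erase ht))⁻¹
  have ht' : t = -((c⁻¹ : Fˣ) : F) := by simp [c, inv_neg]
  rw [show w2 * x2 t * w2 = x2 (c : F) * d2 c * w2 * x2 (c : F) by rw [ht']; exact w2_x2_w2 c]
  simp only [map_mul, ← el_mul, ← mul_assoc]
  rw [hat_mul_el (root_mem i i' h (c : F)), ← torus_mul_hat_root i i' h (coroot_mem i i' h c)]
  simp only [mul_assoc]
  rw [hlf (root i i' h (c : F)) (root_mem i i' h (c : F)), qEl, mul_assoc]

theorem coroot_sub_one_mul_sum (d : Fˣ) :
    ((el (coroot i i' h d) : MonoidAlgebra k (SLn n F)) - 1) * (∑ c : Fˣ, el (coroot i i' h c)) = 0 := by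
  classical
  rw [sub_mul, one_mul, sub_eq_zero, Finset.mul_sum]
  refine Fintype.sum_equiv (Equiv.mulLeft d) _ _ fun c => ?_
  rw [el_mul, coroot, coroot, ← map_mul]
  congr 2
  apply Subtype.ext
  rw [val_mul, d2_val, d2_val, Equiv.coe_mulLeft, d2_val]
  ext a b; fin_cases a <;> fin_cases b <;> simp [Matrix.mul_apply, Fin.sum_univ_two, mul_comm]

theorem tHat_mul_sum : tHat n F k * (∑ c : Fˣ, el (coroot i i' h c)) =
    (Nat.card Fˣ : k) • tHat n F k := by
  classical
  rw [Finset.mul_sum, Finset.sum_congr rfl fun c _ => hat_mul_el (coroot_mem i i' h c),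
    Finset.sum_const, Finset.card_univ, Nat.card_eq_fintype_card, Nat.cast_smul_eq_nsmul]

/-- `v = q y` with `y` fixed by the unitriangular group. -/
theorem exists_v_eq_q_mul : ∃ y : MonoidAlgebra k (SLn n F),
    LFix (upU n F) y ∧ vEl n F k = qEl i i' h k * y := by
  classical
  set ns : SLn n F := nsimp i i' h
  set m := ns⁻¹ * n0 n F
  refine ⟨hat (radU i i' h F) * el m * hat (upU n F), fun g hg => ?_, ?_⟩
  · obtain ⟨a, ha, b, hb, rfl⟩ := exists_root_mul_rad i i' h hg
    rw [← el_mul, mul_assoc]
    have hbfix : (el b : MonoidAlgebra k (SLn n F)) * (hat (radU i i' h F) * el m * hat (upU n F)) =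
        hat (radU i i' h F) * el m * hat (upU n F) := by
      rw [← mul_assoc, ← mul_assoc, lfix_hat _ b hb]
    rw [hbfix]
    have ham : m⁻¹ * a * m ∈ upU n F := by
      obtain ⟨s, rfl⟩ := ha
      have h1 : IsMono ns⁻¹ (Equiv.swap i i') := by
        have := (nsimp_mono (F := F) i i' h).inv
        rwa [Equiv.swap_inv] at this
      have hm : IsMono m⁻¹ (Equiv.swap i i' * (Fin.revPerm : Equiv.Perm (Fin n)))⁻¹ :=
        (h1.mul n0_mono).inv
      have e1 : (Equiv.swap i i' * (Fin.revPerm : Equiv.Perm (Fin n)))⁻¹ i = Fin.rev i' := by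
        rw [Equiv.Perm.inv_eq_iff_eq, Equiv.Perm.mul_apply, Fin.revPerm_apply, Fin.rev_rev,
          Equiv.swap_apply_right]
      have e2 : (Equiv.swap i i' * (Fin.revPerm : Equiv.Perm (Fin n)))⁻¹ i' = Fin.rev i := by
        rw [Equiv.Perm.inv_eq_iff_eq, Equiv.Perm.mul_apply, Fin.revPerm_apply, Fin.rev_rev,
          Equiv.swap_apply_left]
      have h2 := hm.conj_shape (S' := fun _ _ => True)
        (isShape_root i i' h s (S := fun x y => x = i ∧ y = i') ⟨rfl, rfl⟩) fun x y _ hxy _ => by
          obtain ⟨rfl, rfl⟩ := hxy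
          rw [e1, e2]
          exact ⟨Fin.rev_lt_rev.2 (Fin.lt_def.2 (by omega)), trivial⟩
      rw [inv_inv] at h2
      exact h2
    rw [← mul_assoc, ← mul_assoc, el_mul_hat_of_normalizes
      (fun r hr => upU_normalizes_radU i i' h (rootGroup_le_upU i i' h ha) hr),
      mul_assoc (hat (radU i i' h F)), el_mul, show a * m = m * (m⁻¹ * a * m) by group, ← el_mul,
      mul_assoc, mul_assoc, lfix_hat _ _ ham, ← mul_assoc]
  · have e : (el ns : MonoidAlgebra k (SLn n F)) * hat (radU i i' h F) =
        hat (radU i i' h F) * el ns :=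
      el_mul_hat_of_normalizes fun r hr => (nsimp_conj_radU i i' h hr).1
    have hU : (hat (upU n F) : MonoidAlgebra k (SLn n F)) =
        hat (rootGroup i i' h) * hat (radU i i' h F) :=
      hat_eq_mul (rootGroup_le_upU i i' h) shapeGroup_le_upU (rootGroup_inf_radU i i' h)
        fun g hg => exists_root_mul_rad i i' h hg
    have hnm : (el ns : MonoidAlgebra k (SLn n F)) * el m = el (n0 n F) := by
      rw [el_mul]; congr 1; exact mul_inv_cancel_left ns (n0 n F)
    symm
    calc qEl i i' h k * (hat (radU i i' h F) * el m * hat (upU n F))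
        = hat (rootGroup i i' h) * ((el ns * hat (radU i i' h F)) * el m) * hat (upU n F) := by
          simp only [qEl, ns, mul_assoc]
      _ = hat (rootGroup i i' h) * (hat (radU i i' h F) * (el ns * el m)) * hat (upU n F) := by
          rw [e, mul_assoc (hat (radU i i' h F))]
      _ = vEl n F k := by
          rw [hnm, ← mul_assoc, ← hU]
          rfl

/-- `q` preserves left fixed vectors. -/
theorem lfix_q_mul {y : MonoidAlgebra k (SLn n F)} (hy : LFix (upU n F) y) :
    LFix (upU n F) (qEl i i' h k * y) := by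
  intro g hg
  obtain ⟨a, ha, b, hb, rfl⟩ := exists_root_mul_rad i i' h hg
  rw [← el_mul, mul_assoc]
  have hb' : el b * (qEl i i' h k * y) = qEl i i' h k * y := by
    classical
    have hc := (nsimp_conj_radU i i' h hb).2
    rw [qEl, hat_root i i' h (k := k)]
    simp only [Finset.sum_mul, Finset.mul_sum]
    refine Finset.sum_congr rfl fun t _ => ?_
    have hc2 : (nsimp i i' h)⁻¹ * ((root i i' h t)⁻¹ * b * root i i' h t) * nsimp i i' h ∈ upU n F := by
      refine shapeGroup_le_upU (nsimp_conj_radU i i' h ?_).2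
      have := upU_normalizes_radU i i' h (inv_mem (rootGroup_le_upU i i' h ⟨t, rfl⟩ :
        root i i' h t ∈ upU n F)) hb
      rwa [inv_inv] at this
    calc el b * (el (root i i' h t) * el (nsimp i i' h) * y)
        = el (root i i' h t) * el (nsimp i i' h) *
          (el ((nsimp i i' h)⁻¹ * ((root i i' h t)⁻¹ * b * root i i' h t) * nsimp i i' h) * y) := by
          simp only [← mul_assoc, el_mul]
          congr 2
          group
      _ = _ := by rw [hy _ hc2]
  rw [hb', qEl, ← mul_assoc, ← mul_assoc, lfix_hat _ a ha]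

end simple

variable (n F k) in
/-- the span of `t Û n₀ Û` -/
noncomputable def vSpan : Submodule k (MonoidAlgebra k (SLn n F)) :=
  Submodule.span k (Set.range fun t : torus n F => el (t : SLn n F) * vEl n F k)

theorem lfix_vEl : LFix (upU n F) (vEl n F k) :=
  ((lfix_hat _).mul _).mul _

theorem tHat_comm {t : SLn n F} (ht : t ∈ torus n F) :
    (el t : MonoidAlgebra k (SLn n F)) * tHat n F k = tHat n F k ∧
      tHat n F k * el t = tHat n F k :=
  ⟨lfix_hat _ t ht, hat_mul_el ht⟩

theorem invU_rev : invU (Fin.revPerm : Equiv.Perm (Fin n)) F = upU n F := by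
  refine le_antisymm shapeGroup_le_upU fun g hg => ⟨hg.1, fun x y hxy hne => ?_⟩
  refine ⟨(hg.2 x y hxy hne).1, ?_⟩
  simpa [Fin.revPerm_symm] using Fin.rev_lt_rev.2 (hg.2 x y hxy hne).1

theorem pEl_ne_zero : pEl n F k ≠ 0 := by
  classical
  intro hzero
  have h := congrArg (fun z : MonoidAlgebra k (SLn n F) => z.coeff (n0 n F)) hzero
  letI := Fintype.ofFinite (torus n F)
  letI := Fintype.ofFinite (upU n F)
  simp only [pEl, vEl, tHat, hat_def, Finset.sum_mul, Finset.mul_sum, el_mul, coeff_sum,
    Finsupp.coe_finset_sum, Finset.sum_apply, coeff_zero, Finsupp.coe_zero, Pi.zero_apply] at h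
  have key : ∀ (t : torus n F) (u u' : upU n F),
      (t : SLn n F) * ((u : SLn n F) * n0 n F * u') = n0 n F → t = 1 ∧ u = 1 ∧ u' = 1 := by
    intro t u u' e
    have e2 : (t : SLn n F) * u = n0 n F * (u' : SLn n F)⁻¹ * (n0 n F)⁻¹ := by
      calc (t : SLn n F) * u
          = (t : SLn n F) * ((u : SLn n F) * n0 n F * u') * (u' : SLn n F)⁻¹ * (n0 n F)⁻¹ := by group
        _ = _ := by rw [e]
    have hu' := mem_upU.1 (inv_mem u'.2)
    have hu := mem_upU.1 u.2
    have hlow : ∀ x y : Fin n, x < y → ((t : SLn n F) * u).1 x y = 0 := by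
      intro x y hxy
      rw [e2]
      obtain ⟨x, rfl⟩ := (Fin.revPerm : Equiv.Perm (Fin n)).surjective x
      obtain ⟨y, rfl⟩ := (Fin.revPerm : Equiv.Perm (Fin n)).surjective y
      by_contra hne
      rw [← ne_eq, n0_mono.conj_ne] at hne
      exact hne (hu'.2 x y (Fin.rev_lt_rev.1 hxy))
    have hd : ∀ x : Fin n, ((t : SLn n F) * u).1 x x = 1 := by
      intro x
      rw [e2]
      obtain ⟨x, rfl⟩ := (Fin.revPerm : Equiv.Perm (Fin n)).surjective x
      rw [n0_mono.conj_diag, hu'.1]
    have htu : ∀ x y, ((t : SLn n F) * u).1 x y = (t : SLn n F).1 x x * (u : SLn n F).1 x y :=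
      fun x y => IsMono.mul_apply_left (mem_torus.1 t.2) _ x y
    have ht1 : t = 1 := by
      apply Subtype.ext; apply Subtype.ext
      ext x y
      by_cases hxy : x = y
      · subst hxy
        have := hd x
        rw [htu, hu.1, mul_one] at this
        rw [this]; simp [val_one]
      · rw [t.2 x y hxy]; simp [val_one, hxy]
    subst ht1
    have hu1 : u = 1 := by
      apply Subtype.ext; apply Subtype.ext
      ext x y
      rcases lt_trichotomy x y with hxy | rfl | hxy
      · have := hlow x y hxy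
        rw [OneMemClass.coe_one, one_mul] at this
        rw [this]; simp [val_one, hxy.ne]
      · rw [hu.1]; simp [val_one]
      · rw [hu.2 x y hxy]; simp [val_one, hxy.ne']
    subst hu1
    refine ⟨rfl, rfl, Subtype.ext ?_⟩
    simpa using e
  have hz : ∀ (x x' : upU n F) (c : torus n F), ¬ (c = 1 ∧ x' = 1 ∧ x = 1) →
      (el ((c : SLn n F) * ((x' : SLn n F) * n0 n F * x)) : MonoidAlgebra k (SLn n F)).coeff (n0 n F) = 0 := by
    intro x x' c hne
    simp only [el, coeff_single, Finsupp.single_apply]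
    rw [if_neg]
    intro e
    exact hne (key _ _ _ e)
  rw [Fintype.sum_eq_single (1 : upU n F) (fun x hx => Finset.sum_eq_zero fun x' _ =>
      Finset.sum_eq_zero fun c _ => hz x x' c fun e => hx e.2.2),
    Fintype.sum_eq_single (1 : upU n F) (fun x' hx => Finset.sum_eq_zero fun c _ =>
      hz 1 x' c fun e => hx e.2.1),
    Fintype.sum_eq_single (1 : torus n F) (fun c hx => hz 1 1 c fun e => hx e.1)] at h
  simp [el, coeff_single] at h

section global

variable {p : ℕ} [Fact p.Prime] [CharP F p] [CharP k p]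
include p

omit [CharP k p] in
theorem isPGroup_shape {S : Fin n → Fin n → Prop}
    {hS : ∀ a c b, a < c → c < b → S a c → S c b → S a b} :
    IsPGroup p (shapeGroup S hS : Subgroup (SLn n F)) := (isPGroup_upU p).to_le shapeGroup_le_upU

theorem hat_mono_hat_eq_zero {m : SLn n F} {w : Equiv.Perm (Fin n)} (hm : IsMono m w)
    (hw : w ≠ Fin.revPerm) :
    (hat (upU n F) : MonoidAlgebra k (SLn n F)) * el m * hat (upU n F) = 0 := by
  classical
  obtain ⟨a, b, hab, hwab⟩ : ∃ a b : Fin n, a < b ∧ w a < w b := by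
    by_contra hno
    push Not at hno
    refine hw (eq_revPerm fun a b hab => lt_of_le_of_ne (hno a b hab) fun e => ?_)
    exact hab.ne (w.injective e).symm
  let S : Fin n → Fin n → Prop := fun x y => w x < w y
  have hS : ∀ x c y, x < c → c < y → S x c → S c y → S x y := fun _ _ _ _ _ h1 h2 => h1.trans h2
  have hne : a ≠ b := hab.ne
  let g : SLn n F := ⟨Matrix.transvection a b 1, Matrix.det_transvection_of_ne a b hne 1⟩
  have hg : g ∈ shapeGroup S hS := by
    constructor
    · intro x
      show Matrix.transvection a b (1 : F) x x = 1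
      simp only [Matrix.transvection, Matrix.add_apply, Matrix.one_apply_eq, Matrix.single_apply]
      rw [if_neg, add_zero]
      rintro ⟨rfl, rfl⟩; exact hne rfl
    · intro x y hxy hh
      change Matrix.transvection a b (1 : F) x y ≠ 0 at hh
      simp only [Matrix.transvection, Matrix.add_apply, Matrix.one_apply_ne hxy, zero_add,
        Matrix.single_apply] at hh
      split_ifs at hh with he
      · obtain ⟨rfl, rfl⟩ := he; exact ⟨hab, hwab⟩
      · exact absurd rfl hh
  have hg1 : g ≠ 1 := by
    intro e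
    have := congrArg (fun z : SLn n F => z.1 a b) e
    simp [g, Matrix.transvection, Matrix.one_apply_ne hne, val_one] at this
  haveI : Nontrivial (shapeGroup S hS : Subgroup (SLn n F)) :=
    ⟨⟨⟨g, hg⟩, 1, fun e => hg1 (congrArg Subtype.val e)⟩⟩
  obtain ⟨c, hc⟩ := exists_eq_hat_mul (H := shapeGroup S hS)
    ((lfix_hat (k := k) (upU n F)).mono shapeGroup_le_upU)
  have hkill : (hat (upU n F) : MonoidAlgebra k (SLn n F)) * el m * hat (shapeGroup S hS) = 0 := by
    letI := Fintype.ofFinite (shapeGroup S hS : Subgroup (SLn n F))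
    rw [hat_def (shapeGroup S hS), Finset.mul_sum]
    have hterm : ∀ x : (shapeGroup S hS : Subgroup (SLn n F)),
        (hat (upU n F) : MonoidAlgebra k (SLn n F)) * el m * el (x : SLn n F) =
          hat (upU n F) * el m := fun x => by
      have hx : m * (x : SLn n F) * m⁻¹ ∈ upU n F :=
        hm.conj_shape x.2 fun _ _ _ hxy _ => ⟨hxy, trivial⟩
      rw [mul_assoc, el_mul, show m * (x : SLn n F) = (m * x * m⁻¹) * m by group, ← el_mul,
        ← mul_assoc, hat_mul_el hx]
    rw [Finset.sum_congr rfl fun x _ => hterm x, Finset.sum_const, Finset.card_univ,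
      ← Nat.card_eq_fintype_card, ← Nat.cast_smul_eq_nsmul k,
      card_pgroup_eq_zero (p := p) (isPGroup_shape (p := p)), zero_smul]
  conv_lhs => arg 2; rw [hc]
  rw [← mul_assoc, hkill, zero_mul]

theorem hat_mul_mul_hat_mem (a : MonoidAlgebra k (SLn n F)) :
    hat (upU n F) * a * hat (upU n F) ∈ vSpan n F k := by
  induction a using MonoidAlgebra.induction_on with
  | of g =>
    obtain ⟨u, hu, u', hu', w, m, hm, rfl⟩ := exists_bruhat_sl g
    show hat (upU n F) * el (u * m * u') * hat (upU n F) ∈ _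
    rw [← el_mul, ← el_mul, ← mul_assoc, ← mul_assoc, hat_mul_el hu, mul_assoc _ (el u'),
      lfix_hat _ _ hu']
    by_cases hw : w = Fin.revPerm
    · subst hw
      have ht : m * (n0 n F)⁻¹ ∈ torus n F := by
        have := hm.mul (n0_mono (n := n) (F := F)).inv
        rwa [mul_inv_cancel] at this
      refine Submodule.subset_span ⟨⟨_, ht⟩, ?_⟩
      show el (m * (n0 n F)⁻¹) * vEl n F k = _
      rw [vEl, ← mul_assoc, ← mul_assoc, upU, torus_mul_hat ht, mul_assoc (hat _) (el _), el_mul,
        inv_mul_cancel_right]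
    · rw [hat_mono_hat_eq_zero (p := p) hm hw]
      exact zero_mem _
  | add a b ha hb => rw [mul_add, add_mul]; exact add_mem ha hb
  | smul r a ha => rw [mul_smul_comm, smul_mul_assoc]; exact Submodule.smul_mem _ r ha

theorem mem_vSpan_of_lfix {z : MonoidAlgebra k (SLn n F)} (hz : LFix (upU n F) z) :
    z * vEl n F k ∈ vSpan n F k := by
  obtain ⟨c, rfl⟩ := exists_eq_hat_mul hz
  rw [show hat (upU n F) * c * vEl n F k =
    hat (upU n F) * (c * (hat (upU n F) * el (n0 n F))) * hat (upU n F) by
      simp only [vEl, mul_assoc]]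
  exact hat_mul_mul_hat_mem (p := p) _

theorem coroot_sub_one_mul_vav (i i' : Fin n) (h : (i' : ℕ) = i + 1) (d : Fˣ)
    (a : MonoidAlgebra k (SLn n F)) :
    ((el (coroot i i' h d) : MonoidAlgebra k (SLn n F)) - 1) * (vEl n F k * a * vEl n F k) = 0 := by
  obtain ⟨y, hy, hv⟩ := exists_v_eq_q_mul (F := F) (k := k) i i' h
  have hz : y * a * vEl n F k ∈ vSpan n F k := mem_vSpan_of_lfix (p := p) (hy.mul a)
  have key : ∀ z ∈ vSpan n F k,
      ((el (coroot i i' h d) : MonoidAlgebra k (SLn n F)) - 1) * (qEl i i' h k * z) = 0 := by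
    intro z hz
    induction hz using Submodule.span_induction with
    | mem z hz =>
      obtain ⟨t, rfl⟩ := hz
      have ht' : nsimp i i' h * (t : SLn n F) * (nsimp i i' h)⁻¹ ∈ torus n F :=
        (nsimp_mono i i' h).conj_torus t.2
      have hqv : qEl i i' h k * vEl n F k = (∑ c : Fˣ, el (coroot i i' h c)) * vEl n F k := by
        rw [hv]; exact q_quadratic (p := p) i i' h hy
      show _ * (qEl i i' h k * (el (t : SLn n F) * vEl n F k)) = 0
      rw [← mul_assoc (qEl i i' h k), q_mul_torus i i' h t.2, mul_assoc _ (qEl i i' h k), hqv,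
        ← mul_assoc, ← mul_assoc]
      have hcomm : (el (coroot i i' h d) : MonoidAlgebra k (SLn n F)) * el (nsimp i i' h * (t : SLn n F) * (nsimp i i' h)⁻¹)
          = el (nsimp i i' h * (t : SLn n F) * (nsimp i i' h)⁻¹) * el (coroot i i' h d) := by
        rw [el_mul, el_mul, torus_comm (coroot_mem i i' h d) ht']
      rw [sub_mul, one_mul, hcomm, ← mul_sub_one, mul_assoc (el _), coroot_sub_one_mul_sum i i' h d,
        mul_zero, zero_mul]
    | zero => simp
    | add _ _ _ _ ha hb => simp only [mul_add, ha, hb, add_zero]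
    | smul r _ _ ha => simp only [mul_smul_comm, ha, smul_zero]
  rw [show vEl n F k * a * vEl n F k = qEl i i' h k * (y * a * vEl n F k) by
    conv_lhs => arg 1; arg 1; rw [hv]
    simp only [mul_assoc]]
  exact key _ hz

/-- The torus acts trivially on `v E` for a defect zero block `E`. -/
theorem torus_mul_vE {E : MonoidAlgebra k (SLn n F)} (hE : IsDZ E) {t : SLn n F}
    (ht : t ∈ torus n F) : el t * (vEl n F k * E) = vEl n F k * E := by
  refine torus_induction (p := fun t => el t * (vEl n F k * E) = vEl n F k * E) ?_ ?_ ?_ t ht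
  · rw [el_one, one_mul]
  · intro a b ha hb
    rw [← el_mul, mul_assoc, hb, ha]
  · intro i i' h d
    set w := ((el (coroot i i' h d) : MonoidAlgebra k (SLn n F)) - 1) * (vEl n F k * E)
    suffices hw : w = 0 by
      simp only [w, sub_mul, one_mul, sub_eq_zero] at hw
      exact hw
    refine hE.eq_zero_of_forall_mul ?_ fun a => ?_
    · rw [← hE.central]
      simp only [w, mul_assoc, hE.idem]
    · have := coroot_sub_one_mul_vav (p := p) (k := k) i i' h d
        (E * a * ((el (coroot i i' h d) : MonoidAlgebra k (SLn n F)) - 1))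
      calc w * a * w = (((el (coroot i i' h d) : MonoidAlgebra k (SLn n F)) - 1) * (vEl n F k *
            (E * a * ((el (coroot i i' h d) : MonoidAlgebra k (SLn n F)) - 1)) * vEl n F k)) * E := by
            simp only [w, mul_assoc]
        _ = 0 := by rw [this, zero_mul]

theorem vE_ne_zero {E : MonoidAlgebra k (SLn n F)} (hE : IsDZ E) : vEl n F k * E ≠ 0 := by
  intro hzero
  have hx := hat_mul_ne_zero (p := p) hE.idem hE.central hE.ne_zero (isPGroup_upU (n := n) (F := F) p)
  obtain ⟨a, ha⟩ := hE.exists_mul_mul_ne_zero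
    (x := hat (upU n F) * E) (by rw [← mul_assoc, ← hE.central, mul_assoc, hE.idem]) hx
  have hmem := hat_mul_mul_hat_mem (p := p) (k := k) (n := n) (F := F) (E * a)
  apply ha
  have key : ∀ z ∈ vSpan n F k, z * E = 0 := by
    intro z hz
    induction hz using Submodule.span_induction with
    | mem z hz =>
      obtain ⟨t, rfl⟩ := hz
      show el (t : SLn n F) * vEl n F k * E = 0
      rw [mul_assoc, hzero, mul_zero]
    | zero => simp
    | add _ _ _ _ ha hb => simp only [add_mul, ha, hb, add_zero]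
    | smul r _ _ ha => simp only [smul_mul_assoc, ha, smul_zero]
  rw [show hat (upU n F) * E * a * (hat (upU n F) * E) =
    hat (upU n F) * (E * a) * hat (upU n F) * E by simp only [mul_assoc]]
  exact key _ hmem

omit [CharP k p] in
theorem not_dvd_card_torus : ¬ p ∣ Nat.card (torus n F) := by
  intro hdvd
  obtain ⟨t, ht⟩ := exists_prime_orderOf_dvd_card' p hdvd
  have h1 : t.1.1 ^ p = 1 := by
    rw [← val_pow, ← SubmonoidClass.coe_pow, ← ht, pow_orderOf_eq_one]; rfl
  have hdiag : t.1.1 = Matrix.diagonal fun a => t.1.1 a a := by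
    ext a b
    by_cases hab : a = b
    · subst hab; simp
    · rw [Matrix.diagonal_apply_ne _ hab, t.2 a b hab]
  have h2 : ∀ a, t.1.1 a a = 1 := by
    intro a
    rw [hdiag, Matrix.diagonal_pow] at h1
    have := congrFun (congrFun h1 a) a
    simp only [Matrix.diagonal_apply_eq, Pi.pow_apply, Matrix.one_apply_eq] at this
    have h3 : (t.1.1 a a - 1) ^ p = 0 := by rw [sub_pow_char, one_pow, this, sub_self]
    exact sub_eq_zero.1 (eq_zero_of_pow_eq_zero h3)
  have : t = 1 := by
    apply Subtype.ext; apply Subtype.ext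
    show t.1.1 = 1
    rw [hdiag, funext h2, Matrix.diagonal_one]
  rw [this, orderOf_one] at ht
  exact (Fact.out : p.Prime).ne_one ht.symm

theorem card_torus_ne_zero : (Nat.card (torus n F) : k) ≠ 0 :=
  fun h => not_dvd_card_torus (p := p) ((CharP.cast_eq_zero_iff k p _).1 h)

theorem pE_ne_zero {E : MonoidAlgebra k (SLn n F)} (hE : IsDZ E) : pEl n F k * E ≠ 0 := by
  rw [pEl, mul_assoc, hat_mul_lfix (H := torus n F) fun t ht => torus_mul_vE (p := p) hE ht]
  exact smul_ne_zero (card_torus_ne_zero (p := p)) (vE_ne_zero (p := p) hE)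

theorem pap_mem (a : MonoidAlgebra k (SLn n F)) :
    ∃ c : k, pEl n F k * a * pEl n F k = c • pEl n F k := by
  have hmem : vEl n F k * (a * tHat n F k) * vEl n F k ∈ vSpan n F k :=
    mem_vSpan_of_lfix (p := p) (lfix_vEl.mul _)
  have key : ∀ z ∈ vSpan n F k, ∃ c : k, tHat n F k * z = c • pEl n F k := by
    intro z hz
    induction hz using Submodule.span_induction with
    | mem z hz =>
      obtain ⟨t, rfl⟩ := hz
      exact ⟨1, by rw [← mul_assoc, (tHat_comm t.2).2, one_smul, pEl]⟩
    | zero => exact ⟨0, by simp⟩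
    | add _ _ _ _ ha hb =>
      obtain ⟨c, hc⟩ := ha; obtain ⟨d, hd⟩ := hb
      exact ⟨c + d, by rw [mul_add, hc, hd, add_smul]⟩
    | smul r _ _ ha =>
      obtain ⟨c, hc⟩ := ha
      exact ⟨r * c, by rw [mul_smul_comm, hc, smul_smul]⟩
  obtain ⟨c, hc⟩ := key _ hmem
  refine ⟨c, ?_⟩
  rw [← hc]
  simp only [pEl, mul_assoc]

theorem qp_eq (i i' : Fin n) (h : (i' : ℕ) = i + 1) :
    qEl i i' h k * pEl n F k = (-1 : k) • pEl n F k := by
  obtain ⟨y, hy, hv⟩ := exists_v_eq_q_mul (F := F) (k := k) i i' h
  rw [pEl, ← mul_assoc, q_mul_tHat, mul_assoc, hv, q_quadratic (p := p) i i' h hy, ← mul_assoc,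
    tHat_mul_sum i i' h, smul_mul_assoc]
  congr 1
  have h1 : (Fintype.card F : k) = 0 := by
    rw [CharP.cast_eq_zero_iff k p]
    obtain ⟨m, _, e⟩ := FiniteField.card F p
    rw [e]
    exact dvd_pow_self p m.ne_zero
  rw [Nat.card_eq_fintype_card, Fintype.card_units, Nat.cast_sub Fintype.card_pos, h1]
  simp

/-- `a(m) = Σ_{U_w} u m` scales `P` by a nonzero scalar. -/
theorem aEl_mul_pEl : ∀ (N : ℕ) (w : Equiv.Perm (Fin n)) (m : SLn n F), IsMono m w →
    ((∑ a : Fin n, (a : ℕ) * a : ℕ) ≤ (∑ a : Fin n, (a : ℕ) * (w a : ℕ)) + N) →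
    ∃ c : k, c ≠ 0 ∧ hat (invU w F) * el m * pEl n F k = c • pEl n F k := by
  intro N
  induction N using Nat.strong_induction_on with
  | _ N ih =>
    intro w m hm hN
    classical
    by_cases hdesc : ∃ (i i' : Fin n) (h : (i' : ℕ) = i + 1), w.symm i' < w.symm i
    · obtain ⟨i, i', h, hlt⟩ := hdesc
      set s := Equiv.swap i i'
      set m' := (nsimp i i' h)⁻¹ * m
      have hm' : IsMono m' (s * w) := by
        have := (nsimp_mono (F := F) i i' h).inv.mul hm
        rwa [Equiv.swap_inv] at this
      -- the measure drops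
      set a := w.symm i
      set b := w.symm i'
      have hab : b ≠ a := hlt.ne
      have hs1 : ∀ x : Fin n, x ≠ a → x ≠ b → (s * w) x = w x := fun x hxa hxb =>
        Equiv.swap_apply_of_ne_of_ne (fun e => hxa (by simp [a, ← e]))
          (fun e => hxb (by simp [b, ← e]))
      have hsa : (s * w) a = i' := by simp [s, a]
      have hsb : (s * w) b = i := by simp [s, b]
      have hmeas : (∑ x : Fin n, (x : ℕ) * ((s * w) x : ℕ)) =
          (∑ x : Fin n, (x : ℕ) * (w x : ℕ)) + ((a : ℕ) - b) := by
        rw [← Finset.add_sum_erase _ _ (Finset.mem_univ a), ← Finset.add_sum_erase _ (fun x : Fin n => (x : ℕ) * (w x : ℕ)) (Finset.mem_univ a),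
          ← Finset.add_sum_erase _ _ (Finset.mem_erase.2 ⟨hab, Finset.mem_univ b⟩),
          ← Finset.add_sum_erase _ (fun x : Fin n => (x : ℕ) * (w x : ℕ)) (Finset.mem_erase.2 ⟨hab, Finset.mem_univ b⟩),
          Finset.sum_congr rfl (fun x hx => by
            rw [Finset.mem_erase, Finset.mem_erase] at hx
            rw [hs1 x hx.2.1 hx.1] : ∀ x ∈ (Finset.univ.erase a).erase b,
              (x : ℕ) * ((s * w) x : ℕ) = (x : ℕ) * (w x : ℕ)), hsa, hsb,
          show w a = i by simp [a], show w b = i' by simp [b]]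
        have hlt' : (b : ℕ) < a := Fin.lt_def.1 hlt
        obtain ⟨e, he⟩ := Nat.exists_eq_add_of_lt hlt'
        rw [he, h, show (b : ℕ) + e + 1 - b = e + 1 by omega]
        ring
      have hlt' : (b : ℕ) < a := Fin.lt_def.1 hlt
      obtain ⟨c, hc, hcm⟩ := ih (N - 1) (by
          have hle : (∑ x : Fin n, (x : ℕ) * (w x : ℕ)) + ((a : ℕ) - b) ≤ ∑ x : Fin n, (x : ℕ) * x := by
            rw [← hmeas]
            have := Monovary.sum_mul_comp_perm_le_sum_mul (f := fun x : Fin n => (x : ℕ))
              (g := fun x : Fin n => (x : ℕ)) (fun x y hxy => le_of_lt hxy) (σ := s * w)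
            exact this
          omega)
        (s * w) m' hm' (by omega)
      refine ⟨-c, neg_ne_zero.2 hc, ?_⟩
      have hsub1 : rootGroup i i' h ≤ invU w F := by
        rintro _ ⟨t, rfl⟩
        exact isShape_root i i' h t hlt
      have hsub2 : radU i i' h F ⊓ invU w F ≤ invU w F := inf_le_right
      have hsplit : (hat (invU w F) : MonoidAlgebra k (SLn n F)) =
          hat (rootGroup i i' h) * hat (radU i i' h F ⊓ invU w F) := by
        refine hat_eq_mul hsub1 hsub2 ?_ fun g hg => ?_
        · rw [← inf_assoc, rootGroup_inf_radU, bot_inf_eq]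
        · obtain ⟨x, hx, y, hy, rfl⟩ := exists_root_mul_rad i i' h (shapeGroup_le_upU hg)
          exact ⟨x, hx, y, Subgroup.mem_inf.2 ⟨hy, ((invU w F).mul_mem_cancel_left (hsub1 hx)).1 hg⟩, rfl⟩
      have hconj : (el (nsimp i i' h) : MonoidAlgebra k (SLn n F)) * hat (invU (s * w) F) =
          hat (radU i i' h F ⊓ invU w F) * el (nsimp i i' h) := by
        letI := Fintype.ofFinite (invU (s * w) F)
        letI := Fintype.ofFinite (radU i i' h F ⊓ invU w F : Subgroup (SLn n F))
        rw [hat_def, hat_def, Finset.mul_sum, Finset.sum_mul]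
        simp only [el_mul]
        have hnr : ∀ g ∈ invU (s * w) F, g ∈ radU i i' h F := fun g hg =>
          ⟨hg.1, fun x y hxy hne => ⟨(hg.2 x y hxy hne).1, fun e => by
            have h2 := (hg.2 x y hxy hne).2
            rw [e.1, e.2] at h2
            simp only [Equiv.Perm.mul_def, Equiv.symm_trans_apply, s, Equiv.symm_swap,
              Equiv.swap_apply_left, Equiv.swap_apply_right] at h2
            exact lt_asymm hlt h2⟩⟩
        let φ : (invU (s * w) F : Subgroup (SLn n F)) ≃ (radU i i' h F ⊓ invU w F : Subgroup (SLn n F)) :=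
          { toFun := fun g => ⟨nsimp i i' h * g.1 * (nsimp i i' h)⁻¹, Subgroup.mem_inf.2
              ⟨(nsimp_conj_radU i i' h (hnr g.1 g.2)).1,
                (nsimp_mono i i' h).conj_shape g.2 fun x y hxy hS hne => by
                  have hr : ¬ (x = i ∧ y = i') := ((hnr g.1 g.2).2 x y hxy.ne hne).2
                  refine ⟨swap_lt i i' h hxy hr, ?_⟩
                  simpa [s, Equiv.Perm.mul_def, Equiv.symm_trans_apply] using hS⟩⟩
            invFun := fun g => ⟨(nsimp i i' h)⁻¹ * g.1 * nsimp i i' h, by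
              obtain ⟨h1, h2⟩ := Subgroup.mem_inf.1 g.2
              have hmi : IsMono (nsimp i i' h : SLn n F)⁻¹ s := by
                have := (nsimp_mono (F := F) i i' h).inv; rwa [Equiv.swap_inv] at this
              have := hmi.conj_shape (S' := fun x y => (s * w).symm y < (s * w).symm x) h2
                fun x y hxy hS hne => by
                  have hr : ¬ (x = i ∧ y = i') := (h1.2 x y hxy.ne hne).2
                  refine ⟨swap_lt i i' h hxy hr, ?_⟩
                  simpa [s, Equiv.Perm.mul_def, Equiv.symm_trans_apply] using hS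
              rwa [inv_inv] at this⟩
            left_inv := fun g => Subtype.ext (show (nsimp i i' h)⁻¹ * (nsimp i i' h * (g : SLn n F) * (nsimp i i' h)⁻¹) * nsimp i i' h = (g : SLn n F) by group)
            right_inv := fun g => Subtype.ext (show nsimp i i' h * ((nsimp i i' h)⁻¹ * (g : SLn n F) * nsimp i i' h) * (nsimp i i' h)⁻¹ = (g : SLn n F) by group) }
        refine Fintype.sum_equiv φ _ _ fun g => ?_
        show el (nsimp i i' h * (g : SLn n F)) = el (nsimp i i' h * (g : SLn n F) * (nsimp i i' h)⁻¹ * nsimp i i' h)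
        simp
      have hstep : (hat (invU w F) : MonoidAlgebra k (SLn n F)) * el m =
          qEl i i' h k * (hat (invU (s * w) F) * el m') := by
        rw [qEl, hsplit, mul_assoc (hat (rootGroup i i' h)) (el _), ← mul_assoc (el (nsimp i i' h)),
          hconj, mul_assoc _ (el (nsimp i i' h)) (el m'), el_mul, mul_inv_cancel_left, ← mul_assoc]
      rw [hstep, mul_assoc (qEl i i' h k), hcm, mul_smul_comm, qp_eq (p := p) i i' h, smul_smul]
      congr 1
      ring
    · push Not at hdesc
      have hid : w = 1 := by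
        have hmono : StrictMono (w.symm : Fin n → Fin n) := by
          rcases Nat.eq_zero_or_pos n with rfl | hn
          · exact fun a => a.elim0
          obtain ⟨n', rfl⟩ : ∃ n', n = n' + 1 := ⟨n - 1, by omega⟩
          refine Fin.strictMono_iff_lt_succ.2 fun j => lt_of_le_of_ne (hdesc _ _ (by simp)) fun e => ?_
          have := w.symm.injective e
          exact absurd this (Fin.castSucc_lt_succ (i := j)).ne
        have h2 : (w.symm : Fin n → Fin n) = id :=
          (StrictMono.range_inj hmono strictMono_id).1 (by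
            rw [Set.range_id]; exact w.symm.surjective.range_eq)
        exact Equiv.ext fun a => by
          have := congrFun h2 (w a)
          rw [Equiv.symm_apply_apply] at this
          exact this.symm
      subst hid
      refine ⟨1, one_ne_zero, ?_⟩
      have hbot : invU (1 : Equiv.Perm (Fin n)) F = ⊥ := by
        rw [eq_bot_iff]
        intro g hg
        rw [Subgroup.mem_bot]
        apply Subtype.ext
        ext x y
        by_cases hxy : x = y
        · subst hxy; rw [hg.1, val_one, Matrix.one_apply_eq]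
        · rw [val_one, Matrix.one_apply_ne hxy]
          by_contra hne
          obtain ⟨h1, h2⟩ := hg.2 x y hxy hne
          exact lt_asymm h1 h2
      rw [hbot, one_smul]
      have hone : (hat (⊥ : Subgroup (SLn n F)) : MonoidAlgebra k (SLn n F)) = 1 := by
        letI := Fintype.ofFinite (⊥ : Subgroup (SLn n F))
        rw [hat_def, Fintype.sum_subsingleton _ (1 : (⊥ : Subgroup (SLn n F)))]
        exact el_one
      rw [hone, one_mul, pEl, ← mul_assoc, (tHat_comm (mem_torus.2 hm)).1]

theorem exists_pn0p_ne_zero : ∃ a, pEl n F k * a * pEl n F k ≠ 0 := by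
  refine ⟨el (n0 n F), ?_⟩
  obtain ⟨c, hc, he⟩ := aEl_mul_pEl (p := p) (k := k) (∑ a : Fin n, (a : ℕ) * a) Fin.revPerm
    (n0 n F) n0_mono (by omega)
  rw [invU_rev] at he
  rw [show pEl n F k * el (n0 n F) * pEl n F k = tHat n F k *
      ((hat (upU n F) * el (n0 n F)) * ((hat (upU n F) * el (n0 n F)) * pEl n F k)) by
      simp only [pEl, vEl, mul_assoc], he, mul_smul_comm, he, smul_smul, mul_smul_comm, pEl,
    ← mul_assoc, hat_mul_lfix (lfix_hat _), smul_mul_assoc, smul_smul]
  exact smul_ne_zero (mul_ne_zero (mul_ne_zero hc hc) (card_torus_ne_zero (p := p)))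
    (pEl_ne_zero (n := n) (F := F) (k := k))

/-- The idempotent of the Steinberg block. -/
theorem exists_steinberg_idem : ∃ Y : MonoidAlgebra k (SLn n F),
    Y * Y = Y ∧ Y ≠ 0 ∧ (∀ a, ∃ c : k, Y * a * Y = c • Y) ∧ ∀ E, IsDZ E → E * Y ≠ 0 := by
  obtain ⟨a, ha⟩ := exists_pn0p_ne_zero (p := p) (n := n) (F := F) (k := k)
  obtain ⟨c, hc⟩ := pap_mem (p := p) a
  have hc0 : c ≠ 0 := fun e => ha (by rw [hc, e, zero_smul])
  refine ⟨c⁻¹ • (pEl n F k * a), ?_, ?_, fun b => ?_, fun E hE hz => ?_⟩
  · rw [smul_mul_smul_comm, ← mul_assoc, hc, smul_mul_assoc, smul_smul]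
    congr 1; field_simp
  · intro hz
    apply ha
    rw [smul_eq_zero] at hz
    rcases hz with hz | hz
    · exact absurd hz (inv_ne_zero hc0)
    · rw [hz, zero_mul]
  · obtain ⟨d, hd⟩ := pap_mem (p := p) (a * b)
    refine ⟨c⁻¹ * d, ?_⟩
    rw [smul_mul_assoc, smul_mul_smul_comm,
      show pEl n F k * a * b * (pEl n F k * a) = pEl n F k * (a * b) * pEl n F k * a by
        simp only [mul_assoc], hd, smul_mul_assoc, smul_smul, smul_smul]
    congr 1; ring
  · rw [mul_smul_comm, smul_eq_zero, or_iff_right (inv_ne_zero hc0)] at hz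
    apply pE_ne_zero (p := p) hE
    have h1 : E * pEl n F k * a * pEl n F k = 0 := by rw [mul_assoc E, hz, zero_mul]
    rw [mul_assoc E, mul_assoc E, hc, mul_smul_comm, smul_eq_zero, or_iff_right hc0] at h1
    rw [hE.central]
    exact h1

end global

end Cfsg.Agent.Lib.SteinbergBlock
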