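import Mathlib
import Cfsg.Agent.Lib.SteinbergBlock.Hecke
import Cfsg.Agent.Lib.Blocks.Idempotent
import Cfsg.Agent.Lib.Blocks.DefectClass
import Cfsg.Agent.Lib.Blocks.DefectCard
import Cfsg.Agent.Lib.Blocks.DefectProps
import Cfsg.Agent.Lib.Blocks.ResidueAlgebra
import Cfsg.Agent.Lib.Blocks.NilKernel
import Cfsg.Agent.Lib.BrauerMap.Truncation

/-!
# The blocks of `SL_n(F)` in the defining characteristic
-/

set_option autoImplicit false

namespace Cfsg.Agent.Lib.SteinbergBlock

open Cfsg MonoidAlgebra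
open Cfsg.Agent.Lib.Blocks
open Cfsg.Agent.Lib.Blocks.ResidueAlgebra (SuppIn cut coeff_cut suppIn_mul suppIn_cut)
open scoped Classical

universe u

section support

variable {C : Type u} [Group C] [Finite C] {p : ℕ} [Fact p.Prime] {M : Ideal AlgInt} [M.IsPrime]

/-- A central idempotent lives on the centralizer of a normal `p`-subgroup. -/
theorem suppIn_centralizer_of_idempotent (hM : IsPModular p M) (R : Subgroup C) [R.Normal]
    (hR : IsPGroup p R) {E : MonoidAlgebra (Residue M) C}
    (hE : E ∈ Subalgebra.center (Residue M) (MonoidAlgebra (Residue M) C)) (hidem : E * E = E) :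
    SuppIn (Subgroup.centralizer (R : Set C)) E := by
  haveI := charP_residue hM
  haveI : CharP (MonoidAlgebra (Residue M) C) p :=
    charP_of_injective_algebraMap (FaithfulSMul.algebraMap_injective (Residue M) _) p
  have hH : (Subgroup.centralizer (R : Set C)).Normal := inferInstance
  set E0 := cut R E
  have h0 : E0 ∈ Subalgebra.center (Residue M) (MonoidAlgebra (Residue M) C) := by
    rw [mem_center_iff]
    intro g h
    have hiff : h * g * h⁻¹ ∈ Subgroup.centralizer (R : Set C) ↔ g ∈ Subgroup.centralizer (R : Set C) :=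
      ⟨fun hh => by simpa [mul_assoc] using hH.conj_mem _ hh h⁻¹, fun hh => hH.conj_mem g hh h⟩
    simp only [E0, coeff_cut]
    rw [if_congr hiff rfl rfl, mem_center_iff.1 hE g h]
  obtain ⟨m, hm⟩ := isNilpotent_of_coeff_centralizer_eq_zero R hR (sub_mem hE h0) fun x hx => by
    rw [coeff_sub, Finsupp.sub_apply, coeff_cut, if_pos hx, sub_self]
  obtain ⟨a, ha⟩ : ∃ a, m ≤ p ^ a := ⟨m, (Nat.lt_pow_self (Fact.out : p.Prime).one_lt).le⟩
  have hcomm : Commute E0 (E - E0) := (Subalgebra.mem_center_iff.1 h0 (E - E0)).symm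
  have hpow : ∀ k : ℕ, E ^ (k + 1) = E := fun k => by
    induction k with
    | zero => exact pow_one E
    | succ k ih => rw [pow_succ, ih, hidem]
  have key : E = E0 ^ p ^ a := by
    have h1 : (E0 + (E - E0)) ^ p ^ a = E0 ^ p ^ a := by
      rw [add_pow_char_pow_of_commute p a hcomm, pow_eq_zero_of_le ha hm, add_zero]
    rw [add_sub_cancel] at h1
    obtain ⟨k, hk⟩ : ∃ k, p ^ a = k + 1 :=
      ⟨p ^ a - 1, (Nat.sub_add_cancel (Nat.one_le_pow a p (Fact.out : p.Prime).pos)).symm⟩
    rw [← h1, hk, hpow]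
  have hsupp : ∀ k : ℕ, SuppIn (Subgroup.centralizer (R : Set C)) (E0 ^ k) := by
    intro k
    induction k with
    | zero =>
      intro x hx
      rw [pow_zero, MonoidAlgebra.one_def, coeff_single, Finsupp.single_apply] at hx
      split_ifs at hx with h
      · subst h; exact one_mem _
      · exact absurd rfl hx
    | succ k ih => rw [pow_succ]; exact suppIn_mul ih (suppIn_cut R E)
  rw [key]
  exact hsupp _

end support

section scalar

variable {F : Type u} [Field F] [Fintype F] {n : ℕ} {p : ℕ} [Fact p.Prime] [CharP F p]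

/-- The small unipotent radical attached to an element `u`. -/
def radicalOf (u : SLn n F) : Subgroup (SLn n F) :=
  subgroupOfClosed {x | (x.1 - 1) * (u.1 - 1) = 0 ∧ (u.1 - 1) * (x.1 - 1) = 0 ∧
      ∃ Y, x.1 - 1 = (u.1 - 1) * Y}
    (by simp [val_one]; exact ⟨0, by simp⟩) (by
    rintro a b ⟨a1, a2, Y, aY⟩ ⟨b1, b2, Z, bZ⟩
    have hab : (a.1 - 1) * (b.1 - 1) = 0 := by rw [bZ, ← mul_assoc, a1, zero_mul]
    have he : (a * b).1 - 1 = (a.1 - 1) + (b.1 - 1) := by
      rw [val_mul]
      calc a.1 * b.1 - 1 = (a.1 - 1) * (b.1 - 1) + ((a.1 - 1) + (b.1 - 1)) := by noncomm_ring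
        _ = _ := by rw [hab, zero_add]
    show ((a * b).1 - 1) * _ = 0 ∧ _ * ((a * b).1 - 1) = 0 ∧ ∃ W, (a * b).1 - 1 = _
    rw [he]
    exact ⟨by rw [add_mul, a1, b1, add_zero], by rw [mul_add, a2, b2, add_zero],
      Y + Z, by rw [mul_add, ← aY, ← bZ]⟩)

omit [Fact p.Prime] [CharP F p] in
theorem mem_radicalOf {u x : SLn n F} : x ∈ radicalOf u ↔
    (x.1 - 1) * (u.1 - 1) = 0 ∧ (u.1 - 1) * (x.1 - 1) = 0 ∧ ∃ Y, x.1 - 1 = (u.1 - 1) * Y := Iff.rfl

theorem pow_eq_one_of_sub_one_sq {x : SLn n F} (hn : 0 < n) (h : (x.1 - 1) * (x.1 - 1) = 0) :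
    x ^ p = 1 := by
  haveI : Nonempty (Fin n) := ⟨⟨0, hn⟩⟩
  apply Subtype.ext
  rw [val_pow, val_one]
  have h1 : ((x.1 - 1) + 1) ^ p = (x.1 - 1) ^ p + (1 : Matrix (Fin n) (Fin n) F) ^ p :=
    add_pow_char_of_commute p (Commute.one_right _)
  have h2 : (x.1 - 1) ^ p = 0 :=
    pow_eq_zero_of_le (Fact.out : p.Prime).two_le (by rw [pow_two]; exact h)
  rwa [sub_add_cancel, one_pow, h2, zero_add] at h1

theorem isPGroup_radicalOf (hn : 0 < n) (u : SLn n F) : IsPGroup p (radicalOf u) := by
  intro x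
  obtain ⟨h1, -, Y, hY⟩ := mem_radicalOf.1 x.2
  refine ⟨1, Subtype.ext ?_⟩
  rw [SubmonoidClass.coe_pow, pow_one, OneMemClass.coe_one]
  exact pow_eq_one_of_sub_one_sq hn (by conv_lhs => arg 2; rw [hY]
                                        rw [← mul_assoc, h1, zero_mul])

omit [Fact p.Prime] [CharP F p] in
theorem conj_mem_radicalOf {u c x : SLn n F} (hc : c * u = u * c) (hx : x ∈ radicalOf u) :
    c * x * c⁻¹ ∈ radicalOf u := by
  obtain ⟨h1, h2, Y, hY⟩ := mem_radicalOf.1 hx
  have hci : c.1 * (c⁻¹).1 = 1 := congrArg Subtype.val (mul_inv_cancel c)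
  have e : (c * x * c⁻¹).1 - 1 = c.1 * (x.1 - 1) * (c⁻¹).1 := by
    rw [val_mul, val_mul, mul_sub, sub_mul, mul_one, hci]
  have hN : c.1 * (u.1 - 1) = (u.1 - 1) * c.1 := by
    rw [mul_sub, sub_mul, mul_one, one_mul]
    exact congrArg (· - c.1) (congrArg Subtype.val hc : c.1 * u.1 = u.1 * c.1)
  have hN' : (c⁻¹).1 * (u.1 - 1) = (u.1 - 1) * (c⁻¹).1 := by
    rw [mul_sub, sub_mul, mul_one, one_mul]
    exact congrArg (· - (c⁻¹).1)
      (congrArg Subtype.val ((show Commute c u from hc).inv_left.eq) : (c⁻¹).1 * u.1 = u.1 * (c⁻¹).1)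
  rw [mem_radicalOf, e]
  refine ⟨?_, ?_, c.1 * Y * (c⁻¹).1, ?_⟩
  · rw [mul_assoc _ (c⁻¹).1, hN', ← mul_assoc, mul_assoc c.1, h1, mul_zero, zero_mul]
  · rw [← mul_assoc, ← mul_assoc, ← hN, mul_assoc c.1, h2, mul_zero, zero_mul]
  · rw [hY]
    simp only [← mul_assoc, hN]

/-- A `p`-regular element commuting with `u` and its radical is scalar. -/
theorem exists_scalar_of_commute {u g : SLn n F} (hu : u ^ p = 1) (hu1 : u ≠ 1)
    (hgu : g * u = u * g) (hgR : ∀ x ∈ radicalOf u, g * x = x * g) (hreg : ¬ p ∣ orderOf g) :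
    ∃ c : F, g.1 = c • (1 : Matrix (Fin n) (Fin n) F) := by
  have hn : 0 < n := by
    rcases Nat.eq_zero_or_pos n with rfl | hn
    · exact absurd (Subsingleton.elim u 1) hu1
    · exact hn
  haveI : Nonempty (Fin n) := ⟨⟨0, hn⟩⟩
  set N := u.1 - 1
  have hNp : N ^ p = 0 := by
    have h1 : u.1 ^ p = 1 := by rw [← val_pow, hu, val_one]
    rw [sub_pow_char_of_commute p (Commute.one_right _), h1, one_pow, sub_self]
  have hN0 : N ≠ 0 := fun h => hu1 (Subtype.ext (by rw [val_one]; exact sub_eq_zero.1 h))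
  obtain ⟨l, hl1, hl2⟩ : ∃ l, N ^ (l + 1) ≠ 0 ∧ N ^ (l + 2) = 0 := by
    have hex : ∃ m, N ^ m = 0 := ⟨p, hNp⟩
    have hm := Nat.find_spec hex
    have h2 : 2 ≤ Nat.find hex := by
      by_contra hlt
      have h1 : N ^ 1 = 0 := pow_eq_zero_of_le (by omega) hm
      exact hN0 (by rwa [pow_one] at h1)
    refine ⟨Nat.find hex - 2, Nat.find_min hex (by omega), ?_⟩
    rwa [Nat.sub_add_cancel h2]
  obtain ⟨r, s, hrs⟩ : ∃ r s, (N ^ (l + 1)) r s ≠ 0 := by
    by_contra h
    push Not at h
    exact hl1 (by ext r s; exact h r s)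
  let w : Fin n → F := fun a => (N ^ (l + 1)) a s
  let φ₀ : Fin n → F := fun b => (N ^ (l + 1)) r b
  have hφ₀ : Matrix.vecMul φ₀ N = 0 := by
    funext b
    have : (N ^ (l + 1) * N) r b = 0 := by rw [← pow_succ, hl2]; rfl
    exact this
  have hNw : Matrix.mulVec N w = 0 := by
    funext a
    have : (N * N ^ (l + 1)) a s = 0 := by rw [← pow_succ', hl2]; rfl
    exact this
  have hwN : w = Matrix.mulVec N (fun a => (N ^ l) a s) := by
    funext a
    show (N ^ (l + 1)) a s = (N * N ^ l) a s
    rw [pow_succ']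
  have hcomm : ∀ φ : Fin n → F, Matrix.vecMul φ N = 0 →
      g.1 * Matrix.vecMulVec w φ = Matrix.vecMulVec w φ * g.1 := by
    intro φ hφ
    have hXN : Matrix.vecMulVec w φ * N = 0 := by
      rw [Matrix.vecMulVec_mul, hφ, Matrix.vecMulVec_zero]
    have hNX : N * Matrix.vecMulVec w φ = 0 := by
      rw [Matrix.mul_vecMulVec, hNw, Matrix.zero_vecMulVec]
    have hY : Matrix.vecMulVec w φ = N * Matrix.vecMulVec (fun a => (N ^ l) a s) φ := by
      rw [Matrix.mul_vecMulVec, ← hwN]
    have hXX : Matrix.vecMulVec w φ * Matrix.vecMulVec w φ = 0 := by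
      nth_rewrite 2 [hY]
      rw [← mul_assoc, hXN, zero_mul]
    have hdet : (1 + Matrix.vecMulVec w φ).det = 1 := by
      have h1 : ((1 + Matrix.vecMulVec w φ) : Matrix (Fin n) (Fin n) F) ^ p = 1 := by
        rw [add_pow_char_of_commute p (Commute.one_left _), one_pow,
          ← Nat.sub_add_cancel (Fact.out : p.Prime).two_le, pow_add, pow_two (Matrix.vecMulVec w φ),
          hXX, mul_zero, add_zero]
      have h2 := congrArg Matrix.det h1
      rw [Matrix.det_pow, Matrix.det_one] at h2
      have h3 : ((1 + Matrix.vecMulVec w φ).det - 1) ^ p = 0 := by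
        rw [sub_pow_char, h2, one_pow, sub_self]
      exact sub_eq_zero.1 (eq_zero_of_pow_eq_zero h3)
    let x : SLn n F := ⟨1 + Matrix.vecMulVec w φ, hdet⟩
    have hx : x ∈ radicalOf u := by
      rw [mem_radicalOf]
      simp only [x, add_sub_cancel_left]
      exact ⟨hXN, hNX, _, hY⟩
    have h := congrArg Subtype.val (hgR x hx)
    rw [val_mul, val_mul] at h
    simp only [x, mul_add, add_mul, mul_one, one_mul, add_right_inj] at h
    exact h
  obtain ⟨a0, ha0⟩ : ∃ a, w a ≠ 0 := ⟨r, hrs⟩
  obtain ⟨b0, hb0⟩ : ∃ b, φ₀ b ≠ 0 := ⟨s, hrs⟩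
  let c : F := Matrix.vecMul φ₀ g.1 b0 / φ₀ b0
  have hgw : ∀ a, Matrix.mulVec g.1 w a = c * w a := by
    intro a
    have h := congrFun (congrFun (hcomm φ₀ hφ₀) a) b0
    rw [Matrix.mul_vecMulVec, Matrix.vecMulVec_mul, Matrix.vecMulVec_apply, Matrix.vecMulVec_apply] at h
    simp only [c]
    field_simp
    linear_combination h
  have hφg : ∀ φ : Fin n → F, Matrix.vecMul φ N = 0 → Matrix.vecMul φ g.1 = c • φ := by
    intro φ hφ
    funext b
    have h := congrFun (congrFun (hcomm φ hφ) a0) b
    rw [Matrix.mul_vecMulVec, Matrix.vecMulVec_mul, Matrix.vecMulVec_apply, Matrix.vecMulVec_apply, hgw] at h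
    rw [Pi.smul_apply, smul_eq_mul]
    refine mul_left_cancel₀ ha0 ?_
    linear_combination -h
  set h' : Matrix (Fin n) (Fin n) F := g.1 - c • (1 : Matrix (Fin n) (Fin n) F)
  have hh : Commute h' N := by
    have hgN : Commute g.1 N :=
      (show Commute g.1 u.1 from congrArg Subtype.val hgu).sub_right (Commute.one_right _)
    exact hgN.sub_left ((Commute.one_left N).smul_left c)
  have hker : ∀ (j : ℕ) (φ : Fin n → F), Matrix.vecMul φ (N ^ j) = 0 → Matrix.vecMul φ (h' ^ j) = 0 := by
    intro j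
    induction j with
    | zero => intro φ hφ; exact hφ
    | succ j ih =>
      intro φ hφ
      rw [pow_succ', ← Matrix.vecMul_vecMul]
      refine ih _ ?_
      rw [Matrix.vecMul_vecMul, (hh.pow_right j).eq, ← Matrix.vecMul_vecMul]
      have hψ : Matrix.vecMul (Matrix.vecMul φ (N ^ j)) N = 0 := by
        rw [Matrix.vecMul_vecMul, ← pow_succ]; exact hφ
      rw [Matrix.vecMul_sub, hφg _ hψ, Matrix.vecMul_smul, Matrix.vecMul_one, sub_self]
  have hhp : h' ^ p = 0 := by
    ext a b
    have := congrFun (hker p (Pi.single a 1) (by rw [hNp, Matrix.vecMul_zero])) b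
    rw [Matrix.single_one_vecMul] at this
    exact this
  have hgp : g.1 ^ p = c ^ p • (1 : Matrix (Fin n) (Fin n) F) := by
    have h1 : (h' + c • (1 : Matrix (Fin n) (Fin n) F)) ^ p = h' ^ p + (c • (1 : Matrix (Fin n) (Fin n) F)) ^ p :=
      add_pow_char_of_commute p ((Commute.one_right h').smul_right c)
    rw [sub_add_cancel, hhp, zero_add, smul_pow, one_pow] at h1
    exact h1
  obtain ⟨m, hm⟩ := exists_pow_eq_self_of_coprime
    ((Fact.out : p.Prime).coprime_iff_not_dvd.2 hreg : Nat.Coprime p (orderOf g))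
  refine ⟨(c ^ p) ^ m, ?_⟩
  rw [← congrArg Subtype.val hm, val_pow, val_pow, hgp, smul_pow, one_pow]

end scalar

variable {F : Type u} [Field F] [Fintype F] {n : ℕ} {p : ℕ} [Fact p.Prime] [CharP F p]
  {M : Ideal AlgInt} [M.IsPrime]

/-- Blocks of positive defect of `SL_n` in the defining characteristic have full defect. -/
theorem blockDefect_eq (hM : IsPModular p M) {B : Set (IrrCharacter (SLn n F))}
    (hB : IsPBlock M B) :
    blockDefect p B = 0 ∨ blockDefect p B = (Nat.card (SLn n F)).factorization p := by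
  obtain ⟨D, hD⟩ := exists_isDefectGroup (p := p) hB
  obtain ⟨g, hg, hgD⟩ := isDefectGroup_iff.1 hD
  by_cases hd : D = ⊥
  · exact Or.inl ((blockDefect_eq_zero_iff hM hB hD).2 hd)
  refine Or.inr ?_
  have hdvd : p ∣ Nat.card D := by
    obtain ⟨a, ha⟩ := hgD.1.exists_card_eq
    rcases a with _ | a
    · exact absurd (Subgroup.eq_bot_of_card_eq D (by rw [ha, pow_zero])) hd
    · rw [ha]; exact dvd_pow_self p (by omega)
  obtain ⟨u, hu⟩ := exists_prime_orderOf_dvd_card' p hdvd
  have hup : (u : SLn n F) ^ p = 1 := by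
    rw [← hu, ← Subgroup.orderOf_coe, pow_orderOf_eq_one]
  have hu1 : (u : SLn n F) ≠ 1 := fun h => by
    rw [← Subgroup.orderOf_coe, h, orderOf_one] at hu
    exact (Fact.out : p.Prime).ne_one hu.symm
  have hn : 0 < n := by
    rcases Nat.eq_zero_or_pos n with rfl | hn
    · exact absurd (Subsingleton.elim (u : SLn 0 F) 1) hu1
    · exact hn
  let Q : Subgroup (SLn n F) := Subgroup.zpowers (u : SLn n F)
  have hQD : Q ≤ D := Subgroup.zpowers_le.2 u.2
  have hQ : IsPGroup p Q := hgD.1.to_le hQD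
  have hgQ : g ∈ Subgroup.centralizer (Q : Set (SLn n F)) :=
    Subgroup.centralizer_le (show (Q : Set (SLn n F)) ⊆ D from hQD)
      (le_centralizer_singleton_iff.1 hgD.2.1)
  have hcu : ∀ c : Subgroup.centralizer (Q : Set (SLn n F)),
      (c : SLn n F) * u = u * (c : SLn n F) := fun c =>
    (Subgroup.mem_centralizer_iff.1 c.2 u (Subgroup.mem_zpowers _)).symm
  have hsub : radicalOf (u : SLn n F) ≤ Subgroup.centralizer (Q : Set (SLn n F)) := by
    intro x hx
    obtain ⟨h1, h2, -⟩ := mem_radicalOf.1 hx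
    have hcomm : x * u = u * x := Subtype.ext (by
      rw [val_mul, val_mul]
      have h3 : x.1 * (u : SLn n F).1 - (u : SLn n F).1 * x.1 = 0 := by
        calc x.1 * (u : SLn n F).1 - (u : SLn n F).1 * x.1
            = (x.1 - 1) * ((u : SLn n F).1 - 1) - ((u : SLn n F).1 - 1) * (x.1 - 1) := by noncomm_ring
          _ = 0 := by rw [h1, h2, sub_zero]
      exact sub_eq_zero.1 h3)
    rw [Subgroup.mem_centralizer_iff]
    rintro y ⟨j, rfl⟩
    exact ((show Commute x u from hcomm).zpow_right j).eq.symm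
  let R := (radicalOf (u : SLn n F)).subgroupOf (Subgroup.centralizer (Q : Set (SLn n F)))
  haveI : R.Normal := ⟨fun x hx c => conj_mem_radicalOf (hcu c) hx⟩
  have hR : IsPGroup p R :=
    (isPGroup_radicalOf hn (u : SLn n F)).of_equiv (Subgroup.subgroupOfEquivOfLe hsub).symm
  let z := (blockIdem M hB : MonoidAlgebra (localRing M) (SLn n F))
  have hz : z ∈ BrauerMap.fixedRing M (BrauerMap.core Q) :=
    BrauerMap.center_le_fixedRing _ (blockIdem M hB).2
  have hzQ : z ∈ BrauerMap.fixedRing M Q := BrauerMap.center_le_fixedRing _ (blockIdem M hB).2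
  have hzz : z * z = z :=
    congrArg (fun t : RCenter M (SLn n F) => (t : MonoidAlgebra (localRing M) (SLn n F)))
      (blockIdem_mul_self hB)
  let E := toF M _ (BrauerMap.trunc Q z)
  have hE : E * E = E := by
    simp only [E]
    rw [← map_mul, ← BrauerMap.toF_trunc_mul hM hQ hzQ hzQ, hzz]
  have hsupp := suppIn_centralizer_of_idempotent hM R hR (E := E)
    (map_mem_center _ (BrauerMap.trunc_mem_center hz)) hE
  have hgR : (⟨g, hgQ⟩ : Subgroup.centralizer (Q : Set (SLn n F))) ∈
      Subgroup.centralizer (R : Set (Subgroup.centralizer (Q : Set (SLn n F)))) := by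
    refine hsupp _ ?_
    simp only [E, toF, coeff_mapRingHom, BrauerMap.coeff_trunc, ne_eq, residue_eq_zero_iff, z,
      coe_coeff_blockIdem]
    exact hg.2.1
  obtain ⟨c, hc⟩ := exists_scalar_of_commute hup hu1 (hcu ⟨g, hgQ⟩) (fun x hx => by
    have := Subgroup.mem_centralizer_iff.1 hgR ⟨x, hsub hx⟩ hx
    exact (congrArg Subtype.val this).symm) (isDefectClass_pRegular hM hB hg)
  have htop : Subgroup.centralizer ({g} : Set (SLn n F)) = ⊤ := by
    rw [eq_top_iff]
    intro x _
    rw [Subgroup.mem_centralizer_singleton_iff]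
    apply Subtype.ext
    rw [val_mul, val_mul, hc, Matrix.mul_smul, Matrix.smul_mul, mul_one, one_mul]
  have h1 := card_defectGroup hM hB hD
  rw [hgD.2.2, htop, Subgroup.card_top] at h1
  exact (Nat.pow_right_injective (Fact.out : p.Prime).two_le h1).symm

section steinberg

variable {G : Type u} [Group G] [Finite G]

omit [Fact p.Prime] in
theorem exists_lift_center {z : MonoidAlgebra (Residue M) G}
    (hz : z ∈ Subalgebra.center (Residue M) (MonoidAlgebra (Residue M) G)) :
    ∃ z' : RCenter M G, toF M G (z' : MonoidAlgebra (localRing M) G) = z := by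
  obtain ⟨f, hf⟩ := (IsLocalRing.residue_surjective (R := localRing M)).hasRightInverse
  refine ⟨⟨ofFun fun x => f (z.coeff x), ?_⟩, ?_⟩
  · rw [mem_center_iff]
    intro g h
    show f (z.coeff (h * g * h⁻¹)) = f (z.coeff g)
    rw [mem_center_iff.1 hz g h]
  · ext x
    rw [coeff_mapRingHom]
    exact hf _

omit [Fact p.Prime] [M.IsPrime] in
theorem trOne_el {k : Type} [Field k] (y : G) :
    trOne (el y : MonoidAlgebra k G) =
      (Nat.card (Subgroup.centralizer ({y} : Set G)) : k) • classSum k y := by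
  letI := Fintype.ofFinite G
  ext x
  rw [trOne_def]
  simp only [el_mul, coeff_sum, coeff_smul, Finsupp.coe_finsetSum, Finset.sum_apply,
    Finsupp.coe_smul, Pi.smul_apply, el, coeff_single, coeff_classSum, smul_eq_mul]
  simp only [Finsupp.single_apply, Finset.sum_boole]
  by_cases hx : IsConj y x
  · obtain ⟨c, rfl⟩ := isConj_iff.1 hx
    rw [if_pos hx, mul_one]
    congr 1
    rw [← Fintype.card_subtype, ← Nat.card_eq_fintype_card]
    refine Nat.card_congr ((Equiv.mulLeft c⁻¹).subtypeEquiv fun h => ?_)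
    rw [Equiv.coe_mulLeft, Subgroup.mem_centralizer_singleton_iff]
    constructor
    · intro e
      calc c⁻¹ * h * y = c⁻¹ * (h * y * h⁻¹) * h := by group
        _ = y * (c⁻¹ * h) := by rw [e]; group
    · intro e
      calc h * y * h⁻¹ = c * (c⁻¹ * h * y) * h⁻¹ := by group
        _ = c * y * c⁻¹ := by rw [e]; group
  · rw [if_neg hx, mul_zero]
    rw [Finset.filter_false_of_mem fun h _ e => hx (isConj_iff.2 ⟨h, e⟩)]
    simp

omit [Fact p.Prime] [M.IsPrime] in
theorem trOne_smul {k : Type} [Field k] (c : k) (a : MonoidAlgebra k G) :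
    trOne (c • a) = c • trOne a := by
  letI := Fintype.ofFinite G
  simp only [trOne_def, Finset.smul_sum, mul_smul_comm, smul_mul_assoc]

omit [Fact p.Prime] [M.IsPrime] in
theorem trOne_mul_central {k : Type} [Field k] (a : MonoidAlgebra k G) {E : MonoidAlgebra k G}
    (hE : ∀ x, x * E = E * x) : trOne (a * E) = trOne a * E := by
  letI := Fintype.ofFinite G
  simp only [trOne_def, Finset.sum_mul]
  refine Finset.sum_congr rfl fun g _ => ?_
  rw [mul_assoc, mul_assoc a E, ← hE, ← mul_assoc, ← mul_assoc]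

/-- The reduced idempotent of a block of defect zero. -/
theorem isDZ_toF (hM : IsPModular p M) {B : Set (IrrCharacter G)} (hB : IsPBlock M B)
    (hd : blockDefect p B = 0) :
    IsDZ (toF M G (blockIdem M hB : MonoidAlgebra (localRing M) G)) := by
  classical
  obtain ⟨χ, hχ⟩ := isPBlock_nonempty hB
  set e := toF M G (blockIdem M hB : MonoidAlgebra (localRing M) G)
  have hBsing : B = {χ} := by
    rw [eq_blockOf_of_mem hB hχ]
    refine blockOf_eq_singleton_of_defect_zero hM χ ?_
    obtain ⟨h1, h0, hd'⟩ := exists_degree_eq χ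
    intro hp
    have h := factorization_degree_add_blockDefect hM hB hχ
    rw [hd, add_zero] at h
    have h2 := Nat.factorization_div hd'
    have hdiv0 : Nat.card G / charDegree (χ : G → ℂ) ≠ 0 :=
      Nat.div_ne_zero_iff.2 ⟨h0, Nat.le_of_dvd Nat.card_pos hd'⟩
    have h3 := (Fact.out : p.Prime).factorization_pos_of_dvd hdiv0 hp
    rw [h2, Finsupp.tsub_apply] at h3
    omega
  have hscal : ∀ z' : RCenter M G,
      z' * blockIdem M hB = algebraMap _ _ (omegaR M χ z') * blockIdem M hB := fun z' => by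
    refine rcenter_ext fun ψ => ?_
    simp only [map_mul, omegaR_blockIdem, AlgHom.commutes, Algebra.algebraMap_self, RingHom.id_apply]
    by_cases hψ : ψ ∈ B
    · have : ψ = χ := by rw [hBsing] at hψ; exact hψ
      subst this; rfl
    · rw [if_neg hψ]; simp
  have hscalF : ∀ z' : RCenter M G,
      e * toF M G (z' : MonoidAlgebra (localRing M) G) = omegaBar M χ z' • e := fun z' => by
    rw [omegaBar_apply]
    have h := congrArg (fun t : RCenter M G => toF M G (t : MonoidAlgebra (localRing M) G)) (hscal z')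
    simp only [MulMemClass.coe_mul, map_mul, Subalgebra.coe_algebraMap] at h
    rw [show e * toF M G (z' : MonoidAlgebra (localRing M) G) =
      toF M G (z' : MonoidAlgebra (localRing M) G) * e from
      (Subalgebra.mem_center_iff.1 (map_mem_center _ (blockIdem M hB).2) _).symm, h, Algebra.smul_def]
    congr 1
    simp [MonoidAlgebra.coe_algebraMap, toF, mapRingHom_single]
  have hcen : ∀ x, x * e = e * x :=
    fun x => Subalgebra.mem_center_iff.1 (map_mem_center _ (blockIdem M hB).2) x
  refine ⟨hcen, ?_, ?_, ?_, fun z hz => ?_⟩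
  · show toF M G _ * toF M G _ = _
    rw [← map_mul]
    exact congrArg (fun t : RCenter M G => toF M G (t : MonoidAlgebra (localRing M) G))
      (blockIdem_mul_self hB)
  · intro h0
    have h := omegaBar_congr (M := M) χ (z := blockIdem M hB) (w := 0) (by
      rw [show toF M G ((0 : RCenter M G) : MonoidAlgebra (localRing M) G) = 0 by simp]; exact h0)
    rw [omegaBar_blockIdem, if_pos hχ, map_zero] at h
    exact one_ne_zero h
  · obtain ⟨D, hD⟩ := exists_isDefectGroup (p := p) hB
    obtain ⟨g, hg, hgD⟩ := isDefectGroup_iff.1 hD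
    have hDbot := (blockDefect_eq_zero_iff hM hB hD).1 hd
    set m := Nat.card (Subgroup.centralizer ({g} : Set G))
    have hm : (m : Residue M) ≠ 0 := by
      haveI := charP_residue hM
      rw [ne_eq, CharP.cast_eq_zero_iff (Residue M) p]
      intro hdvd
      have h := hgD.2.2
      rw [hDbot, Subgroup.card_bot] at h
      have h0 := (Fact.out : p.Prime).factorization_pos_of_dvd (n := m) Nat.card_pos.ne' hdvd
      rcases Nat.pow_eq_one.1 h.symm with h1 | h1
      · exact (Fact.out : p.Prime).ne_one h1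
      · exact h0.ne' h1
    have hω : omegaBar M χ (classSumR M g) ≠ 0 := fun h =>
      hg.2.2 χ hχ ((omegaBar_classSumR_eq_zero_iff χ g).1 h)
    refine ⟨((m : Residue M) * omegaBar M χ (classSumR M g))⁻¹ • (el g * e), ?_⟩
    rw [trOne_smul, trOne_mul_central _ hcen, trOne_el, smul_mul_assoc, hcen,
      show classSum (Residue M) g = toF M G (classSumR M g : MonoidAlgebra (localRing M) G) from
        (map_classSum (residue M) g).symm, hscalF, smul_smul, smul_smul]
    rw [show (Nat.card (Subgroup.centralizer ({g} : Set G)) : Residue M) = (m : Residue M) from rfl,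
      mul_assoc, inv_mul_cancel₀ (mul_ne_zero hm hω), one_smul]
  · obtain ⟨z', rfl⟩ := exists_lift_center (M := M)
      (z := z) (Subalgebra.mem_center_iff.2 hz)
    exact ⟨_, hscalF z'⟩

end steinberg

/-- There is exactly one block of defect zero. -/
theorem card_defect_zero_blocks (hM : IsPModular p M) :
    Nat.card {B : Set (IrrCharacter (SLn n F)) // IsPBlock M B ∧ blockDefect p B = 0} = 1 := by
  classical
  letI := Fintype.ofFinite (SLn n F)
  haveI := charP_residue hM
  obtain ⟨Y, hYY, hY0, hYA, hYE⟩ :=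
    exists_steinberg_idem (p := p) (n := n) (F := F) (k := Residue M)
  choose lam hlam using hYA
  have hinj : ∀ a b : Residue M, a • Y = b • Y → a = b := by
    intro a b h
    rw [← sub_eq_zero, ← sub_smul] at h
    exact sub_eq_zero.1 ((smul_eq_zero.1 h).resolve_right hY0)
  -- the character of the centre
  have hcz : ∀ z : RCenter M (SLn n F),
      toF M _ (z : MonoidAlgebra (localRing M) (SLn n F)) * Y = lam (toF M _ (z : MonoidAlgebra (localRing M) (SLn n F))) • Y := by
    intro z
    rw [← hlam, Subalgebra.mem_center_iff.1 (map_mem_center _ z.2) Y, mul_assoc, hYY]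
  let φ : RCenter M (SLn n F) →+* Residue M :=
    { toFun := fun z => lam (toF M _ (z : MonoidAlgebra (localRing M) (SLn n F)))
      map_one' := hinj _ _ (by rw [← hcz]; simp)
      map_mul' := fun a b => hinj _ _ (by
        rw [← hcz, MulMemClass.coe_mul, map_mul, mul_assoc, hcz b, mul_smul_comm, hcz a, smul_smul,
          mul_comm])
      map_zero' := hinj _ _ (by rw [← hcz]; simp)
      map_add' := fun a b => hinj _ _ (by
        rw [← hcz, AddMemClass.coe_add, map_add, add_mul, hcz a, hcz b, add_smul]) }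
  have hφe : ∀ z : RCenter M (SLn n F),
      toF M _ (z : MonoidAlgebra (localRing M) (SLn n F)) * Y = φ z • Y := hcz
  have hφ : ∀ a : localRing M, φ (algebraMap _ _ a) = residue M a := fun a => hinj _ _ (by
    rw [← hφe, Algebra.smul_def]
    congr 1
    simp [MonoidAlgebra.coe_algebraMap, toF, mapRingHom_single])
  obtain ⟨χ, hχ⟩ := exists_eq_omegaBar φ hφ
  let B := blockOf M (χ : SLn n F → ℂ)
  have hB : IsPBlock M B := isPBlock_blockOf χ
  -- some class of defect zero is not killed
  have hex : ∃ y : SLn n F, ¬ p ∣ Nat.card (Subgroup.centralizer ({y} : Set (SLn n F))) ∧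
      φ (classSumR M y) ≠ 0 := by
    by_contra hno
    push Not at hno
    have hzero : ∀ y : SLn n F, trOne (el y) * Y = (0 : MonoidAlgebra (Residue M) (SLn n F)) := by
      intro y
      rw [trOne_el, show classSum (Residue M) y = toF M _ (classSumR M y : MonoidAlgebra (localRing M) (SLn n F)) from
        (map_classSum (residue M) y).symm, smul_mul_assoc, hφe, smul_smul]
      by_cases hp : p ∣ Nat.card (Subgroup.centralizer ({y} : Set (SLn n F)))
      · rw [(CharP.cast_eq_zero_iff (Residue M) p _).2 hp, zero_mul, zero_smul]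
      · rw [hno y hp, mul_zero, zero_smul]
    have htrY : trOne Y * Y = 0 := by
      have hdec : Y = ∑ y : SLn n F, Y.coeff y • el y := by
        ext x
        simp [el, coeff_sum, Finsupp.single_apply]
      nth_rewrite 1 [hdec]
      rw [trOne_def, Finset.sum_mul]
      simp only [Finset.mul_sum, Finset.sum_mul, mul_smul_comm, smul_mul_assoc]
      rw [Finset.sum_comm]
      refine Finset.sum_eq_zero fun y _ => ?_
      rw [← Finset.smul_sum, ← Finset.sum_mul, ← trOne_def, hzero, smul_zero]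
    -- compute the scalar
    have hτ : ∀ b, lam b * Y.coeff 1 = (Y * b).coeff 1 := fun b => by
      have h := congrArg (fun t : MonoidAlgebra (Residue M) (SLn n F) => t.coeff 1) (hlam b)
      simp only [coeff_smul, Finsupp.smul_apply, smul_eq_mul] at h
      rw [← h, coeff_one_mul_comm, ← mul_assoc, hYY]
    have hel : ∀ g : SLn n F, lam (el g) * Y.coeff 1 = Y.coeff g⁻¹ := fun g => by
      rw [hτ]; simp [el, coeff_mul_single_apply]
    have hτ0 : Y.coeff 1 ≠ 0 := by
      intro h0
      apply hY0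
      ext g
      have := hel g⁻¹
      rw [h0, mul_zero, inv_inv] at this
      simpa using this.symm
    have hcalc : trOne Y * Y = (∑ g : SLn n F, lam (el g) * lam (el g⁻¹)) • Y := by
      have h1 : Y * trOne Y * Y = trOne Y * Y := by
        rw [trOne_central, mul_assoc, hYY]
      rw [← h1, trOne_def, Finset.mul_sum, Finset.sum_mul, Finset.sum_smul]
      refine Finset.sum_congr rfl fun g _ => ?_
      calc Y * (el g * Y * el g⁻¹) * Y = (Y * el g * Y) * el g⁻¹ * Y := by simp only [mul_assoc]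
        _ = lam (el g) • (Y * el g⁻¹ * Y) := by rw [hlam, smul_mul_assoc, smul_mul_assoc]
        _ = _ := by rw [hlam, smul_smul]
    rw [htrY, eq_comm, smul_eq_zero, or_iff_left hY0] at hcalc
    have hsum : (∑ g : SLn n F, lam (el g) * lam (el g⁻¹)) * (Y.coeff 1 * Y.coeff 1) = Y.coeff 1 := by
      have h1 : (Y * Y).coeff 1 = Y.coeff 1 := by rw [hYY]
      rw [coeff_mul_apply_left, Finsupp.sum_fintype _ _ (by simp)] at h1
      conv_rhs => rw [← h1]
      rw [Finset.sum_mul]
      refine (Fintype.sum_equiv (Equiv.inv (SLn n F)) _ _ fun g => ?_)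
      rw [show lam (el g) * lam (el g⁻¹) * (Y.coeff 1 * Y.coeff 1) =
        (lam (el g) * Y.coeff 1) * (lam (el g⁻¹) * Y.coeff 1) by ring, hel, hel]
      simp [mul_comm]
    rw [hcalc, zero_mul] at hsum
    exact hτ0 hsum.symm
  obtain ⟨y, hy, hy'⟩ := hex
  have hB0 : blockDefect p B = 0 := by
    obtain ⟨D, hD⟩ := exists_isDefectGroup (p := p) hB
    obtain ⟨g, hg, hgD⟩ := isDefectGroup_iff.1 hD
    obtain ⟨Q, hQ⟩ := exists_isClassDefect (p := p) y
    have hQ1 : Q = ⊥ := Subgroup.eq_bot_of_card_eq Q (by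
      rw [hQ.2.2, Nat.factorization_eq_zero_of_not_dvd hy, pow_zero])
    have hω : ¬ MemLocalIdeal M (centralChar (χ : SLn n F → ℂ) y) := fun h =>
      hy' (by rw [hχ]; exact (omegaBar_classSumR_eq_zero_iff χ y).2 h)
    obtain ⟨x, hx⟩ := exists_conj_le_classDefect hM hB hg hgD (mem_blockOf_self χ) hω hQ
    rw [hQ1, Subgroup.map_bot, le_bot_iff] at hx
    exact (blockDefect_eq_zero_iff hM hB hD).2 hx
  rw [Nat.card_eq_one_iff_exists]
  refine ⟨⟨B, hB, hB0⟩, fun ⟨B', hB', hB'0⟩ => Subtype.ext ?_⟩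
  have hne : φ (blockIdem M hB') ≠ 0 := by
    intro h0
    refine hYE _ (isDZ_toF hM hB' hB'0) ?_
    rw [hφe, h0, zero_smul]
  rw [hχ, omegaBar_blockIdem] at hne
  have hmem : χ ∈ B' := by
    by_contra hno
    exact hne (if_neg hno)
  exact isPBlock_eq_of_mem hB' hB hmem (mem_blockOf_self χ)

end Cfsg.Agent.Lib.SteinbergBlock
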