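import Mathlib
import Cfsg.Agent.Lib.SteinbergBlock.Algebra

/-!
# Defect zero blocks of a group with a split Tits system: there is at most one
-/

set_option autoImplicit false

namespace Cfsg.Agent.Lib.SteinbergBlock

open MonoidAlgebra

universe u v w

/-- The data of a split Tits system that the Hecke argument uses. -/
structure SplitData (p : ℕ) (G : Type u) [Group G] [Finite G] (k : Type v) [Field k] where
  U : Subgroup G
  T : Subgroup G
  ι : Type w
  X : ι → Subgroup G
  n : ι → G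
  coroots : ι → Set G
  n0 : G
  pgroup : IsPGroup p U
  T_prime : ¬ p ∣ Nat.card T
  T_comm : ∀ s ∈ T, ∀ t ∈ T, s * t = t * s
  T_norm : ∀ t ∈ T, ∀ u ∈ U, t * u * t⁻¹ ∈ U
  T_normX : ∀ i, ∀ t ∈ T, ∀ x ∈ X i, t * x * t⁻¹ ∈ X i
  n_conj : ∀ i, ∀ t ∈ T, n i * t * (n i)⁻¹ ∈ T
  coroots_mem : ∀ i, coroots i ⊆ T
  T_gen : T ≤ Subgroup.closure (⋃ i, coroots i)
  quad : ∀ i, ∀ d ∈ coroots i, ∀ y : MonoidAlgebra k G, LFix U y →
    (el d - 1) * (hat (X i) * el (n i) * (hat (X i) * el (n i) * y)) = 0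
  factor : ∀ i, ∃ y : MonoidAlgebra k G, LFix U y ∧
    hat U * el n0 * hat U = hat (X i) * el (n i) * y
  cells : ∀ g : G, ∃ u ∈ U, ∃ m : G, ∃ u' ∈ U, g = u * m * u' ∧
    ((hat U * el m * hat U : MonoidAlgebra k G) = 0 ∨ ∃ t ∈ T, m = t * n0)

namespace SplitData

variable {p : ℕ} {G : Type u} [Group G] [Finite G] {k : Type v} [Field k]
  (S : SplitData.{u, v, w} p G k)

/-- `Û n₀ Û` -/
noncomputable def vEl : MonoidAlgebra k G := hat S.U * el S.n0 * hat S.U

/-- the span of the translates of `v` by the torus -/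
noncomputable def span : Submodule k (MonoidAlgebra k G) :=
  Submodule.span k (Set.range fun t : S.T => el (t : G) * S.vEl)

theorem torus_mul_hatU {t : G} (ht : t ∈ S.T) :
    (el t : MonoidAlgebra k G) * hat S.U = hat S.U * el t :=
  el_mul_hat_of_normalizes (S.T_norm t ht)

theorem hat_mul_mul_hat_mem (a : MonoidAlgebra k G) : hat S.U * a * hat S.U ∈ S.span := by
  induction a using MonoidAlgebra.induction_on with
  | of g =>
    obtain ⟨u, hu, m, u', hu', rfl, hm⟩ := S.cells g
    show hat S.U * el (u * m * u') * hat S.U ∈ _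
    rw [← el_mul, ← el_mul, ← mul_assoc, ← mul_assoc, hat_mul_el hu, mul_assoc _ (el u'),
      lfix_hat _ _ hu']
    rcases hm with hm | ⟨t, ht, rfl⟩
    · rw [hm]; exact zero_mem _
    · refine Submodule.subset_span ⟨⟨t, ht⟩, ?_⟩
      show el t * S.vEl = _
      rw [vEl, ← el_mul, ← mul_assoc, ← mul_assoc, S.torus_mul_hatU ht, mul_assoc (hat S.U) (el t)]
  | add a b ha hb => rw [mul_add, add_mul]; exact add_mem ha hb
  | smul r a ha => rw [mul_smul_comm, smul_mul_assoc]; exact Submodule.smul_mem _ r ha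

theorem mem_span_of_lfix {z : MonoidAlgebra k G} (hz : LFix S.U z) : z * S.vEl ∈ S.span := by
  obtain ⟨c, rfl⟩ := exists_eq_hat_mul hz
  rw [show hat S.U * c * S.vEl = hat S.U * (c * (hat S.U * el S.n0)) * hat S.U by
    simp only [vEl, mul_assoc]]
  exact S.hat_mul_mul_hat_mem _

theorem coroot_sub_one_mul_vav (i : S.ι) {d : G} (hd : d ∈ S.coroots i) (a : MonoidAlgebra k G) :
    (el d - 1) * (S.vEl * a * S.vEl) = 0 := by
  obtain ⟨y, hy, hv⟩ := S.factor i
  have key : ∀ z ∈ S.span,
      ((el d : MonoidAlgebra k G) - 1) * (hat (S.X i) * el (S.n i) * z) = 0 := by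
    intro z hz
    induction hz using Submodule.span_induction with
    | mem z hz =>
      obtain ⟨t, rfl⟩ := hz
      have ht' := S.n_conj i t t.2
      have hq : (hat (S.X i) * el (S.n i) : MonoidAlgebra k G) * el (t : G) =
          el (S.n i * t * (S.n i)⁻¹) * (hat (S.X i) * el (S.n i)) := by
        rw [← mul_assoc, el_mul_hat_of_normalizes (S.T_normX i _ ht'), mul_assoc, mul_assoc, el_mul,
          el_mul, inv_mul_cancel_right]
      have hcomm : ((el d : MonoidAlgebra k G) - 1) * el (S.n i * t * (S.n i)⁻¹) =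
          el (S.n i * t * (S.n i)⁻¹) * (el d - 1) := by
        rw [sub_mul, mul_sub, one_mul, mul_one, el_mul, el_mul,
          S.T_comm d (S.coroots_mem i hd) _ ht']
      show (el d - 1) * (hat (S.X i) * el (S.n i) * (el (t : G) * S.vEl)) = 0
      rw [← mul_assoc _ (el (t : G)), hq, mul_assoc (el _), ← mul_assoc, hcomm, mul_assoc, vEl, hv,
        S.quad i d hd y hy, mul_zero]
    | zero => simp
    | add _ _ _ _ ha hb => simp only [mul_add, ha, hb, add_zero]
    | smul r _ _ ha => simp only [mul_smul_comm, ha, smul_zero]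
  rw [show S.vEl * a * S.vEl = hat (S.X i) * el (S.n i) * (y * a * S.vEl) by
    conv_lhs => arg 1; arg 1; rw [vEl, hv]
    simp only [mul_assoc]]
  exact key _ (S.mem_span_of_lfix (hy.mul a))

/-- The torus acts trivially on `v E`. -/
theorem torus_mul_vE {E : MonoidAlgebra k G} (hE : IsDZ E) {t : G} (ht : t ∈ S.T) :
    el t * (S.vEl * E) = S.vEl * E := by
  have hcl := S.T_gen ht
  clear ht
  induction hcl using Subgroup.closure_induction with
  | mem d hd =>
    obtain ⟨i, hi⟩ := Set.mem_iUnion.1 hd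
    set w := ((el d : MonoidAlgebra k G) - 1) * (S.vEl * E)
    suffices hw : w = 0 by
      simp only [w, sub_mul, one_mul, sub_eq_zero] at hw
      exact hw
    refine hE.eq_zero_of_forall_mul ?_ fun a => ?_
    · rw [← hE.central]
      simp only [w, mul_assoc, hE.idem]
    · have := S.coroot_sub_one_mul_vav i hi (E * a * ((el d : MonoidAlgebra k G) - 1))
      calc w * a * w = ((el d - 1) * (S.vEl * (E * a * (el d - 1)) * S.vEl)) * E := by
            simp only [w, mul_assoc]
        _ = 0 := by rw [this, zero_mul]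
  | one => rw [el_one, one_mul]
  | mul a b _ _ ha hb => rw [← el_mul, mul_assoc, hb, ha]
  | inv a _ ha =>
    conv_lhs => rw [← ha]
    rw [← mul_assoc, el_mul, inv_mul_cancel, el_one, one_mul]

variable [Fact p.Prime] [CharP k p]

theorem vE_ne_zero {E : MonoidAlgebra k G} (hE : IsDZ E) : S.vEl * E ≠ 0 := by
  intro hzero
  have hx := hat_mul_ne_zero (p := p) hE.idem hE.central hE.ne_zero S.pgroup
  obtain ⟨a, ha⟩ := hE.exists_mul_mul_ne_zero
    (x := hat S.U * E) (by rw [← mul_assoc, ← hE.central, mul_assoc, hE.idem]) hx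
  apply ha
  have key : ∀ z ∈ S.span, z * E = 0 := by
    intro z hz
    induction hz using Submodule.span_induction with
    | mem z hz =>
      obtain ⟨t, rfl⟩ := hz
      show el (t : G) * S.vEl * E = 0
      rw [mul_assoc, hzero, mul_zero]
    | zero => simp
    | add _ _ _ _ ha hb => simp only [add_mul, ha, hb, add_zero]
    | smul r _ _ ha => simp only [smul_mul_assoc, ha, smul_zero]
  rw [show hat S.U * E * a * (hat S.U * E) = hat S.U * (E * a) * hat S.U * E by
    simp only [mul_assoc]]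
  exact key _ (S.hat_mul_mul_hat_mem _)

/-- `T̂ Û n₀ Û` -/
noncomputable def pEl : MonoidAlgebra k G := hat S.T * S.vEl

theorem pE_ne_zero {E : MonoidAlgebra k G} (hE : IsDZ E) : S.pEl * E ≠ 0 := by
  rw [pEl, mul_assoc, hat_mul_lfix fun t ht => S.torus_mul_vE hE ht]
  refine smul_ne_zero ?_ (S.vE_ne_zero hE)
  rw [ne_eq, CharP.cast_eq_zero_iff k p]
  exact S.T_prime

omit [Fact p.Prime] [CharP k p] in
theorem pap_mem (a : MonoidAlgebra k G) : ∃ c : k, S.pEl * a * S.pEl = c • S.pEl := by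
  have hv : LFix S.U S.vEl := ((lfix_hat S.U).mul (el S.n0)).mul (hat S.U)
  have hmem : S.vEl * (a * hat S.T) * S.vEl ∈ S.span :=
    S.mem_span_of_lfix (hv.mul _)
  have key : ∀ z ∈ S.span, ∃ c : k, hat S.T * z = c • S.pEl := by
    intro z hz
    induction hz using Submodule.span_induction with
    | mem z hz =>
      obtain ⟨t, rfl⟩ := hz
      exact ⟨1, by rw [← mul_assoc, hat_mul_el t.2, one_smul, pEl]⟩
    | zero => exact ⟨0, by simp⟩
    | add _ _ _ _ ha hb =>
      obtain ⟨c, hc⟩ := ha; obtain ⟨d, hd⟩ := hb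
      exact ⟨c + d, by rw [mul_add, hc, hd, add_smul]⟩
    | smul r _ _ ha =>
      obtain ⟨c, hc⟩ := ha
      exact ⟨r * c, by rw [mul_smul_comm, hc, smul_smul]⟩
  obtain ⟨c, hc⟩ := key _ hmem
  exact ⟨c, by rw [← hc]; simp only [pEl, mul_assoc]⟩

include S in
/-- Two defect zero blocks cannot be orthogonal. -/
theorem mul_ne_zero_of_isDZ {E E' : MonoidAlgebra k G} (hE : IsDZ E) (hE' : IsDZ E') :
    E * E' ≠ 0 := by
  intro horth
  have hx := S.pE_ne_zero hE
  have hEx : E * (S.pEl * E) = S.pEl * E := by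
    rw [← mul_assoc, ← hE.central, mul_assoc, hE.idem]
  obtain ⟨a, ha⟩ := hE.exists_mul_mul_ne_zero hEx hx
  obtain ⟨c, hc⟩ := S.pap_mem (E * a)
  have hc0 : c ≠ 0 := by
    rintro rfl
    apply ha
    rw [zero_smul] at hc
    rw [show S.pEl * E * a * (S.pEl * E) = S.pEl * (E * a) * S.pEl * E by simp only [mul_assoc],
      hc, zero_mul]
  apply S.pE_ne_zero hE'
  have h1 : S.pEl * (E * a) * S.pEl * E' = 0 := by
    rw [mul_assoc _ S.pEl E', show S.pEl * (E * a) * (S.pEl * E') =
      S.pEl * (E * (a * S.pEl) * E') by simp only [mul_assoc], mul_assoc E, hE'.central,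
      ← mul_assoc E, horth, zero_mul, mul_zero]
  rw [hc, smul_mul_assoc, smul_eq_zero, or_iff_right hc0] at h1
  exact h1

end SplitData

end Cfsg.Agent.Lib.SteinbergBlock
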