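import Mathlib
import Cfsg.Agent.Lib.SteinbergBlock.Split
import Cfsg.Agent.Lib.SteinbergBlock.Hecke
import Cfsg.Agent.Lib.Chev.Steinberg

/-!
# The split Tits system of a Chevalley group as Hecke data
-/

set_option autoImplicit false

namespace Cfsg.Agent.Lib.SteinbergBlock

open Cfsg.Lie MonoidAlgebra
open Cfsg.Agent.Lib.Chev
open scoped Classical

universe u v

variable {D : ChevalleyDatum} {C : Cert} {F : Type u} [Field F] [Fintype F]

/-- A subgroup of the ambient linear group inside the Chevalley group. -/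
abbrev inG (H : Subgroup (GL D.Idx F)) : Subgroup ↥(D.group F) := H.subgroupOf (D.group F)

omit [Fintype F] in
theorem rootGen_singleton (r : ℕ) : rootGen D F {r} = D.rootSubgroup F r := by
  refine le_antisymm ((Subgroup.closure_le _).2 ?_) ((Subgroup.closure_le _).2 ?_)
  · rintro g ⟨s, t, rfl, e⟩; exact Subgroup.subset_closure ⟨t, e⟩
  · rintro g ⟨t, e⟩; exact mem_rootGen (S := {r}) rfl e

variable (hh : Rooted D C)

/-- a root element in the group -/
noncomputable def xG {r : ℕ} (hr : r < D.nroots) (t : F) : ↥(D.group F) :=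
  ⟨xGL hh.toChecked F hr t,
    rootGen_le_group (S := {r}) (fun s hs => by rw [Set.mem_singleton_iff.1 hs]; exact hr)
      (mem_rootGen (S := {r}) (r := r) (t := t) rfl rfl)⟩

/-- the representative of a fundamental reflection in the group -/
noncomputable def nG (i : {i // i < D.rank}) : ↥(D.group F) :=
  ⟨nS hh.toChecked F i.1, hh.nS_mem_group i.2⟩

include hh in
omit [Fintype F] in
theorem torusHom_mem (c : ℕ → Fˣ) : torusHom D F c ∈ D.diagonalSubgroup F := by
  rw [hh.diagonalSubgroup_eq]; exact ⟨c, rfl⟩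

/-- the coroot elements in the group -/
noncomputable def hG (i : {i // i < D.rank}) : Fˣ →* ↥(D.group F) where
  toFun c := ⟨torusHom D F (Pi.mulSingle i.1 c), hh.diagonal_le_group (torusHom_mem hh _)⟩
  map_one' := Subtype.ext (by simp)
  map_mul' a b := Subtype.ext (by simp [Pi.mulSingle_mul])

omit [Fintype F] in
theorem mem_X_iff {r : ℕ} (hr : r < D.nroots) {g : ↥(D.group F)} :
    g ∈ inG (rootGen D F {r}) ↔ ∃ t, g = xG hh hr t := by
  rw [Subgroup.mem_subgroupOf, rootGen_singleton, hh.toChecked.rootSubgroup_mem_iff hr]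
  exact ⟨fun ⟨t, e⟩ => ⟨t, Subtype.ext e⟩, fun ⟨t, e⟩ => ⟨t, congrArg Subtype.val e⟩⟩

omit [Fintype F] in
theorem xG_injective {r : ℕ} (hr : r < D.nroots) : Function.Injective (xG hh hr : F → ↥(D.group F)) :=
  fun a b e => hh.toChecked.x_injective hr (congrArg (fun z : ↥(D.group F) =>
    ((z : GL D.Idx F) : Matrix D.Idx D.Idx F)) e)

omit [Fintype F] in
/-- `n x(t) n = x(-u) h(u) n x(-u) n²` -/
theorem rank_one (i : {i // i < D.rank}) (t : Fˣ) :
    ∃ u : Fˣ, (u : F) = -((eta C i.1 (D.simple i.1) : F) * (t : F))⁻¹ ∧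
      nG hh i * xG hh (hh.toChecked.simple_lt i.2) (t : F) * nG hh i =
        xG hh (hh.toChecked.simple_lt i.2) (-(u : F)) * hG hh i u * nG hh i *
          xG hh (hh.toChecked.simple_lt i.2) (-(u : F)) * (nG hh i * nG hh i) := by
  obtain ⟨i, hi⟩ := i
  have h := hh.toChecked
  have hp := h.simple_lt hi
  set η : F := (eta C i (D.simple i) : F)
  have hη : η ≠ 0 := by
    intro h0
    have := etaF_sq (F := F) (C := C) i (D.simple i)
    rw [show (eta C i (D.simple i) : F) = η from rfl, h0, mul_zero] at this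
    exact zero_ne_one this
  refine ⟨Units.mk0 (-(η * (t : F))⁻¹) (neg_ne_zero.2 (inv_ne_zero (mul_ne_zero hη t.ne_zero))),
    rfl, Subtype.ext (Units.ext ?_)⟩
  set u : Fˣ := Units.mk0 (-(η * (t : F))⁻¹) (neg_ne_zero.2 (inv_ne_zero (mul_ne_zero hη t.ne_zero)))
  have hut : η * (t : F) = -(u : F)⁻¹ := by simp [u, inv_neg]
  simp only [nG, xG, hG, MonoidHom.coe_mk, OneHom.coe_mk, Subgroup.coe_mul, Units.val_mul,
    coe_nS h hi, coe_xGL]
  rw [← hh.hMat_simple_torus hi u, h.hMat_simple hi u,
    h.nMat_mul_x hi hp, h.simple_refl hi, show (eta C i (D.simple i) : F) * (t : F) = η * t from rfl, hut]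
  have hmid : powDiag D (u : F) (fun s => D.cartan i s) * D.nMat F (D.simple i) 1 =
      D.x F (D.simple i) (u : F) * D.x F (ng D (D.simple i)) (-(u : F)⁻¹) * D.x F (D.simple i) (u : F) := by
    rw [← h.nMat_simple_eq hi u]
    simp only [ChevalleyDatum.nMat, ChevalleyDatum.nWord, ChevalleyDatum.wordMat, List.map_cons,
      List.map_nil, List.prod_cons, List.prod_nil, mul_one, h.neg_eq hp, mul_assoc]
  rw [mul_assoc (D.x F (D.simple i) (-(u : F))) (powDiag D _ _), hmid,
    show D.x F (D.simple i) (-(u : F)) * (D.x F (D.simple i) (u : F) *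
      D.x F (ng D (D.simple i)) (-(u : F)⁻¹) * D.x F (D.simple i) (u : F)) *
        D.x F (D.simple i) (-(u : F)) * (D.nMat F (D.simple i) 1 * D.nMat F (D.simple i) 1) =
      (D.x F (D.simple i) (-(u : F)) * D.x F (D.simple i) (u : F)) *
      D.x F (ng D (D.simple i)) (-(u : F)⁻¹) * (D.x F (D.simple i) (u : F) *
        D.x F (D.simple i) (-(u : F))) * (D.nMat F (D.simple i) 1 * D.nMat F (D.simple i) 1) by
      simp only [mul_assoc],
    h.x_neg_mul hp, h.x_mul_neg hp, one_mul, mul_one]
  simp only [mul_assoc]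

omit [Fintype F] in
theorem mem_inG_U {g : ↥(D.group F)} :
    g ∈ inG (D.posUnipotent F) ↔ (g : GL D.Idx F) ∈ D.posUnipotent F := Subgroup.mem_subgroupOf

include hh in
omit [Fintype F] in
theorem X_le_U (i : {i // i < D.rank}) :
    inG (rootGen D F {D.simple i.1}) ≤ inG (D.posUnipotent F) := fun g hg => by
  rw [Subgroup.mem_subgroupOf] at hg ⊢
  rw [hh.toChecked.posUnipotent_eq]
  refine rootGen_mono ?_ hg
  rintro r rfl
  exact ⟨(hh.toChecked.simple_spec i.2).2, hh.toChecked.simple_lt i.2⟩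

include hh in
theorem isPGroup_U (p : ℕ) [Fact p.Prime] [CharP F p] : IsPGroup p ↥(inG (D.posUnipotent F)) := by
  obtain ⟨P, hP⟩ := hh.exists_sylow_posUnipotent (F := F) p
  show IsPGroup p ↥((D.posUnipotent F).subgroupOf (D.group F))
  exact hP ▸ P.2

variable {k : Type v} [Field k]

omit [Fintype F] in
theorem lfix_absorb {U : Subgroup ↥(D.group F)} {y : MonoidAlgebra k ↥(D.group F)} (hy : LFix U y)
    {g : ↥(D.group F)} (hg : g ∈ U) (z : ↥(D.group F)) :
    (el (z * g) : MonoidAlgebra k ↥(D.group F)) * y = el z * y := by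
  rw [← el_mul, mul_assoc, hy g hg]

include hh in
/-- The square of a Hecke operator on vectors fixed by the unipotent group. -/
theorem sq_chev (p : ℕ) [Fact p.Prime] [CharP F p] [CharP k p] (i : {i // i < D.rank})
    {y : MonoidAlgebra k ↥(D.group F)} (hy : LFix (inG (D.posUnipotent F)) y) :
    hat (inG (rootGen D F {D.simple i.1})) * el (nG hh i) *
        (hat (inG (rootGen D F {D.simple i.1})) * el (nG hh i) * y) =
      (∑ c : Fˣ, el (hG hh i c)) * (el (nG hh i * nG hh i) *
        (hat (inG (rootGen D F {D.simple i.1})) * el (nG hh i) * y)) := by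
  have hp := hh.toChecked.simple_lt i.2
  set X := inG (rootGen D F {D.simple i.1})
  set n : ↥(D.group F) := nG hh i
  set x : F → ↥(D.group F) := xG hh hp
  have hxm : ∀ t, x t ∈ X := fun t => (mem_X_iff hh hp).2 ⟨t, rfl⟩
  have hhat : (hat X : MonoidAlgebra k ↥(D.group F)) = ∑ t : F, el (x t) := by
    letI := Fintype.ofFinite X
    rw [hat_def]
    refine (Fintype.sum_bijective (fun t => (⟨x t, hxm t⟩ : X)) ⟨fun a b e => xG_injective hh hp
      (congrArg Subtype.val e), fun g => ?_⟩ _ _ fun t => rfl).symm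
    obtain ⟨t, ht⟩ := (mem_X_iff hh hp).1 g.2
    exact ⟨t, Subtype.ext ht.symm⟩
  have hTX : ∀ s : ↥(D.group F), (s : GL D.Idx F) ∈ D.diagonalSubgroup F →
      ∀ g ∈ X, s * g * s⁻¹ ∈ X := fun s hs g hg =>
    (Subgroup.mem_normalizer_iff.1 (hh.diagonal_le_normalizer (S := {D.simple i.1})
      (fun r hr => by rw [Set.mem_singleton_iff.1 hr]; exact hp) hs) g).1 hg
  have hsq : ((n * n : ↥(D.group F)) : GL D.Idx F) ∈ D.diagonalSubgroup F := hh.nS_sq i.2
  have hcard : (Nat.card X : k) = 0 := by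
    haveI : Nontrivial X := ⟨⟨⟨x 0, hxm 0⟩, ⟨x 1, hxm 1⟩,
      fun e => zero_ne_one (xG_injective hh hp (congrArg Subtype.val e))⟩⟩
    exact card_pgroup_eq_zero (p := p) ((isPGroup_U hh p).to_le (X_le_U hh i))
  have hexp : hat X * el n * (hat X * el n * y) = ∑ t : F, hat X * (el (n * x t * n) * y) := by
    conv_lhs => arg 2; rw [hhat]
    rw [Finset.sum_mul, Finset.sum_mul, Finset.mul_sum]
    refine Finset.sum_congr rfl fun t _ => ?_
    simp only [← el_mul, mul_assoc]
  have hzero : hat X * (el (n * x 0 * n) * y) = 0 := by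
    have hx0 : x 0 = 1 := Subtype.ext (Units.ext (hh.toChecked.x_zero hp))
    rw [hx0, mul_one, ← mul_assoc, ← el_mul_hat_of_normalizes (hTX _ hsq), mul_assoc,
      hat_mul_lfix (hy.mono (X_le_U hh i)), hcard, zero_smul, mul_zero]
  let σ : Fˣ → Fˣ := fun t => (rank_one hh i t).choose
  have hσ : ∀ t, ((σ t : Fˣ) : F) = -((eta C i.1 (D.simple i.1) : F) * (t : F))⁻¹ :=
    fun t => (rank_one hh i t).choose_spec.1
  have hσb : Function.Bijective σ := by
    refine Finite.injective_iff_bijective.1 fun a b e => ?_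
    have h1 := congrArg (fun z : Fˣ => (z : F)) e
    simp only [hσ, neg_inj, inv_inj] at h1
    refine Units.ext (mul_left_cancel₀ (fun h0 => ?_) h1)
    have := etaF_sq (F := F) (C := C) i.1 (D.simple i.1)
    rw [h0, mul_zero] at this
    exact zero_ne_one this
  set z := el (n * n) * (hat X * el n * y)
  have hterm : ∀ t : Fˣ, hat X * (el (n * x (t : F) * n) * y) = el (hG hh i (σ t)) * z := by
    intro t
    rw [show n * x (t : F) * n = x (-(σ t : F)) * hG hh i (σ t) * n * x (-(σ t : F)) * (n * n) from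
      (rank_one hh i t).choose_spec.2]
    set s : ↥(D.group F) := hG hh i (σ t)
    set a : ↥(D.group F) := x (-(σ t : F))
    have ha' : (n * n)⁻¹ * a * (n * n) ∈ X := by
      have := hTX (n * n)⁻¹ (by simpa using inv_mem hsq) a (hxm _)
      rwa [inv_inv] at this
    rw [show a * s * n * a * (n * n) = a * (s * (n * n) * n) * ((n * n)⁻¹ * a * (n * n)) by group,
      lfix_absorb hy (X_le_U hh i ha'), ← el_mul, ← mul_assoc, ← mul_assoc, hat_mul_el (hxm _),
      ← el_mul, ← mul_assoc, ← el_mul_hat_of_normalizes (hTX (s * (n * n))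
        (mul_mem (torusHom_mem hh _) hsq)), ← el_mul]
    simp only [z, mul_assoc]
  rw [hexp, ← Finset.add_sum_erase _ _ (Finset.mem_univ (0 : F)), hzero, zero_add]
  have hsum : ∑ t ∈ Finset.univ.erase (0 : F), hat X * (el (n * x t * n) * y) =
      ∑ t : Fˣ, hat X * (el (n * x (t : F) * n) * y) :=
    Finset.sum_bij' (fun t ht => Units.mk0 t (Finset.ne_of_mem_erase ht)) (fun c _ => (c : F))
      (fun _ _ => Finset.mem_univ _) (fun c _ => Finset.mem_erase.2 ⟨c.ne_zero, Finset.mem_univ _⟩)
      (fun _ _ => rfl) (fun _ _ => Units.ext rfl) (fun _ _ => rfl)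
  rw [hsum, Finset.sum_congr rfl fun t _ => hterm t, ← Finset.sum_mul,
    Fintype.sum_bijective σ hσb (fun t => (el (hG hh i (σ t)) : MonoidAlgebra k ↥(D.group F)))
      (fun c => el (hG hh i c)) (fun _ => rfl)]

include hh in
theorem quad_chev (p : ℕ) [Fact p.Prime] [CharP F p] [CharP k p] (i : {i // i < D.rank}) (d : Fˣ)
    {y : MonoidAlgebra k ↥(D.group F)} (hy : LFix (inG (D.posUnipotent F)) y) :
    (el (hG hh i d) - 1) *
      (hat (inG (rootGen D F {D.simple i.1})) * el (nG hh i) *
        (hat (inG (rootGen D F {D.simple i.1})) * el (nG hh i) * y)) = 0 := by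
  rw [sq_chev hh p i hy, ← mul_assoc, sub_mul, one_mul, Finset.mul_sum,
    Fintype.sum_equiv (Equiv.mulLeft d) (fun c => el (hG hh i d) * el (hG hh i c))
      (fun c => el (hG hh i c)) (fun c => by rw [el_mul, ← map_mul]; rfl), sub_self, zero_mul]

include hh in
omit [Fintype F] in
theorem torusHom_congr {c c' : ℕ → Fˣ} (h : ∀ i < D.rank, c i = c' i) :
    torusHom D F c = torusHom D F c' := by
  apply Units.ext
  rw [coe_torusHom, coe_torusHom]
  congr 1
  funext s
  exact Finset.prod_congr rfl fun j hj => by rw [h j (Finset.mem_range.1 hj)]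

include hh in
theorem diag_le_closure : inG (D.diagonalSubgroup F) ≤
    Subgroup.closure (⋃ i, Set.range (hG hh i : Fˣ → ↥(D.group F))) := by
  intro g hg
  rw [Subgroup.mem_subgroupOf, hh.diagonalSubgroup_eq] at hg
  obtain ⟨c, hc⟩ := hg
  suffices key : ∀ m ≤ D.rank, ∀ g : ↥(D.group F),
      (g : GL D.Idx F) = torusHom D F (fun j => if j < m then c j else 1) →
      g ∈ Subgroup.closure (⋃ i, Set.range (hG hh i : Fˣ → ↥(D.group F))) by
    exact key D.rank le_rfl g (hc.symm.trans (torusHom_congr hh fun i hi => by simp [hi]))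
  intro m
  induction m with
  | zero =>
    intro _ g hg
    have : g = 1 := Subtype.ext (by
      rw [hg, show (fun j => if j < 0 then c j else 1) = (1 : ℕ → Fˣ) from funext fun j => by simp,
        map_one]
      rfl)
    rw [this]; exact one_mem _
  | succ m ih =>
    intro hm g hg
    have e : (fun j => if j < m + 1 then c j else 1) =
        (fun j => if j < m then c j else 1) * Pi.mulSingle m (c m) := by
      funext j
      rcases lt_trichotomy j m with h | h | h
      · simp [h, Nat.lt_succ_of_lt h, h.ne]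
      · subst h; simp
      · simp [h.ne', show ¬ j < m + 1 by omega, show ¬ j < m by omega]
    have hmem : ∀ c' : ℕ → Fˣ, torusHom D F c' ∈ D.group F := fun c' =>
      hh.diagonal_le_group (torusHom_mem hh c')
    have hg' : g = ⟨_, hmem fun j => if j < m then c j else 1⟩ * hG hh ⟨m, hm⟩ (c m) :=
      Subtype.ext (by rw [hg, e, map_mul]; rfl)
    rw [hg']
    exact mul_mem (ih (by omega) _ rfl)
      (Subgroup.subset_closure (Set.mem_iUnion.2 ⟨⟨m, hm⟩, _, rfl⟩))

include hh in
/-- The Hecke data of a Chevalley group, with its unipotent and diagonal subgroups. -/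
theorem exists_splitData_eq (p : ℕ) [Fact p.Prime] [CharP F p] [CharP k p] :
    ∃ S : SplitData.{u, v, 0} p ↥(D.group F) k,
      S.U = inG (D.posUnipotent F) ∧ S.T = inG (D.diagonalSubgroup F) := by
  have h := hh.toChecked
  obtain ⟨L0, hL0, hneg, hpos⟩ := hh.exists_longest
  let n0 : ↥(D.group F) := ⟨nProd h F L0, hh.monomial_le_group (hh.nProd_mem_monomial hL0)⟩
  have hsq0 : (n0 : GL D.Idx F) * n0 ∈ D.diagonalSubgroup F := by
    show nProd h F L0 * nProd h F L0 ∈ _
    rw [← nProd_append]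
    refine hh.nProd_mem_diag_of_pos (hL0.append hL0) fun r hp hr => ?_
    rw [perm_append]
    exact hpos _ (hneg r hp hr)
  have hU_norm : ∀ t : ↥(D.group F), (t : GL D.Idx F) ∈ D.diagonalSubgroup F →
      ∀ u : ↥(D.group F), u ∈ inG (D.posUnipotent F) → t * u * t⁻¹ ∈ inG (D.posUnipotent F) :=
    fun t ht u hu => (Subgroup.mem_normalizer_iff.1 (hh.diagonal_le_normalizer_posUnipotent ht) _).1 hu
  have hroot1 : ∀ r (hr : r < D.nroots), xG hh hr (1 : F) ≠ 1 := fun r hr e => by
    have : D.x F r (1 : F) = 1 := congrArg (fun z : ↥(D.group F) =>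
      ((z : GL D.Idx F) : Matrix D.Idx D.Idx F)) e
    exact one_ne_zero ((h.x_eq_one_iff hr (1 : F)).1 this)
  refine ⟨{
    U := inG (D.posUnipotent F)
    T := inG (D.diagonalSubgroup F)
    ι := {i // i < D.rank}
    X := fun i => inG (rootGen D F {D.simple i.1})
    n := nG hh
    coroots := fun i => Set.range (hG hh i)
    n0 := n0
    pgroup := isPGroup_U hh p
    T_prime := ?_
    T_comm := fun s hs t ht => Subtype.ext (hh.diagonal_commute hs ht)
    T_norm := fun t ht u hu => hU_norm t ht u hu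
    T_normX := fun i t ht x hx =>
      (Subgroup.mem_normalizer_iff.1 (hh.diagonal_le_normalizer (S := {D.simple i.1})
        (fun r hr => by rw [Set.mem_singleton_iff.1 hr]; exact h.simple_lt i.2) ht) _).1 hx
    n_conj := ?_
    coroots_mem := ?_
    T_gen := diag_le_closure hh
    quad := fun i d hd y hy => ?_
    factor := ?_
    cells := ?_ }, rfl, rfl⟩
  · rw [Nat.card_congr (Subgroup.subgroupOfEquivOfLe hh.diagonal_le_group).toEquiv]
    exact hh.not_dvd_card_diagonal p
  · intro i t ht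
    obtain ⟨t', ht', e⟩ := hh.nS_conj_diag (F := F) i.2 ht
    rw [Subgroup.mem_subgroupOf]
    show nS h F i.1 * (t : GL D.Idx F) * (nS h F i.1)⁻¹ ∈ _
    rw [show nS h F i.1 * (t : GL D.Idx F) = t' * nS h F i.1 from e, mul_inv_cancel_right]; exact ht'
  · rintro i _ ⟨c, rfl⟩
    exact torusHom_mem hh _
  · obtain ⟨c, rfl⟩ := hd
    exact quad_chev hh p i c hy
  · intro i
    have hp := h.simple_lt i.2
    set X := inG (rootGen D F {D.simple i.1})
    set R := inG (rootGen D F (posSet D \ {D.simple i.1}))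
    set n : ↥(D.group F) := nG hh i
    have hRU : R ≤ inG (D.posUnipotent F) := fun g hg => by
      rw [Subgroup.mem_subgroupOf] at hg ⊢
      rw [h.posUnipotent_eq]
      exact rootGen_mono Set.sdiff_subset hg
    have hnR : ∀ g ∈ R, n * g * n⁻¹ ∈ R := fun g hg => hh.nS_conj_simple_sdiff i.2 hg
    have hXR : ∀ x ∈ X, ∀ g ∈ R, x * g * x⁻¹ ∈ R := fun x hx g hg => by
      refine (Subgroup.mem_normalizer_iff.1 ((hh.simple_sdiff i.2).1 (Subgroup.mem_sup_left ?_)) _).1 hg
      rw [← rootGen_singleton]; exact hx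
    have hnX : ∀ x ∈ X, ((n * x * n⁻¹ : ↥(D.group F)) : GL D.Idx F) ∈ D.negUnipotent F := fun x hx => by
      obtain ⟨t, rfl⟩ := (mem_X_iff hh hp).1 hx
      show nS h F i.1 * xGL h F hp t * (nS h F i.1)⁻¹ ∈ _
      rw [h.nS_conj_x i.2 hp, mul_inv_cancel_right]
      refine h.xGL_mem_neg _ ?_ _
      have := (h.simple_spec i.2).2
      have := h.two_mul_half
      rw [h.simple_refl i.2, ng]
      omega
    have hsplit : (hat (inG (D.posUnipotent F)) : MonoidAlgebra k ↥(D.group F)) = hat X * hat R := by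
      refine hat_eq_mul (X_le_U hh i) hRU ?_ fun g hg => ?_
      · refine (Subgroup.eq_bot_iff_forall _).2 fun g hg => ?_
        obtain ⟨hgX, hgR⟩ := Subgroup.mem_inf.1 hg
        have h1 : ((n * g * n⁻¹ : ↥(D.group F)) : GL D.Idx F) = 1 :=
          Subgroup.mem_bot.1 (hh.borel_inf_negUnipotent.le
            (Subgroup.mem_inf.2 ⟨Subgroup.mem_sup_left (hRU (hnR g hgR)), hnX g hgX⟩))
        have h2 : n * g * n⁻¹ = 1 := Subtype.ext h1
        rwa [conj_eq_one_iff] at h2
      · obtain ⟨a, ha, b, hb, e⟩ := h.exists_split (F := F) {D.simple i.1} (inv_mem hg)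
        have hbX : b ∈ rootGen D F {D.simple i.1} := rootGen_mono Set.inter_subset_right hb
        have hbG : b ∈ D.group F :=
          rootGen_le_group (fun r hr => hr.1.2) hb
        have haG : a ∈ D.group F :=
          rootGen_le_group (fun r hr => hr.1.2) ha
        refine ⟨(⟨b, hbG⟩ : ↥(D.group F))⁻¹, inv_mem hbX, (⟨a, haG⟩ : ↥(D.group F))⁻¹, inv_mem ha, ?_⟩
        refine inv_injective (Subtype.ext ?_)
        rw [mul_inv_rev, inv_inv, inv_inv]
        exact e
    refine ⟨hat R * el (n⁻¹ * n0) * hat (inG (D.posUnipotent F)), ?_, ?_⟩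
    · intro g hg
      obtain ⟨a, ha, b, hb, e⟩ : ∃ a ∈ X, ∃ b ∈ R, g = a * b := by
        obtain ⟨a, ha, b, hb, e⟩ := h.exists_split (F := F) {D.simple i.1} (inv_mem hg)
        refine ⟨(⟨b, rootGen_le_group (fun r hr => hr.1.2) hb⟩ : ↥(D.group F))⁻¹,
          inv_mem (rootGen_mono Set.inter_subset_right hb),
          (⟨a, rootGen_le_group (fun r hr => hr.1.2) ha⟩ : ↥(D.group F))⁻¹, inv_mem ha,
          inv_injective (Subtype.ext ?_)⟩
        rw [mul_inv_rev, inv_inv, inv_inv]
        exact e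
      rw [e, ← el_mul, mul_assoc]
      rw [show (el b : MonoidAlgebra k ↥(D.group F)) * (hat R * el (n⁻¹ * n0) * hat (inG (D.posUnipotent F))) =
        hat R * el (n⁻¹ * n0) * hat (inG (D.posUnipotent F)) from ((lfix_hat R).mul _).mul _ b hb]
      rw [← mul_assoc, ← mul_assoc, el_mul_hat_of_normalizes (hXR a ha), mul_assoc (hat R), el_mul,
        mul_assoc (hat R), mul_assoc (hat R),
        show a * (n⁻¹ * n0) = (n⁻¹ * n0) * ((n⁻¹ * n0)⁻¹ * a * (n⁻¹ * n0)) by group,
        lfix_absorb (lfix_hat _)]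
      rw [show (n⁻¹ * n0)⁻¹ * a * (n⁻¹ * n0) = (n0 * n0)⁻¹ * (n0 * (n * a * n⁻¹) * n0⁻¹) * (n0 * n0) by group]
      have h1 : n0 * (n * a * n⁻¹) * n0⁻¹ ∈ inG (D.posUnipotent F) := by
        have h2 : ((n * a * n⁻¹ : ↥(D.group F)) : GL D.Idx F) ∈ rootGen D F (negSet D) := by
          rw [← h.negUnipotent_eq]; exact hnX a ha
        exact h.conj_rootGen_le hL0 (fun r hr => by
          have := h.two_mul_half; have : r < D.nroots / 2 := hr; omega)
          (fun r hr hrS _ => h.xGL_mem_pos _ (hpos r hrS) _) h2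
      have := hU_norm (n0 * n0)⁻¹ (inv_mem hsq0) _ h1
      rwa [inv_inv] at this
    · rw [hsplit]
      simp only [← mul_assoc]
      rw [mul_assoc (hat X) (el n) (hat R), el_mul_hat_of_normalizes hnR, ← mul_assoc, mul_assoc _ (el n),
        el_mul, mul_inv_cancel_left]
  · intro g
    obtain ⟨L, hL, hgc⟩ := hh.exists_doubleCoset g.2
    obtain ⟨b, hb, c, hc, e⟩ := DoubleCoset.mem_doubleCoset.1 hgc
    obtain ⟨u, hu, t, ht, rfl⟩ := hh.mem_borel_iff.1 hb
    obtain ⟨t', ht', u', hu', rfl⟩ := hh.mem_borel_iff'.1 hc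
    have huG := h.posUnipotent_le_group hu
    have hu'G := h.posUnipotent_le_group hu'
    have hmG : t * nProd h F L * t' ∈ D.group F :=
      mul_mem (mul_mem (hh.diagonal_le_group ht) (hh.monomial_le_group (hh.nProd_mem_monomial hL)))
        (hh.diagonal_le_group ht')
    refine ⟨⟨u, huG⟩, hu, ⟨_, hmG⟩, ⟨u', hu'G⟩, hu', Subtype.ext ?_, ?_⟩
    · show (g : GL D.Idx F) = u * (t * nProd h F L * t') * u'
      rw [e]; group
    by_cases hall : ∀ r, D.nroots / 2 ≤ r → r < D.nroots → perm C L r < D.nroots / 2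
    · refine Or.inr ?_
      have hd : nProd h F L0 * nProd h F L ∈ D.diagonalSubgroup F := by
        rw [← nProd_append]
        refine hh.nProd_mem_diag_of_pos (hL0.append hL) fun r hp hr => ?_
        rw [perm_append]
        exact hpos _ (hall r hp hr)
      obtain ⟨s, hs, es⟩ := hh.nProd_conj_diag (F := F) hL0
        (mul_mem (mul_mem (inv_mem hsq0) hd) ht')
      have hsG : t * s ∈ D.group F := hh.diagonal_le_group (mul_mem ht hs)
      refine ⟨⟨t * s, hsG⟩, mul_mem ht hs, Subtype.ext ?_⟩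
      show t * nProd h F L * t' = t * s * nProd h F L0
      change nProd h F L0 * ((nProd h F L0 * nProd h F L0)⁻¹ * (nProd h F L0 * nProd h F L) * t') =
        s * nProd h F L0 at es
      rw [mul_assoc t s, ← es]
      group
    · push Not at hall
      obtain ⟨r, hr1, hr, hr2⟩ := hall
      refine Or.inl ?_
      set U := inG (D.posUnipotent F)
      set Xr := inG (rootGen D F {r})
      set m : ↥(D.group F) := ⟨_, hmG⟩
      have hXU : Xr ≤ U := fun z hz => by
        rw [Subgroup.mem_subgroupOf] at hz ⊢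
        rw [h.posUnipotent_eq]
        refine rootGen_mono ?_ hz
        rintro s rfl; exact ⟨hr1, hr⟩
      have hconj : ∀ z ∈ Xr, m * z * m⁻¹ ∈ U := by
        intro z hz
        have h1 : t' * (z : GL D.Idx F) * t'⁻¹ ∈ rootGen D F {r} :=
          (Subgroup.mem_normalizer_iff.1 (hh.diagonal_le_normalizer (S := {r})
            (fun a ha => by rw [Set.mem_singleton_iff.1 ha]; exact hr) ht') _).1 hz
        have h2 := h.conj_rootGen_le hL (M := D.posUnipotent F)
          (fun a ha => by rw [Set.mem_singleton_iff.1 ha]; exact hr)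
          (fun a ha haS _ => h.xGL_mem_pos _ (by rw [Set.mem_singleton_iff.1 haS]; exact hr2) _) h1
        have h3 := (Subgroup.mem_normalizer_iff.1 (hh.diagonal_le_normalizer_posUnipotent ht) _).1 h2
        rw [Subgroup.mem_subgroupOf]
        convert h3 using 1
        show t * nProd h F L * t' * (z : GL D.Idx F) * (t * nProd h F L * t')⁻¹ = _
        group
      haveI : Nontrivial Xr := ⟨⟨⟨_, (mem_X_iff hh hr).2 ⟨1, rfl⟩⟩, 1,
        fun e => hroot1 r hr (congrArg Subtype.val e)⟩⟩
      obtain ⟨c, hc⟩ := exists_eq_hat_mul (H := Xr) ((lfix_hat (k := k) U).mono hXU)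
      have hkill : (hat U : MonoidAlgebra k ↥(D.group F)) * el m * hat Xr = 0 := by
        letI := Fintype.ofFinite Xr
        rw [hat_def Xr, Finset.mul_sum]
        rw [Finset.sum_congr rfl fun (z : Xr) _ => show
            (hat U : MonoidAlgebra k ↥(D.group F)) * el m * el (z : ↥(D.group F)) = hat U * el m by
          rw [mul_assoc, el_mul, show m * (z : ↥(D.group F)) = (m * z * m⁻¹) * m by group, ← el_mul,
            ← mul_assoc, hat_mul_el (hconj z.1 z.2)]]
        rw [Finset.sum_const, Finset.card_univ, ← Nat.card_eq_fintype_card, ← Nat.cast_smul_eq_nsmul k,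
          card_pgroup_eq_zero (p := p) ((isPGroup_U hh p).to_le hXU), zero_smul]
      conv_lhs => arg 2; rw [hc]
      rw [← mul_assoc, hkill, zero_mul]

include hh in
/-- The Hecke data of a Chevalley group. -/
theorem exists_splitData (p : ℕ) [Fact p.Prime] [CharP F p] [CharP k p] :
    Nonempty (SplitData.{u, v, 0} p ↥(D.group F) k) :=
  let ⟨S, _⟩ := exists_splitData_eq hh p
  ⟨S⟩

end Cfsg.Agent.Lib.SteinbergBlock
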