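import Cfsg.Agent.Lib.SteinbergBlock.UCentralizer
import Cfsg.Agent.Lib.Chev.RootOrbit

/-! The adjacency property for the types G2, F4, E8. -/

set_option autoImplicit false

namespace Cfsg.Agent.Lib.SteinbergBlock

open Cfsg.Lie
open Cfsg.Agent.Lib.Chev

theorem chkAdj_G2 : chkAdj chevG2 G2.cert = true := by decide +kernel
theorem chkAdj_F4 : chkAdj chevF4 F4.cert = true := by decide +kernel
theorem chkAdj_E8 : chkAdj chevE8 E8.cert = true := by decide +kernel

end Cfsg.Agent.Lib.SteinbergBlock
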