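import Mathlib
import Cfsg.Agent.Lib.SteinbergBlock.ChevData
import Cfsg.Agent.Lib.Chev.Parabolic

/-!
# Sums over double cosets of the unipotent group and the Hecke operators of fundamental reflections
-/

set_option autoImplicit false

namespace Cfsg.Agent.Lib.SteinbergBlock

open Cfsg.Lie MonoidAlgebra
open Cfsg.Agent.Lib.Chev
open scoped Classical

universe u v

section generic

variable {G : Type u} [Group G] [Finite G] {k : Type v} [Field k]

/-- The sum of the elements of a double coset. -/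
noncomputable def dsum (U : Subgroup G) (g : G) : MonoidAlgebra k G :=
  letI := Fintype.ofFinite G
  ∑ x ∈ Finset.univ.filter (fun x => x ∈ DoubleCoset.doubleCoset g (U : Set G) U), el x

theorem dsum_def [Fintype G] (U : Subgroup G) (g : G) :
    (dsum U g : MonoidAlgebra k G) =
      ∑ x ∈ Finset.univ.filter (fun x => x ∈ DoubleCoset.doubleCoset g (U : Set G) U), el x := by
  rw [dsum]
  convert rfl

theorem coeff_dsum_self (U : Subgroup G) (g : G) : (dsum U g : MonoidAlgebra k G).coeff g = 1 := by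
  letI := Fintype.ofFinite G
  rw [dsum_def, coeff_sum, Finsupp.coe_finsetSum, Finset.sum_apply]
  simp [el, coeff_single, Finsupp.single_apply, DoubleCoset.mem_doubleCoset_self]

theorem dsum_ne_zero (U : Subgroup G) (g : G) : (dsum U g : MonoidAlgebra k G) ≠ 0 := fun h => by
  have := coeff_dsum_self (k := k) U g
  rw [h] at this
  simp at this

theorem dsum_eq_of_mem {U : Subgroup G} {g g' : G} (h : g' ∈ DoubleCoset.doubleCoset g (U : Set G) U) :
    (dsum U g' : MonoidAlgebra k G) = dsum U g := by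
  letI := Fintype.ofFinite G
  rw [dsum_def, dsum_def, DoubleCoset.doubleCoset_eq_of_mem h]

theorem lfix_dsum (U : Subgroup G) (g : G) : LFix U (dsum U g : MonoidAlgebra k G) := by
  intro u hu
  letI := Fintype.ofFinite G
  rw [dsum_def, Finset.mul_sum]
  simp only [el_mul]
  refine Finset.sum_bij' (fun x _ => u * x) (fun x _ => u⁻¹ * x) ?_ ?_ (by simp) (by simp) (fun _ _ => rfl)
  · intro x hx
    simp only [Finset.mem_filter, Finset.mem_univ, true_and] at hx ⊢
    obtain ⟨a, ha, b, hb, rfl⟩ := DoubleCoset.mem_doubleCoset.1 hx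
    exact DoubleCoset.mem_doubleCoset.2 ⟨u * a, mul_mem hu ha, b, hb, by group⟩
  · intro x hx
    simp only [Finset.mem_filter, Finset.mem_univ, true_and] at hx ⊢
    obtain ⟨a, ha, b, hb, rfl⟩ := DoubleCoset.mem_doubleCoset.1 hx
    exact DoubleCoset.mem_doubleCoset.2 ⟨u⁻¹ * a, mul_mem (inv_mem hu) ha, b, hb, by group⟩

theorem dsum_eq_el_mul_hat {U : Subgroup G} {t : G} (ht : ∀ u ∈ U, t⁻¹ * u * t ∈ U) :
    (dsum U t : MonoidAlgebra k G) = el t * hat U := by
  letI := Fintype.ofFinite G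
  letI := Fintype.ofFinite U
  rw [dsum_def, hat_def, Finset.mul_sum]
  simp only [el_mul]
  refine (Finset.sum_bij (fun (u : U) _ => t * (u : G)) ?_ ?_ ?_ fun _ _ => rfl).symm
  · intro u _
    simp only [Finset.mem_filter, Finset.mem_univ, true_and]
    exact DoubleCoset.mem_doubleCoset.2 ⟨1, one_mem _, u, u.2, by simp⟩
  · intro a _ b _ e
    exact Subtype.ext (mul_left_cancel e)
  · intro x hx
    simp only [Finset.mem_filter, Finset.mem_univ, true_and] at hx
    obtain ⟨a, ha, b, hb, rfl⟩ := DoubleCoset.mem_doubleCoset.1 hx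
    exact ⟨⟨t⁻¹ * a * t * b, mul_mem (ht a ha) hb⟩, Finset.mem_univ _, by simp [mul_assoc]⟩

end generic

variable {D : ChevalleyDatum} {C : Cert} {F : Type u} [Field F] [Fintype F]

/-- The unipotent group inside the Chevalley group. -/
noncomputable abbrev uG (D : ChevalleyDatum) (F : Type u) [Field F] : Subgroup ↥(D.group F) :=
  inG (D.posUnipotent F)

/-- The diagonal group inside the Chevalley group. -/
noncomputable abbrev tG (D : ChevalleyDatum) (F : Type u) [Field F] : Subgroup ↥(D.group F) :=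
  inG (D.diagonalSubgroup F)

/-- A representative `t n_L` of a Bruhat cell. -/
def IsMonoRep (h : Checked D C) (w : Equiv.Perm (Fin D.nroots)) (m : ↥(D.group F)) : Prop :=
  ∃ t ∈ D.diagonalSubgroup F, ∃ L, IsWord D L ∧ wperm h L = w ∧ (m : GL D.Idx F) = t * nProd h F L

variable (hh : Rooted D C)

/-- The Hecke operator of a fundamental reflection. -/
noncomputable def qOp (k : Type v) [Field k] (i : {i // i < D.rank}) : MonoidAlgebra k ↥(D.group F) :=
  hat (inG (rootGen D F {D.simple i.1})) * el (nG hh i)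

include hh

theorem tG_conj_uG {t u : ↥(D.group F)} (ht : t ∈ tG D F) (hu : u ∈ uG D F) : t * u * t⁻¹ ∈ uG D F :=
  (Subgroup.mem_normalizer_iff.1 (hh.diagonal_le_normalizer_posUnipotent ht) _).1 hu

theorem nG_sq (i : {i // i < D.rank}) : (nG hh i * nG hh i : ↥(D.group F)) ∈ tG D F := hh.nS_sq i.2

theorem nG_conj_tG (i : {i // i < D.rank}) {t : ↥(D.group F)} (ht : t ∈ tG D F) :
    nG hh i * t * (nG hh i)⁻¹ ∈ tG D F := by
  obtain ⟨t', ht', e⟩ := hh.nS_conj_diag (F := F) i.2 ht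
  rw [Subgroup.mem_subgroupOf]
  show nS hh.toChecked F i.1 * (t : GL D.Idx F) * (nS hh.toChecked F i.1)⁻¹ ∈ _
  rw [show nS hh.toChecked F i.1 * (t : GL D.Idx F) = t' * nS hh.toChecked F i.1 from e, mul_inv_cancel_right]
  exact ht'

theorem tG_comm {s t : ↥(D.group F)} (hs : s ∈ tG D F) (ht : t ∈ tG D F) : s * t = t * s :=
  Subtype.ext (hh.diagonal_commute hs ht)

theorem el_mul_qOp {k : Type v} [Field k] (i : {i // i < D.rank}) {t : ↥(D.group F)} (ht : t ∈ tG D F) :
    (el t : MonoidAlgebra k ↥(D.group F)) * qOp hh k i =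
      qOp hh k i * el (nG hh i * t * (nG hh i)⁻¹) := by
  have hconj : nG hh i * (nG hh i * t * (nG hh i)⁻¹) = t * nG hh i := by
    have h2 := tG_comm hh (nG_sq hh i) ht
    calc nG hh i * (nG hh i * t * (nG hh i)⁻¹) = nG hh i * nG hh i * t * (nG hh i)⁻¹ := by group
      _ = _ := by rw [h2]; group
  have hX : ∀ x ∈ inG (rootGen D F {D.simple i.1}), t * x * t⁻¹ ∈ inG (rootGen D F {D.simple i.1}) :=
    fun x hx => (Subgroup.mem_normalizer_iff.1 (hh.diagonal_le_normalizer (S := {D.simple i.1})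
      (fun r hr => by rw [Set.mem_singleton_iff.1 hr]; exact hh.toChecked.simple_lt i.2) ht) _).1 hx
  rw [qOp, ← mul_assoc, el_mul_hat_of_normalizes hX, mul_assoc, mul_assoc, el_mul, el_mul, hconj]

theorem exists_monoRep {w : Equiv.Perm (Fin D.nroots)} {g : ↥(D.group F)}
    (hg : (g : GL D.Idx F) ∈ bcell hh.toChecked F w) :
    ∃ m, IsMonoRep hh.toChecked w m ∧ g ∈ DoubleCoset.doubleCoset m (uG D F : Set ↥(D.group F)) (uG D F) := by
  have h := hh.toChecked
  obtain ⟨L, hL, rfl⟩ := h.exists_word_of_weyl (bcell_mem_weyl hg)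
  obtain ⟨b, hb, c, hc, e⟩ := hh.exists_of_mem_bcell hL hg
  obtain ⟨u, hu, t, ht, rfl⟩ := hh.mem_borel_iff.1 hb
  obtain ⟨t', ht', u', hu', rfl⟩ := hh.mem_borel_iff'.1 hc
  obtain ⟨s, hs, es⟩ := hh.nProd_conj_diag (F := F) hL ht'
  refine ⟨⟨t * s * nProd h F L, mul_mem (hh.diagonal_le_group (mul_mem ht hs))
      (hh.monomial_le_group (hh.nProd_mem_monomial hL))⟩, ⟨t * s, mul_mem ht hs, L, hL, rfl, rfl⟩,
    DoubleCoset.mem_doubleCoset.2 ⟨⟨u, h.posUnipotent_le_group hu⟩, hu,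
      ⟨u', h.posUnipotent_le_group hu'⟩, hu', Subtype.ext ?_⟩⟩
  show (g : GL D.Idx F) = u * (t * s * nProd h F L) * u'
  rw [e, mul_assoc t s, ← es]
  group

theorem monoRep_bcell {w : Equiv.Perm (Fin D.nroots)} {m : ↥(D.group F)}
    (hm : IsMonoRep hh.toChecked w m) : (m : GL D.Idx F) ∈ bcell hh.toChecked F w := by
  obtain ⟨t, ht, L, hL, rfl, e⟩ := hm
  rw [e]
  exact bcell_mul_left (Subgroup.mem_sup_right ht) (hh.nProd_mem_bcell hL)

omit [Fintype F] in
theorem doubleCoset_bcell {w : Equiv.Perm (Fin D.nroots)} {g g' : ↥(D.group F)}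
    (hg : (g : GL D.Idx F) ∈ bcell hh.toChecked F w)
    (hg' : g' ∈ DoubleCoset.doubleCoset g (uG D F : Set ↥(D.group F)) (uG D F)) :
    (g' : GL D.Idx F) ∈ bcell hh.toChecked F w := by
  obtain ⟨a, ha, b, hb, rfl⟩ := DoubleCoset.mem_doubleCoset.1 hg'
  exact bcell_mul_mem (Subgroup.mem_sup_left ha) hg (Subgroup.mem_sup_left hb)

theorem monoRep_tG_mul {w : Equiv.Perm (Fin D.nroots)} {m s : ↥(D.group F)} (hs : s ∈ tG D F)
    (hm : IsMonoRep hh.toChecked w m) : IsMonoRep hh.toChecked w (s * m) := by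
  obtain ⟨t, ht, L, hL, e1, e⟩ := hm
  exact ⟨(s : GL D.Idx F) * t, mul_mem hs ht, L, hL, e1, by rw [Subgroup.coe_mul, e, mul_assoc]⟩

theorem monoRep_nG_mul (i : {i // i < D.rank}) {w : Equiv.Perm (Fin D.nroots)} {m : ↥(D.group F)}
    (hm : IsMonoRep hh.toChecked w m) :
    IsMonoRep hh.toChecked (sigma hh.toChecked i.1 * w) (nG hh i * m) := by
  obtain ⟨t, ht, L, hL, rfl, e⟩ := hm
  obtain ⟨t', ht', e'⟩ := hh.nS_conj_diag (F := F) i.2 ht
  refine ⟨t', ht', i.1 :: L, ?_, wperm_cons _ _ L, ?_⟩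
  · intro a ha
    rcases List.mem_cons.1 ha with rfl | ha
    · exact i.2
    · exact hL a ha
  · rw [Subgroup.coe_mul, e, nProd_cons, ← mul_assoc, ← mul_assoc]
    exact congrArg (· * nProd hh.toChecked F L) e'

theorem monoRep_conj_X (i : {i // i < D.rank}) {w : Equiv.Perm (Fin D.nroots)} {m : ↥(D.group F)}
    (hm : IsMonoRep hh.toChecked w m) (ha : Asc w⁻¹ i.1) {x : ↥(D.group F)}
    (hx : x ∈ inG (rootGen D F {D.simple i.1})) : m⁻¹ * x * m ∈ uG D F := by
  have h := hh.toChecked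
  obtain ⟨t, ht, L, hL, rfl, e⟩ := hm
  rw [h.asc_iff i.2, ← h.wperm_reverse hL, h.wperm_val hL.reverse] at ha
  have hX : ∀ r ∈ ({D.simple i.1} : Set ℕ), r < D.nroots := fun r hr => by
    rw [Set.mem_singleton_iff.1 hr]; exact h.simple_lt i.2
  have h1 : t⁻¹ * (x : GL D.Idx F) * t ∈ rootGen D F {D.simple i.1} := by
    have := (Subgroup.mem_normalizer_iff.1 (hh.diagonal_le_normalizer (S := {D.simple i.1}) hX
      (inv_mem ht)) _).1 hx
    rwa [inv_inv] at this
  have h2 : nProd h F L.reverse * (t⁻¹ * (x : GL D.Idx F) * t) * (nProd h F L.reverse)⁻¹ ∈ D.posUnipotent F :=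
    h.conj_rootGen_le hL.reverse hX (fun r hr hrS _ => h.xGL_mem_pos _ (by
      rw [Set.mem_singleton_iff.1 hrS]; exact ha) _) h1
  have hd : nProd h F L.reverse * nProd h F L ∈ D.diagonalSubgroup F := by
    rw [← nProd_append]
    refine hh.nProd_mem_diag_of_pos (hL.reverse.append hL) fun r hp hr => ?_
    rw [perm_append, h.perm_reverse hL hr]
    exact hp
  have h3 := (Subgroup.mem_normalizer_iff.1 (hh.diagonal_le_normalizer_posUnipotent (inv_mem hd)) _).1 h2
  rw [Subgroup.mem_subgroupOf]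
  convert h3 using 1
  show ((m : GL D.Idx F))⁻¹ * (x : GL D.Idx F) * (m : GL D.Idx F) = _
  rw [e]
  group

theorem bcell_sigma_mul (i : {i // i < D.rank}) {w : Equiv.Perm (Fin D.nroots)} {g y : GL D.Idx F}
    (hg : g ∈ bcell hh.toChecked F (sigma hh.toChecked i.1)) (hy : y ∈ bcell hh.toChecked F w)
    (ha : Asc w⁻¹ i.1) : g * y ∈ bcell hh.toChecked F (sigma hh.toChecked i.1 * w) := by
  have h := hh.toChecked
  have h1 := hh.bcell_mul_of_asc (J := {i.1}) (by simpa using i.2) (hh.bcell_inv hy)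
    (fun j hj => by rw [Finset.mem_singleton] at hj; subst hj; exact ha)
    (h.sigma_mem_weyl (Finset.mem_singleton_self _)) (h.sigma_inv i.1 ▸ hh.bcell_inv hg)
  have h2 := hh.bcell_inv h1
  rw [← mul_inv_rev g y, inv_inv, mul_inv_rev, inv_inv, h.sigma_inv] at h2
  exact h2

omit [Fintype F] in
theorem sigma_mul_ne (i : {i // i < D.rank}) (w : Equiv.Perm (Fin D.nroots)) :
    sigma hh.toChecked i.1 * w ≠ w := by
  have h := hh.toChecked
  intro e
  have h1 : sigma h i.1 = 1 := mul_eq_right.1 e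
  have h2 := h.sigma_sroot i.2
  rw [h1, Equiv.Perm.one_apply] at h2
  exact h.ng_ne (h.simple_lt i.2) (congrArg Fin.val h2).symm

theorem asc_inv_sigma_mul (i : {i // i < D.rank}) {w : Equiv.Perm (Fin D.nroots)}
    (hw : w ∈ weyl hh.toChecked (Finset.range D.rank)) :
    Asc (sigma hh.toChecked i.1 * w)⁻¹ i.1 ↔ ¬ Asc w⁻¹ i.1 := by
  rw [mul_inv_rev, hh.toChecked.sigma_inv, hh.toChecked.asc_mul_sigma_iff (inv_mem hw) i.2]

/-- An ascent step: the Hecke operator carries a double coset to the next one. -/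
theorem qOp_mul_dsum {k : Type v} [Field k] (i : {i // i < D.rank}) {w : Equiv.Perm (Fin D.nroots)}
    {m : ↥(D.group F)} (hm : IsMonoRep hh.toChecked w m) (ha : Asc w⁻¹ i.1) :
    qOp hh k i * dsum (uG D F) m = dsum (uG D F) (nG hh i * m) := by
  have h := hh.toChecked
  have hp := h.simple_lt i.2
  letI : Fintype ↥(D.group F) := Fintype.ofFinite _
  set U := uG D F
  set X := inG (rootGen D F {D.simple i.1})
  set R := inG (rootGen D F (posSet D \ {D.simple i.1}))
  set n : ↥(D.group F) := nG hh i with hn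
  letI := Fintype.ofFinite X
  have hRU : R ≤ U := fun g hg => by
    rw [Subgroup.mem_subgroupOf] at hg ⊢
    rw [h.posUnipotent_eq]
    exact rootGen_mono Set.sdiff_subset hg
  have hnR : ∀ g ∈ R, n * g * n⁻¹ ∈ R := fun g hg => hh.nS_conj_simple_sdiff i.2 hg
  have hnR' : ∀ g ∈ R, n⁻¹ * g * n ∈ U := fun g hg => by
    have := tG_conj_uG hh (inv_mem (nG_sq hh i)) (hRU (hnR g hg))
    rw [inv_inv, ← hn] at this
    convert this using 1
    group
  have hXU : X ≤ U := X_le_U hh i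
  have hsplit : ∀ u ∈ U, ∃ r ∈ R, ∃ a ∈ X, u = r * a := fun u hu => by
    obtain ⟨a, ha, b, hb, e⟩ := h.exists_split (F := F) {D.simple i.1} hu
    exact ⟨⟨a, rootGen_le_group (fun r hr => hr.1.2) ha⟩, ha,
      ⟨b, rootGen_le_group (fun r hr => hr.1.2) hb⟩, rootGen_mono Set.inter_subset_right hb, Subtype.ext e⟩
  rw [qOp, hat_def, dsum_def, dsum_def, Finset.sum_mul, Finset.sum_mul]
  simp only [Finset.mul_sum, el_mul]
  rw [← Finset.sum_product']
  refine Finset.sum_bij (fun z _ => (z.1 : ↥(D.group F)) * n * z.2) ?_ ?_ ?_ fun _ _ => rfl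
  · rintro ⟨x, y⟩ hz
    simp only [Finset.mem_product, Finset.mem_filter, Finset.mem_univ, true_and] at hz ⊢
    obtain ⟨u₁, hu₁, u₂, hu₂, rfl⟩ := DoubleCoset.mem_doubleCoset.1 hz
    obtain ⟨r, hr, a, hax, rfl⟩ := hsplit u₁ hu₁
    refine DoubleCoset.mem_doubleCoset.2 ⟨(x : ↥(D.group F)) * (n * r * n⁻¹),
      mul_mem (hXU x.2) (hRU (hnR r hr)), m⁻¹ * a * m * u₂,
      mul_mem (monoRep_conj_X hh i hm ha hax) hu₂, by group⟩
  · rintro ⟨x, y⟩ hz ⟨x', y'⟩ hz' e
    simp only [Finset.mem_product, Finset.mem_filter, Finset.mem_univ, true_and] at hz hz' e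
    suffices hxx : x = x' by
      subst hxx
      exact Prod.ext rfl (mul_left_cancel e)
    by_contra hne
    obtain ⟨t, et⟩ := (mem_X_iff hh hp).1 (mul_mem (inv_mem x'.2) x.2)
    have ht0 : t ≠ 0 := fun h0 => hne (Subtype.ext (by
      have : (x' : ↥(D.group F))⁻¹ * x = 1 := by
        rw [et, h0]; exact Subtype.ext (Units.ext (h.x_zero hp))
      exact (inv_mul_eq_one.1 this).symm))
    obtain ⟨c, -, hc⟩ := rank_one hh i (Units.mk0 t ht0)
    rw [Units.val_mk0, ← et] at hc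
    have hy' : y' = (n * n)⁻¹ * (n * ((x' : ↥(D.group F))⁻¹ * x) * n) * y := by
      calc y' = n⁻¹ * (x' : ↥(D.group F))⁻¹ * ((x' : ↥(D.group F)) * n * y') := by group
        _ = _ := by rw [← e]; group
    have hmem : ((((n * n)⁻¹ * (n * ((x' : ↥(D.group F))⁻¹ * x) * n)) : ↥(D.group F)) : GL D.Idx F) ∈
        bcell h F (sigma h i.1) := by
      have hB : ∀ g ∈ tG D F, (g : GL D.Idx F) ∈ D.borelSubgroup F := fun g hg => Subgroup.mem_sup_right hg
      have hx : ∀ s : F, ((xG hh hp s : ↥(D.group F)) : GL D.Idx F) ∈ D.borelSubgroup F := fun s =>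
        Subgroup.mem_sup_left (hXU ((mem_X_iff hh hp).2 ⟨s, rfl⟩))
      have hnb : nS h F i.1 ∈ bcell h F (sigma h i.1) := by
        have := hh.nProd_mem_bcell (F := F) (L := [i.1]) (by simp [IsWord, i.2])
        rwa [nProd_singleton, show wperm h [i.1] = sigma h i.1 by simp [wperm]] at this
      rw [hn, hc]
      set a : F := -(c : F)
      rw [show (nG hh i * nG hh i)⁻¹ * (xG hh hp a * hG hh i c * nG hh i * xG hh hp a * (nG hh i * nG hh i)) =
        ((nG hh i * nG hh i)⁻¹ * (xG hh hp a * hG hh i c)) * nG hh i * (xG hh hp a * (nG hh i * nG hh i)) by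
        group]
      simp only [Subgroup.coe_mul, Subgroup.coe_inv]
      exact bcell_mul_mem (mul_mem (inv_mem (hB _ (nG_sq hh i))) (mul_mem (hx a) (hB _ (torusHom_mem hh _))))
        hnb (mul_mem (hx a) (hB _ (nG_sq hh i)))
    have hyc := doubleCoset_bcell hh (monoRep_bcell hh hm) hz
    have h1 := bcell_sigma_mul hh i hmem hyc ha
    rw [← Subgroup.coe_mul, ← hy'] at h1
    exact sigma_mul_ne hh i w (hh.bcell_unique h1 (doubleCoset_bcell hh (monoRep_bcell hh hm) hz'))
  · intro z hz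
    simp only [Finset.mem_filter, Finset.mem_univ, true_and] at hz
    obtain ⟨u₁, hu₁, u₂, hu₂, rfl⟩ := DoubleCoset.mem_doubleCoset.1 hz
    obtain ⟨r, hr, a, hax, e⟩ := hsplit u₁⁻¹ (inv_mem hu₁)
    have e' : u₁ = a⁻¹ * r⁻¹ := by rw [← mul_inv_rev, ← e, inv_inv]
    refine ⟨(⟨a⁻¹, inv_mem hax⟩, n⁻¹ * r⁻¹ * n * m * u₂), ?_, by rw [e']; group⟩
    simp only [Finset.mem_product, Finset.mem_filter, Finset.mem_univ, true_and]
    exact DoubleCoset.mem_doubleCoset.2 ⟨n⁻¹ * r⁻¹ * n, hnR' r⁻¹ (inv_mem hr), u₂, hu₂, rfl⟩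

/-- An ascent step from an arbitrary element of a cell. -/
theorem exists_qOp_mul_dsum {k : Type v} [Field k] (i : {i // i < D.rank}) {w : Equiv.Perm (Fin D.nroots)}
    {g : ↥(D.group F)} (hg : (g : GL D.Idx F) ∈ bcell hh.toChecked F w) (ha : Asc w⁻¹ i.1) :
    ∃ g' : ↥(D.group F), (g' : GL D.Idx F) ∈ bcell hh.toChecked F (sigma hh.toChecked i.1 * w) ∧
      qOp hh k i * dsum (uG D F) g = dsum (uG D F) g' := by
  obtain ⟨m, hm, hgm⟩ := exists_monoRep hh hg
  exact ⟨nG hh i * m, monoRep_bcell hh (monoRep_nG_mul hh i hm),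
    by rw [dsum_eq_of_mem hgm]; exact qOp_mul_dsum hh i hm ha⟩

/-- A descent factors the double coset sum. -/
theorem exists_dsum_eq_qOp_mul {k : Type v} [Field k] (i : {i // i < D.rank}) {w : Equiv.Perm (Fin D.nroots)}
    {g : ↥(D.group F)} (hg : (g : GL D.Idx F) ∈ bcell hh.toChecked F w) (hd : ¬ Asc w⁻¹ i.1) :
    ∃ g' : ↥(D.group F), (g' : GL D.Idx F) ∈ bcell hh.toChecked F (sigma hh.toChecked i.1 * w) ∧
      (dsum (uG D F) g : MonoidAlgebra k ↥(D.group F)) = qOp hh k i * dsum (uG D F) g' := by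
  obtain ⟨m, hm, hgm⟩ := exists_monoRep hh hg
  have hm' : IsMonoRep hh.toChecked (sigma hh.toChecked i.1 * w) ((nG hh i)⁻¹ * m) := by
    have := monoRep_tG_mul hh (inv_mem (nG_sq hh i)) (monoRep_nG_mul hh i hm)
    rwa [show (nG hh i * nG hh i)⁻¹ * (nG hh i * m) = (nG hh i)⁻¹ * m by group] at this
  refine ⟨(nG hh i)⁻¹ * m, monoRep_bcell hh hm', ?_⟩
  rw [qOp_mul_dsum hh i hm' ((asc_inv_sigma_mul hh i (bcell_mem_weyl hg)).2 hd), mul_inv_cancel_left,
    dsum_eq_of_mem hgm]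

/-- Induction over the Bruhat cells along descents. -/
theorem dsum_induction {k : Type v} [Field k]
    (P : Equiv.Perm (Fin D.nroots) → MonoidAlgebra k ↥(D.group F) → Prop)
    (base : ∀ t ∈ tG D F, P 1 (el t * hat (uG D F)))
    (step : ∀ (i : {i // i < D.rank}) w d, LFix (uG D F) d → P w d →
      P (sigma hh.toChecked i.1 * w) (qOp hh k i * d))
    {g : ↥(D.group F)} {w : Equiv.Perm (Fin D.nroots)} (hg : (g : GL D.Idx F) ∈ bcell hh.toChecked F w) :
    P w (dsum (uG D F) g) := by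
  have h := hh.toChecked
  induction hn : (invs w).card using Nat.strong_induction_on generalizing g w with
  | _ N ih =>
    have hw := bcell_mem_weyl hg
    by_cases hall : ∀ i < D.rank, Asc w⁻¹ i
    · obtain rfl : w = 1 := inv_eq_one.1 (hh.eq_one_of_all_asc (inv_mem hw) hall)
      obtain ⟨u, hu, t, ht, e⟩ := hh.mem_borel_iff.1 (hh.mem_bcell_one.1 hg)
      let t' : ↥(D.group F) := ⟨t, hh.diagonal_le_group ht⟩
      have hmem : g ∈ DoubleCoset.doubleCoset t' (uG D F : Set ↥(D.group F)) (uG D F) :=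
        DoubleCoset.mem_doubleCoset.2 ⟨⟨u, h.posUnipotent_le_group hu⟩, hu, 1, one_mem _,
          Subtype.ext (by simp [t', e])⟩
      rw [dsum_eq_of_mem hmem, dsum_eq_el_mul_hat fun u hu => by
        have := tG_conj_uG hh (inv_mem (show t' ∈ tG D F from ht)) hu
        rwa [inv_inv] at this]
      exact base t' ht
    · push Not at hall
      obtain ⟨i, hi, hd⟩ := hall
      obtain ⟨g', hg', e⟩ := exists_dsum_eq_qOp_mul hh (k := k) ⟨i, hi⟩ hg hd
      rw [e]
      have h1 := step ⟨i, hi⟩ _ _ (lfix_dsum (uG D F) g')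
        (ih _ (hn ▸ hh.invs_sigma_mul_lt hw hi hd) hg' rfl)
      rwa [← mul_assoc, h.sigma_sigma, one_mul] at h1

end Cfsg.Agent.Lib.SteinbergBlock
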