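import Mathlib
import Cfsg.Agent.Lib.Chev.Parabolic

/-!
# Elements centralising the unipotent radical of a maximal parabolic subgroup

For a datum with the adjacency property `chkAdj`, an element of the Chevalley group commuting with the
root elements of all positive roots involving a given fundamental root is unipotent.
-/

set_option autoImplicit false

namespace Cfsg.Agent.Lib.SteinbergBlock

open Cfsg.Lie
open Cfsg.Agent.Lib.Chev

/-- For fundamental roots `j ≠ k` some root involving `k` is raised by exactly one step by the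
`j`th reflection. -/
def chkAdj (D : ChevalleyDatum) (C : Cert) : Bool :=
  allN D.rank fun k => allN D.rank fun j => Nat.beq j k ||
    (List.range D.nroots).any fun r =>
      decide (0 < coef D C k r) && decide (coef D C j (refl C j r) = coef D C j r + 1)

variable {D : ChevalleyDatum} {C : Cert} {F : Type*} [Field F] (hh : Rooted D C)

include hh

omit hh in
theorem exists_adj (hadj : chkAdj D C = true) {j k : ℕ} (hk : k < D.rank) (hj : j < D.rank) (hne : j ≠ k) :
    ∃ r < D.nroots, 0 < coef D C k r ∧ coef D C j (refl C j r) = coef D C j r + 1 := by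
  simp only [chkAdj, allN_iff, Bool.or_eq_true, natBeq_iff, List.any_eq_true, List.mem_range,
    Bool.and_eq_true, decide_eq_true_eq] at hadj
  exact (hadj k hk j hj).resolve_left hne

theorem x_entry_inl {q s : ℕ} (hq : q < D.nroots) (hs : s < D.nroots) (a : F) (i : Fin D.rank) :
    D.x F s a (Sum.inl i) (Sum.inr ⟨q, hq⟩) = if q = ng D s then (cor D C i s : F) * a else 0 := by
  have h := hh.toChecked
  rw [ChevalleyDatum.x, dif_pos hs]
  have hneg : D.negIdx.getD s 0 = ng D s := h.neg_eq hs
  by_cases h1 : q = s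
  · subst h1
    simp [ChevalleyDatum.xMat, Ne.symm (h.ng_ne hq)]
  · by_cases h2 : q = ng D s
    · rw [if_pos h2]
      subst h2
      simp only [ChevalleyDatum.xMat, Matrix.of_apply, Fin.ext_iff, hneg, if_neg h1, if_true]
      rw [h.coroot_getD i.isLt hs]
    · simp [ChevalleyDatum.xMat, Fin.ext_iff, hneg, h1, h2]

theorem raises_ht_x {r : ℕ} (hr : r ∈ posSet D) (t : F) :
    Raises (wgt D (ht D C)) (ht D C r) (D.x F r t - 1) := by
  have h := hh.toChecked
  intro y x hne
  by_cases hyx : y = x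
  · exfalso
    apply hne
    subst hyx
    rw [Matrix.sub_apply, Matrix.one_apply_eq, h.x_diag hr.2 t y, sub_self]
  rw [Matrix.sub_apply, Matrix.one_apply_ne hyx, sub_zero] at hne
  rcases h.x_entry hr.2 t hne with e | ⟨m, hm, hφ⟩
  · exact absurd e hyx
  have e := hφ _ h.isAdd_ht
  have h0 := h.ht_pos hr.2 hr.1
  have : ht D C r ≤ (m : ℤ) * ht D C r := le_mul_of_one_le_left h0.le (by exact_mod_cast hm)
  omega

theorem raises_ht_posUnipotent {g : GL D.Idx F} (hg : g ∈ D.posUnipotent F) :
    Raises (wgt D (ht D C)) 1 ((g : Matrix D.Idx D.Idx F) - 1) ∧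
      Raises (wgt D (ht D C)) 1 (((g⁻¹ : GL D.Idx F) : Matrix D.Idx D.Idx F) - 1) := by
  have h := hh.toChecked
  rw [h.posUnipotent_eq] at hg
  refine raises_of_mem_closure (by norm_num) ?_ hg
  rintro g ⟨r, t, hr, e⟩
  rw [h.rootGen_inv_mem (S := posSet D) (fun a ha => ha.2) hr e, e]
  have h0 : (1 : ℤ) ≤ ht D C r := h.ht_pos hr.2 hr.1
  exact ⟨(raises_ht_x hh hr t).mono h0, (raises_ht_x hh hr (-t)).mono h0⟩

/-- A Borel conjugate of a root element remembers the root and, up to the torus, the parameter. -/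
theorem eq_of_borel_conj_x {u : GL D.Idx F} (hu : u ∈ D.posUnipotent F) (c : ℕ → Fˣ) {r s : ℕ}
    (hr : r ∈ posSet D) (hs : s < D.nroots) {t a : F} (ht0 : t ≠ 0)
    (e : u * torusHom D F c * xGL hh.toChecked F hr.2 t * (u * torusHom D F c)⁻¹ =
      xGL hh.toChecked F hs a) :
    s = r ∧ a = (torusFun D c r : F) * t := by
  have h := hh.toChecked
  set χ : F := (torusFun D c r : F) * t
  have hχ : χ ≠ 0 := mul_ne_zero (Units.ne_zero _) ht0
  have e1 : u * xGL h F hr.2 χ * u⁻¹ = xGL h F hs a := by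
    rw [← e, ← h.conj_x hr.2 t (c := c)]
    group
  have hval : (u : Matrix D.Idx D.Idx F) * D.x F r χ * ((u⁻¹ : GL D.Idx F) : Matrix D.Idx D.Idx F) =
      D.x F s a := congrArg Units.val e1
  have hdiff : D.x F s a - D.x F r χ = (((u : Matrix D.Idx D.Idx F) - 1) * (D.x F r χ - 1) -
      (D.x F r χ - 1) * ((u : Matrix D.Idx D.Idx F) - 1)) *
        ((u⁻¹ : GL D.Idx F) : Matrix D.Idx D.Idx F) := by
    have hcan : D.x F r χ * (u : Matrix D.Idx D.Idx F) * ((u⁻¹ : GL D.Idx F) : Matrix D.Idx D.Idx F) =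
        D.x F r χ := by
      rw [mul_assoc, ← Units.val_mul, mul_inv_cancel, Units.val_one, mul_one]
    rw [show ((u : Matrix D.Idx D.Idx F) - 1) * (D.x F r χ - 1) -
        (D.x F r χ - 1) * ((u : Matrix D.Idx D.Idx F) - 1) =
        (u : Matrix D.Idx D.Idx F) * D.x F r χ - D.x F r χ * (u : Matrix D.Idx D.Idx F) by noncomm_ring,
      sub_mul, hval, hcan]
  obtain ⟨hu1, hu2⟩ := raises_ht_posUnipotent hh hu
  have hx := raises_ht_x hh hr χ
  have hraise : Raises (wgt D (ht D C)) (ht D C r + 1) (D.x F s a - D.x F r χ) := by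
    rw [hdiff]
    have h1 := ((hu1.mul hx).mono (j := ht D C r + 1) (by omega)).sub
      ((hx.mul hu1).mono (j := ht D C r + 1) (by omega))
    have h2 := h1.mul (Raises.zero_of_one_mul (by norm_num) hu2)
    rwa [add_zero] at h2
  have key : ∀ i : Fin D.rank,
      (cor D C i r : F) * χ = if ng D r = ng D s then (cor D C i s : F) * a else 0 := by
    intro i
    by_contra hne
    have hne' : (D.x F s a - D.x F r χ) (Sum.inl i) (Sum.inr ⟨ng D r, Checked.ng_lt hr.2⟩) ≠ 0 := by
      rw [Matrix.sub_apply, x_entry_inl hh _ hs, x_entry_inl hh _ hr.2, if_pos rfl]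
      exact fun h0 => hne (sub_eq_zero.1 h0).symm
    have := hraise _ _ hne'
    simp only [wgt, h.isAdd_ht.map_ng r hr.2] at this
    omega
  by_cases hsr : ng D r = ng D s
  · have : r = s := by rw [← Checked.ng_ng hr.2, hsr, Checked.ng_ng hs]
    subst this
    exact ⟨rfl, (hh.cor_cancel hr.2 fun i hi => by
      have := key ⟨i, hi⟩
      rwa [if_pos rfl] at this).symm⟩
  · exact absurd (hh.cor_cancel hr.2 (a := χ) (b := 0) fun i hi => by
      have := key ⟨i, hi⟩
      rw [if_neg hsr] at this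
      rw [this, mul_zero]) hχ

theorem simple_mem_outSet {k : ℕ} (hk : k < D.rank) :
    D.simple k ∈ outSet D C ((Finset.range D.rank).erase k) := by
  have h := hh.toChecked
  refine h.mem_outSet_of_coef_pos (h.simple_lt hk) hk (by simp) ?_
  rw [(h.simple_tab hk hk).2.1, if_pos rfl]
  exact one_pos

theorem refl_coef_of_adj {j k r : ℕ} (hj : j < D.rank) (hk : k < D.rank) (hne : j ≠ k) (hr : r < D.nroots)
    (hp : 0 < coef D C k r) (he : coef D C j (refl C j r) = coef D C j r + 1) :
    r ∈ outSet D C ((Finset.range D.rank).erase k) ∧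
      refl C j r ∈ outSet D C ((Finset.range D.rank).erase k) ∧
      ∀ l < D.rank, coef D C l (refl C j r) = coef D C l r + if l = j then 1 else 0 := by
  have h := hh.toChecked
  refine ⟨h.mem_outSet_of_coef_pos hr hk (by simp) hp, h.mem_outSet_of_coef_pos (h.refl_lt hj hr) hk (by simp) ?_,
    fun l hl => ?_⟩
  · rw [h.coef_refl hj hk hr, if_neg (Ne.symm hne), sub_zero]
    exact hp
  · by_cases hlj : l = j
    · subst hlj; rw [if_pos rfl]; exact he
    · rw [h.coef_refl hj hl hr, if_neg hlj, if_neg hlj, sub_zero, add_zero]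

/-- A Weyl element fixing all roots involving the `k`th fundamental root is trivial. -/
theorem weyl_eq_one_of_fix (hadj : chkAdj D C = true) {k : ℕ} (hk : k < D.rank)
    {w : Equiv.Perm (Fin D.nroots)} (hw : w ∈ weyl hh.toChecked (Finset.range D.rank))
    (hfix : ∀ r : Fin D.nroots, r.val ∈ outSet D C ((Finset.range D.rank).erase k) → w r = r) : w = 1 := by
  have h := hh.toChecked
  refine hh.eq_one_of_all_asc hw fun j hj => ?_
  rw [h.asc_iff hj]
  by_cases hjk : j = k
  · subst hjk
    rw [hfix (h.sroot hj) (simple_mem_outSet hh hj)]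
    exact h.sroot_pos hj
  obtain ⟨r, hr, hp, he⟩ := exists_adj hadj hk hj hjk
  obtain ⟨h1, h2, h3⟩ := refl_coef_of_adj hh hj hk hjk hr hp he
  refine (h.posSet_of_coef_pos (l := j) hj (Fin.isLt _) ?_).1
  have e1 : coef D C j r = ∑ l ∈ (Finset.range D.rank).attach,
      coef D C l r * coef D C j (w (h.sroot (Finset.mem_range.1 l.2))).val := by
    have e := h.coef_weyl hw hj ⟨r, hr⟩
    rwa [hfix _ h1] at e
  have e2 : coef D C j (refl C j r) = ∑ l ∈ (Finset.range D.rank).attach,
      coef D C l (refl C j r) * coef D C j (w (h.sroot (Finset.mem_range.1 l.2))).val := by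
    have e := h.coef_weyl hw hj ⟨refl C j r, h.refl_lt hj hr⟩
    rwa [hfix _ h2] at e
  rw [he] at e2
  rw [Finset.sum_congr rfl (fun l _ => by rw [h3 _ (Finset.mem_range.1 l.2), add_mul]),
    Finset.sum_add_distrib, ← e1] at e2
  rw [Finset.sum_eq_single (⟨j, Finset.mem_range.2 hj⟩ : {l // l ∈ Finset.range D.rank})
    (fun l _ hl => by rw [if_neg (fun e => hl (Subtype.ext e)), zero_mul]) (fun hn => absurd (Finset.mem_attach _ _) hn),
    if_pos rfl, one_mul] at e2
  omega

/-- A torus element trivial on all roots involving the `k`th fundamental root is trivial. -/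
theorem torusHom_eq_one_of_fix (hadj : chkAdj D C = true) {k : ℕ} (hk : k < D.rank) (c : ℕ → Fˣ)
    (hfix : ∀ r ∈ outSet D C ((Finset.range D.rank).erase k), torusFun D c r = 1) :
    torusHom D F c = 1 := by
  have h := hh.toChecked
  have hchi : ∀ r < D.nroots, torusFun D c r =
      ∏ l ∈ Finset.range D.rank, torusFun D c (D.simple l) ^ coef D C l r := fun r hr =>
    (h.chiOf_torus c hr).symm
  have hs : ∀ j < D.rank, torusFun D c (D.simple j) = 1 := by
    intro j hj
    by_cases hjk : j = k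
    · subst hjk; exact hfix _ (simple_mem_outSet hh hj)
    obtain ⟨r, hr, hp, he⟩ := exists_adj hadj hk hj hjk
    obtain ⟨h1, h2, h3⟩ := refl_coef_of_adj hh hj hk hjk hr hp he
    have e1 := hfix _ h2
    rw [hchi _ (h.refl_lt hj hr), Finset.prod_congr rfl (fun l hl => by
      rw [h3 l (Finset.mem_range.1 hl), zpow_add]), Finset.prod_mul_distrib, ← hchi r hr, hfix _ h1, one_mul,
      Finset.prod_eq_single j (fun l _ hl => by rw [if_neg hl, zpow_zero])
        (fun hn => absurd (Finset.mem_range.2 hj) hn), if_pos rfl, zpow_one] at e1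
    exact e1
  apply Units.ext
  rw [coe_torusHom, Units.val_one, ← charDiag_one (D := D) (F := F)]
  unfold ChevalleyDatum.charDiag
  congr 1
  funext x
  rcases x with i | s
  · rfl
  · simp only [Sum.elim_inr]
    rw [hchi s.val s.isLt, Finset.prod_eq_one fun l hl => by rw [hs l (Finset.mem_range.1 hl), one_zpow]]

/-- The centralizer of the unipotent radical of a maximal parabolic consists of unipotent elements. -/
theorem mem_posUnipotent_of_commute [Finite F] (hadj : chkAdj D C = true) {k : ℕ} (hk : k < D.rank)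
    {g : GL D.Idx F} (hg : g ∈ D.group F)
    (hc : ∀ x ∈ rootGen D F (outSet D C ((Finset.range D.rank).erase k)), g * x = x * g) :
    g ∈ D.posUnipotent F := by
  have h := hh.toChecked
  set J := (Finset.range D.rank).erase k with hJdef
  have hJ : J ⊆ Finset.range D.rank := Finset.erase_subset _ _
  have hB : D.borelSubgroup F ≤ Subgroup.normalizer (rootGen D F (outSet D C J) : Set (GL D.Idx F)) :=
    le_trans le_sup_left (hh.parabolic_le_normalizer hJ)
  obtain ⟨w, hw⟩ := hh.exists_bcell hg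
  obtain ⟨L, hL, rfl⟩ := h.exists_word_of_weyl (bcell_mem_weyl hw)
  obtain ⟨b1, hb1, b2, hb2, rfl⟩ := hh.exists_of_mem_bcell hL hw
  set b := b1⁻¹ * b2⁻¹ with hbdef
  obtain ⟨u, hu, t, ht, hb⟩ := hh.mem_borel_iff.1
    (show b ∈ D.borelSubgroup F from mul_mem (inv_mem hb1) (inv_mem hb2))
  rw [hh.diagonalSubgroup_eq] at ht
  obtain ⟨c, rfl⟩ := ht
  have hconj : ∀ y ∈ rootGen D F (outSet D C J),
      nProd h F L * y * (nProd h F L)⁻¹ = b * y * b⁻¹ := by
    intro y hy
    have hy' : b2⁻¹ * y * b2 ∈ rootGen D F (outSet D C J) := by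
      have := (Subgroup.mem_normalizer_iff.1 (hB (inv_mem hb2)) y).1 hy
      rwa [inv_inv] at this
    have e1 : b1 * nProd h F L * b2 * (b2⁻¹ * y * b2) * (b1 * nProd h F L * b2)⁻¹ = b2⁻¹ * y * b2 := by
      rw [hc _ hy']; group
    calc nProd h F L * y * (nProd h F L)⁻¹
        = b1⁻¹ * (b1 * nProd h F L * b2 * (b2⁻¹ * y * b2) * (b1 * nProd h F L * b2)⁻¹) * b1 := by group
      _ = _ := by rw [e1, hbdef]; group
  have hroot : ∀ r (hrm : r ∈ outSet D C J),
      perm C L r = r ∧ ((weta C L r : ℤ) : F) = (torusFun D c r : F) := by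
    intro r hrm
    have hr := outSet_lt r hrm
    have e1 := hconj (xGL h F hr 1) (mem_rootGen hrm rfl)
    have e2 : nProd h F L * xGL h F hr 1 =
        xGL h F (h.perm_lt hL hr) ((weta C L r : F) * 1) * nProd h F L :=
      Units.ext (by rw [Units.val_mul, Units.val_mul, coe_xGL, coe_xGL]; exact h.nProd_mul_x hL hr 1)
    rw [e2, mul_inv_cancel_right, mul_one, hb] at e1
    obtain ⟨e3, e4⟩ := eq_of_borel_conj_x hh hu c hrm.1 (h.perm_lt hL hr) one_ne_zero e1.symm
    rw [mul_one] at e4
    exact ⟨e3, e4⟩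
  have hw1 : wperm h L = 1 := weyl_eq_one_of_fix hh hadj hk (h.mem_weyl_of_word hL) fun r hr =>
    Fin.ext (by rw [h.wperm_val hL]; exact (hroot r.val hr).1)
  have hgB : b1 * nProd h F L * b2 ∈ D.borelSubgroup F := hh.mem_bcell_one.1 (hw1 ▸ hw)
  obtain ⟨u', hu', t', ht', e'⟩ := hh.mem_borel_iff.1 hgB
  rw [hh.diagonalSubgroup_eq] at ht'
  obtain ⟨c', rfl⟩ := ht'
  rw [e'] at hc ⊢
  have htriv : torusHom D F c' = 1 := torusHom_eq_one_of_fix hh hadj hk c' fun r hrm => by
    have hr := outSet_lt r hrm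
    have e1 := hc (xGL h F hr 1) (mem_rootGen hrm rfl)
    have e2 : u' * torusHom D F c' * xGL h F hr 1 * (u' * torusHom D F c')⁻¹ = xGL h F hr 1 := by
      rw [e1, mul_inv_cancel_right]
    obtain ⟨-, e4⟩ := eq_of_borel_conj_x hh hu' c' hrm.1 hr one_ne_zero e2
    rw [mul_one] at e4
    exact Units.ext e4.symm
  rwa [htriv, mul_one]

end Cfsg.Agent.Lib.SteinbergBlock
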