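import Mathlib
import Cfsg.Agent.Lib.SteinbergBlock.Main
import Cfsg.Agent.Lib.SteinbergBlock.Split
import Cfsg.Agent.Lib.CharCount.Basic

/-!
# Uniqueness of the character of defect zero
-/

set_option autoImplicit false

namespace Cfsg.Agent.Lib.SteinbergBlock

open Cfsg MonoidAlgebra
open Cfsg.Agent.Lib.Blocks
open scoped Classical

universe u w

variable {G : Type u} [Group G] [Finite G] {p : ℕ} [Fact p.Prime]

/-- A group with split data has at most one irreducible character of defect zero. -/
theorem eq_of_defect_zero {M : Ideal AlgInt} [M.IsPrime] (hM : IsPModular p M)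
    (S : SplitData.{u, 0, w} p G (Residue M)) (χ ψ : IrrCharacter G)
    (hχ : (charDegree (χ : G → ℂ)).factorization p = (Nat.card G).factorization p)
    (hψ : (charDegree (ψ : G → ℂ)).factorization p = (Nat.card G).factorization p) : χ = ψ := by
  haveI := charP_residue hM
  have hsing : ∀ φ : IrrCharacter G,
      (charDegree (φ : G → ℂ)).factorization p = (Nat.card G).factorization p →
      blockOf M (φ : G → ℂ) = {φ} ∧ blockDefect p (blockOf M (φ : G → ℂ)) = 0 := by
    intro φ hφ
    obtain ⟨-, h0, hd⟩ := exists_degree_eq φ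
    have hs := blockOf_eq_singleton_of_defect_zero hM φ (by
      intro hp
      have h2 := Nat.factorization_div hd
      have h3 := (Fact.out : p.Prime).factorization_pos_of_dvd
        (Nat.div_ne_zero_iff.2 ⟨h0, Nat.le_of_dvd Nat.card_pos hd⟩) hp
      rw [h2, Finsupp.tsub_apply, hφ, Nat.sub_self] at h3
      exact lt_irrefl 0 h3)
    refine ⟨hs, ?_⟩
    rw [blockDefect, hs, Set.image_singleton, csInf_singleton, hφ, Nat.sub_self]
  obtain ⟨h1, h1'⟩ := hsing χ hχ
  obtain ⟨h2, h2'⟩ := hsing ψ hψ
  have hB1 : IsPBlock M (blockOf M (χ : G → ℂ)) := isPBlock_blockOf χ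
  have hB2 : IsPBlock M (blockOf M (ψ : G → ℂ)) := isPBlock_blockOf ψ
  by_contra hne
  apply S.mul_ne_zero_of_isDZ (isDZ_toF hM hB1 h1') (isDZ_toF hM hB2 h2')
  have h0 : blockIdem M hB1 * blockIdem M hB2 = 0 := rcenter_ext fun φ => by
    rw [map_mul, omegaR_blockIdem, omegaR_blockIdem, map_zero]
    by_cases ha : φ ∈ blockOf M (χ : G → ℂ)
    · rw [h1, Set.mem_singleton_iff] at ha
      subst ha
      rw [if_neg (show ¬ φ ∈ blockOf M (ψ : G → ℂ) by rw [h2]; exact hne), mul_zero]
    · rw [if_neg ha, zero_mul]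
  have h3 := congrArg (fun t : RCenter M G => toF M G (t : MonoidAlgebra (localRing M) G)) h0
  simpa using h3

end Cfsg.Agent.Lib.SteinbergBlock
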