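import Mathlib
import Cfsg.Agent.Lib.SteinbergBlock.UCentralizer
import Cfsg.Agent.Lib.SteinbergBlock.CentralIdem
import Cfsg.Agent.Lib.SteinbergBlock.CellSums
import Cfsg.Agent.Lib.SteinbergBlock.Unique
import Cfsg.Agent.Lib.Chars.Completeness
import Cfsg.Agent.Lib.Chars.PResidualDegree
import Cfsg.Agent.Lib.Blocks.CoveringDefect

/-!
# The Chevalley groups with trivial centre over a prime field have two blocks

A block other than the Steinberg block does not vanish on the centralizer of the unipotent radical of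
some maximal parabolic: otherwise an eigenvector of the Hecke operators in its part of the coset
module would be a Steinberg vector. Those centralizers are `p`-groups, so the block is one there, and
two orthogonal idempotents cannot both be one on the centralizer of a Sylow subgroup.
-/

set_option autoImplicit false

namespace Cfsg.Agent.Lib.SteinbergBlock

open Cfsg Cfsg.Lie MonoidAlgebra
open Cfsg.Agent.Lib.Chev
open Cfsg.Agent.Lib.Blocks
open scoped Classical

universe u v

/-- The product of the linear polynomials over the prime field. -/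
theorem prod_X_sub_C_zmod (p : ℕ) [Fact p.Prime] : ((Finset.univ : Finset (ZMod p)).toList.map fun a => Polynomial.X - Polynomial.C a).prod =
      Polynomial.X ^ p - Polynomial.X := by
  have hp := (Fact.out : p.Prime)
  have h2 : Polynomial.roots (Polynomial.X ^ p - Polynomial.X : Polynomial (ZMod p)) = (Finset.univ : Finset (ZMod p)).val := by
    have := FiniteField.roots_X_pow_card_sub_X (ZMod p)
    rwa [ZMod.card] at this
  rw [Finset.prod_map_toList]
  have hm : (Polynomial.X ^ p - Polynomial.X : Polynomial (ZMod p)).Monic :=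
    Polynomial.monic_X_pow_sub (by rw [Polynomial.degree_X]; exact_mod_cast hp.one_lt)
  have hd : Multiset.card (Polynomial.roots (Polynomial.X ^ p - Polynomial.X : Polynomial (ZMod p))) = (Polynomial.X ^ p - Polynomial.X : Polynomial (ZMod p)).natDegree := by
    rw [h2, FiniteField.X_pow_card_sub_X_natDegree_eq (ZMod p) hp.one_lt, Finset.card_val, Finset.card_univ, ZMod.card]
  have h := Polynomial.prod_multiset_X_sub_C_of_monic_of_roots_card_eq hm hd
  rw [h2] at h
  exact h

section eigen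

variable {G : Type u} [Group G] {k : Type v} [Field k] {p : ℕ} [Fact p.Prime] [CharP k p]

theorem exists_eigen_of_prod (t : G) (P : MonoidAlgebra k G → Prop)
    (hP : ∀ a : k, ∀ y, P y → P ((el t - a • 1) * y)) :
    ∀ (as : List k) (y : MonoidAlgebra k G), P y → y ≠ 0 →
      (as.map fun a => el t - a • (1 : MonoidAlgebra k G)).prod * y = 0 →
      ∃ a : k, ∃ z, P z ∧ z ≠ 0 ∧ el t * z = a • z := by
  intro as
  induction as with
  | nil => intro y _ h0 he; simp [h0] at he
  | cons a as ih =>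
    intro y hy h0 he
    by_cases h1 : (el t - a • (1 : MonoidAlgebra k G)) * y = 0
    · exact ⟨a, y, hy, h0, sub_eq_zero.1 (by simpa [sub_mul] using h1)⟩
    · refine ih _ (hP a y hy) h1 ?_
      have hc : Commute (el t - a • (1 : MonoidAlgebra k G))
          (as.map fun b => el t - b • (1 : MonoidAlgebra k G)).prod :=
        Commute.list_prod_right _ _ fun x hx => by
          obtain ⟨b, -, rfl⟩ := List.mem_map.1 hx
          show _ * _ = _ * _
          simp only [sub_mul, mul_sub, smul_mul_assoc, mul_smul_comm, one_mul, mul_one, smul_smul, smul_sub,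
            mul_comm a b]
          abel
      rw [List.map_cons, List.prod_cons, hc.eq, mul_assoc] at he
      exact he

theorem prod_el_sub_eq_zero {t : G} (ht : t ^ p = t) :
    (((Finset.univ : Finset (ZMod p)).toList.map fun a => ZMod.castHom dvd_rfl k a).map
      fun a => el t - a • (1 : MonoidAlgebra k G)).prod = 0 := by
  have h1 := prod_X_sub_C_zmod p
  have e : (el t : MonoidAlgebra k G) ^ p = el t := by rw [el, single_pow, one_pow, ht]
  let f : Polynomial (ZMod p) →+* MonoidAlgebra k G :=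
    (Polynomial.aeval (el t : MonoidAlgebra k G)).toRingHom.comp (Polynomial.mapRingHom (ZMod.castHom dvd_rfl k))
  have hX : f Polynomial.X = el t := by simp [f]
  have hC : ∀ a, f (Polynomial.C a) = (ZMod.castHom dvd_rfl k a) • (1 : MonoidAlgebra k G) := fun a => by
    simp [f, Algebra.algebraMap_eq_smul_one]
  have h3 := congrArg f h1
  rw [map_list_prod, List.map_map, map_sub, map_pow, hX, e, sub_self] at h3
  rw [← h3, List.map_map]
  congr 1
  exact List.map_congr_left fun a _ => by simp only [Function.comp_apply, map_sub, hX, hC]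

/-- Commuting elements of exponent dividing `p - 1` have a common eigenvector in an invariant subspace. -/
theorem exists_common_eigen [Finite G] {T : Subgroup G} (hcomm : ∀ s ∈ T, ∀ t ∈ T, s * t = t * s)
    (hpow : ∀ t ∈ T, t ^ p = t) (Y : Submodule k (MonoidAlgebra k G))
    (hinv : ∀ t ∈ T, ∀ y ∈ Y, el t * y ∈ Y) {y : MonoidAlgebra k G} (hy : y ∈ Y) (h0 : y ≠ 0) :
    ∃ z ∈ Y, z ≠ 0 ∧ ∀ t ∈ T, ∃ a : k, el t * z = a • z := by
  cases nonempty_fintype G
  suffices ∀ s : Finset G, (∀ t ∈ s, t ∈ T) → ∃ z ∈ Y, z ≠ 0 ∧ ∀ t ∈ s, ∃ a : k, el t * z = a • z by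
    obtain ⟨z, h1, h2, h3⟩ := this (Finset.univ.filter (· ∈ T)) fun t ht => (Finset.mem_filter.1 ht).2
    exact ⟨z, h1, h2, fun t ht => h3 t (Finset.mem_filter.2 ⟨Finset.mem_univ _, ht⟩)⟩
  intro s
  induction s using Finset.induction_on with
  | empty => intro _; exact ⟨y, hy, h0, by simp⟩
  | insert t s hts ih =>
    intro hs
    obtain ⟨z, h1, h2, h3⟩ := ih fun x hx => hs x (Finset.mem_insert_of_mem hx)
    have htT := hs t (Finset.mem_insert_self t s)
    have hP : ∀ (c : k) (w : MonoidAlgebra k G), (w ∈ Y ∧ ∀ x ∈ s, ∃ a : k, el x * w = a • w) →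
        ((el t - c • 1) * w ∈ Y ∧ ∀ x ∈ s, ∃ a : k, el x * ((el t - c • 1) * w) = a • ((el t - c • 1) * w)) := by
      intro c w hw
      refine ⟨?_, fun x hx => ?_⟩
      · rw [sub_mul, smul_mul_assoc, one_mul]
        exact sub_mem (hinv t htT w hw.1) (Y.smul_mem c hw.1)
      · obtain ⟨a, ha⟩ := hw.2 x hx
        refine ⟨a, ?_⟩
        rw [sub_mul, smul_mul_assoc, one_mul, mul_sub, mul_smul_comm, ← mul_assoc, el_mul,
          hcomm x (hs x (Finset.mem_insert_of_mem hx)) t htT, ← el_mul, mul_assoc, ha, mul_smul_comm,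
          smul_sub, smul_comm a c]
    obtain ⟨a, w, ⟨hwY, hws⟩, hw0, hwe⟩ := exists_eigen_of_prod t
      (fun w => w ∈ Y ∧ ∀ x ∈ s, ∃ a : k, el x * w = a • w) hP _ z
      ⟨h1, h3⟩ h2 (by rw [prod_el_sub_eq_zero (p := p) (hpow t htT), zero_mul])
    refine ⟨w, hwY, hw0, fun x hx => ?_⟩
    rcases Finset.mem_insert.1 hx with rfl | hx
    · exact ⟨a, hwe⟩
    · exact hws x hx

end eigen

variable {D : ChevalleyDatum} {C : Cert} {p : ℕ} [Fact p.Prime] (hh : Rooted D C)
  {k : Type v} [Field k] [CharP k p]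

/-- The unipotent radical of a maximal parabolic inside the group. -/
noncomputable abbrev radG (D : ChevalleyDatum) (C : Cert) (F : Type u) [Field F] (l : ℕ) :
    Subgroup ↥(D.group F) :=
  inG (rootGen D F (outSet D C ((Finset.range D.rank).erase l)))

include hh

theorem radG_le (l : ℕ) : radG D C (ZMod p) l ≤ uG D (ZMod p) := fun g hg => by
  rw [Subgroup.mem_subgroupOf] at hg ⊢
  rw [hh.toChecked.posUnipotent_eq]
  exact rootGen_mono (fun r hr => hr.1) hg

theorem centralizer_radG_le (hadj : chkAdj D C = true) {l : ℕ} (hl : l < D.rank) :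
    Subgroup.centralizer (radG D C (ZMod p) l : Set ↥(D.group (ZMod p))) ≤ uG D (ZMod p) := by
  intro g hg
  refine mem_posUnipotent_of_commute hh hadj hl g.2 fun x hx => ?_
  have hxG := rootGen_le_group (F := ZMod p) outSet_lt hx
  exact (congrArg Subtype.val (Subgroup.mem_centralizer_iff.1 hg ⟨x, hxG⟩ hx)).symm

theorem pow_char_tG {t : ↥(D.group (ZMod p))} (ht : t ∈ tG D (ZMod p)) : t ^ p = t := by
  rw [Subgroup.mem_subgroupOf, hh.diagonalSubgroup_eq] at ht
  obtain ⟨c, hc⟩ := ht
  have h1 : c ^ p = c := funext fun i => Units.ext (by simp [ZMod.pow_card])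
  refine Subtype.ext ?_
  rw [SubmonoidClass.coe_pow, ← hc, ← map_pow, h1]

omit [Fact p.Prime] in
theorem hat_mul_el_mul_hat_eq_dsum {G : Type u} [Group G] [Finite G] {U : Subgroup G} {g : G}
    (h : ∀ u ∈ U, g * u * g⁻¹ ∈ U → u = 1) :
    (hat U : MonoidAlgebra k G) * el g * hat U = dsum U g := by
  letI := Fintype.ofFinite G
  letI := Fintype.ofFinite U
  rw [dsum_def, hat_def, Finset.sum_mul, Finset.sum_mul]
  simp only [Finset.mul_sum, el_mul]
  rw [← Finset.sum_product']
  refine Finset.sum_bij (fun z _ => (z.1 : G) * g * z.2) ?_ ?_ ?_ fun _ _ => rfl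
  · rintro ⟨a, b⟩ _
    simp only [Finset.mem_filter, Finset.mem_univ, true_and]
    exact DoubleCoset.mem_doubleCoset.2 ⟨a, a.2, b, b.2, rfl⟩
  · rintro ⟨a, b⟩ _ ⟨a', b'⟩ _ e
    have e' : (a : G) * g * b = a' * g * b' := e
    have e1 : g * ((b : G) * (b' : G)⁻¹) * g⁻¹ = (a : G)⁻¹ * a' := by
      calc g * ((b : G) * (b' : G)⁻¹) * g⁻¹ = (a : G)⁻¹ * ((a : G) * g * b) * (b' : G)⁻¹ * g⁻¹ := by group
        _ = _ := by rw [e']; group
    have hb := h _ (mul_mem b.2 (inv_mem b'.2)) (by rw [e1]; exact mul_mem (inv_mem a.2) a'.2)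
    have hbb : b = b' := Subtype.ext (mul_inv_eq_one.1 hb)
    subst hbb
    exact Prod.ext (Subtype.ext (mul_right_cancel (mul_right_cancel e'))) rfl
  · intro x hx
    simp only [Finset.mem_filter, Finset.mem_univ, true_and] at hx
    obtain ⟨a, ha, b, hb, rfl⟩ := DoubleCoset.mem_doubleCoset.1 hx
    exact ⟨(⟨a, ha⟩, ⟨b, hb⟩), by simp, rfl⟩

set_option maxHeartbeats 400000 in
/-- A central idempotent orthogonal to a defect zero block does not vanish on all the centralizers of
the radicals of the maximal parabolics. -/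
theorem exists_coeff_ne_zero {e E : MonoidAlgebra k ↥(D.group (ZMod p))} (hcen : ∀ x, x * e = e * x)
    (hidem : e * e = e) (h0 : e ≠ 0) (hE : IsDZ E) (horth : e * E = 0) :
    ∃ l < D.rank, ∃ x ∈ Subgroup.centralizer (radG D C (ZMod p) l : Set ↥(D.group (ZMod p))),
      e.coeff x ≠ 0 := by
  by_contra hcon
  push Not at hcon
  have h := hh.toChecked
  letI : Fintype ↥(D.group (ZMod p)) := Fintype.ofFinite _
  set U := uG D (ZMod p)
  set T := tG D (ZMod p)
  have hU : IsPGroup p U := isPGroup_U hh p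
  -- an eigenvector of the torus
  let Y : Submodule k (MonoidAlgebra k (↥(D.group (ZMod p)))) :=
    { carrier := {y | LFix U y ∧ e * y = y}
      zero_mem' := ⟨fun u _ => mul_zero _, mul_zero _⟩
      add_mem' := fun ha hb => ⟨fun u hu => by rw [mul_add, ha.1 u hu, hb.1 u hu], by rw [mul_add, ha.2, hb.2]⟩
      smul_mem' := fun c y hy => ⟨fun u hu => by rw [mul_smul_comm, hy.1 u hu], by rw [mul_smul_comm, hy.2]⟩ }
  obtain ⟨y0, hy0, hy00, hy0T⟩ := exists_common_eigen (p := p) (T := T) (fun s hs t ht => tG_comm hh hs ht)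
    (fun t ht => pow_char_tG hh ht) Y (fun t ht y hy => ⟨fun u hu => by
      have hu' : t⁻¹ * u * t ∈ U := by
        have := tG_conj_uG hh (inv_mem ht) hu
        rwa [inv_inv] at this
      rw [← mul_assoc, el_mul, show u * t = t * (t⁻¹ * u * t) by group, ← el_mul, mul_assoc, hy.1 _ hu'],
      by rw [← mul_assoc, ← hcen, mul_assoc, hy.2]⟩)
    (y := hat U * e) ⟨(lfix_hat U).mul e, by rw [← mul_assoc, ← hcen, mul_assoc, hidem]⟩
    (hat_mul_ne_zero (p := p) hidem hcen h0 hU)
  obtain ⟨a0, rfl⟩ := exists_eq_hat_mul hy0.1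
  -- a maximal cell
  choose wc hwc using fun g : ↥(D.group (ZMod p)) => hh.exists_bcell g.2
  have h1 : (dsum U (1 : (↥(D.group (ZMod p)))) : MonoidAlgebra k (↥(D.group (ZMod p)))) = hat U := by
    rw [dsum_eq_el_mul_hat (fun u hu => by simpa using hu), el_one, one_mul]
  obtain ⟨g, hg, hmax⟩ := Finset.exists_max_image
    (Finset.univ.filter fun g : ↥(D.group (ZMod p)) => (dsum U g : MonoidAlgebra k (↥(D.group (ZMod p)))) * a0 ≠ 0) (fun g => (invs (wc g)).card)
    ⟨1, Finset.mem_filter.2 ⟨Finset.mem_univ _, by rwa [h1]⟩⟩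
  simp only [Finset.mem_filter, Finset.mem_univ, true_and] at hg hmax
  set z := (dsum U g : MonoidAlgebra k (↥(D.group (ZMod p)))) * a0
  obtain ⟨hfac, hTcomm⟩ : (∃ c, (dsum U g : MonoidAlgebra k (↥(D.group (ZMod p)))) = c * hat U) ∧
      ∀ t ∈ T, ∃ t' ∈ T, (el t : MonoidAlgebra k (↥(D.group (ZMod p)))) * dsum U g = dsum U g * el t' := by
    refine dsum_induction hh (fun _ d => (∃ c, d = c * hat U) ∧ ∀ t ∈ T, ∃ t' ∈ T, el t * d = d * el t')
      (fun s hs => ⟨⟨_, rfl⟩, fun t ht => ⟨t, ht, ?_⟩⟩) (fun i w d _ hd => ⟨?_, fun t ht => ?_⟩) (hwc g)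
    · rw [mul_assoc (el s), ← el_mul_hat_of_normalizes (fun u hu => tG_conj_uG hh ht hu), ← mul_assoc,
        ← mul_assoc, el_mul, el_mul, tG_comm hh ht hs]
    · obtain ⟨c, hc⟩ := hd.1
      exact ⟨qOp hh k i * c, by rw [hc, mul_assoc]⟩
    · obtain ⟨t', ht', et⟩ := hd.2 _ (nG_conj_tG hh i ht)
      exact ⟨t', ht', by rw [← mul_assoc, el_mul_qOp hh i ht, mul_assoc, et, mul_assoc]⟩
  have hzL : LFix U z := (lfix_dsum U g).mul a0
  have hez : e * z = z := by
    obtain ⟨c, hc⟩ := hfac
    show e * (dsum U g * a0) = dsum U g * a0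
    rw [hc, mul_assoc, ← mul_assoc, ← hcen, mul_assoc, hy0.2]
  have hzT : ∀ t ∈ T, ∃ a : k, el t * z = a • z := by
    intro t ht
    obtain ⟨t', ht', et⟩ := hTcomm t ht
    obtain ⟨c, hc⟩ := hfac
    obtain ⟨a, ha⟩ := hy0T t' ht'
    refine ⟨a, ?_⟩
    show el t * (dsum U g * a0) = a • (dsum U g * a0)
    rw [← mul_assoc, et, hc, mul_assoc c, mul_assoc c, mul_assoc c,
      ← el_mul_hat_of_normalizes (fun u hu => tG_conj_uG hh ht' hu), mul_assoc, ha, mul_smul_comm]
  -- eigenvalues of the Hecke operators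
  have hq : ∀ i : {i // i < D.rank}, ∃ a : k, qOp hh k i * z = a • z := by
    intro i
    by_cases ha : Asc (wc g)⁻¹ i.1
    · obtain ⟨g', hg', eg⟩ := exists_qOp_mul_dsum hh (k := k) i (hwc g) ha
      refine ⟨0, ?_⟩
      show qOp hh k i * (dsum U g * a0) = (0 : k) • (dsum U g * a0)
      rw [zero_smul, ← mul_assoc, eg]
      by_contra hne
      have hle := hmax g' hne
      rw [hh.bcell_unique (hwc g') hg'] at hle
      have hlt := hh.invs_sigma_mul_lt (bcell_mem_weyl hg') i.2 fun hasc =>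
        (asc_inv_sigma_mul hh i (bcell_mem_weyl (hwc g))).1 hasc ha
      rw [← mul_assoc, h.sigma_sigma, one_mul] at hlt
      omega
    · obtain ⟨g', -, eg⟩ := exists_dsum_eq_qOp_mul hh (k := k) i (hwc g) ha
      have ez : z = qOp hh k i * (dsum U g' * a0) := by
        show dsum U g * a0 = _
        rw [eg, mul_assoc]
      have hsq := sq_chev hh p i ((lfix_dsum U g' (k := k)).mul a0)
      rw [show hat (inG (rootGen D (ZMod p) {D.simple i.1})) * el (nG hh i) = qOp hh k i from rfl] at hsq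
      rw [← ez] at hsq
      obtain ⟨a1, ha1⟩ := hzT _ (nG_sq hh i)
      choose A hA using fun c : (ZMod p)ˣ => hzT (hG hh i c) (torusHom_mem hh _)
      rw [ha1, mul_smul_comm, Finset.sum_mul, Finset.sum_congr rfl fun c _ => hA c, ← Finset.sum_smul,
        smul_smul] at hsq
      exact ⟨_, hsq⟩
  choose lam hlam using hq
  obtain ⟨b, hb⟩ := exists_eq_hat_mul hzL
  have hz0 : z ≠ 0 := hg
  have hTunit : ∀ t ∈ T, ∀ a : k, el t * z = a • z → a ≠ 0 := fun t _ a ha ha0 => hz0 (by
    have h2 := congrArg (fun y => (el t⁻¹ : MonoidAlgebra k (↥(D.group (ZMod p)))) * y) ha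
    simpa [← mul_assoc, el_mul, ha0, el_one, el] using h2)
  set S : Finset ℕ := (Finset.range D.rank).filter fun i => ∃ hi : i < D.rank, lam ⟨i, hi⟩ ≠ 0
  have hSJ : S ⊆ Finset.range D.rank := Finset.filter_subset _ _
  have hcell : ∀ (x : (↥(D.group (ZMod p)))) w, (x : GL D.Idx (ZMod p)) ∈ bcell h (ZMod p) w →
      ∃ c : k, dsum U x * b = c • z ∧ (c ≠ 0 → w ∈ weyl h S) ∧ (S = Finset.range D.rank → c ≠ 0) := by
    intro x w hx
    refine dsum_induction hh
      (fun w d => ∃ c : k, d * b = c • z ∧ (c ≠ 0 → w ∈ weyl h S) ∧ (S = Finset.range D.rank → c ≠ 0))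
      (fun t ht => ?_) (fun i w d _ hd => ?_) hx
    · obtain ⟨a, ha⟩ := hzT t ht
      exact ⟨a, by rw [mul_assoc, ← hb, ha], fun _ => one_mem _, fun _ => hTunit t ht a ha⟩
    · obtain ⟨c, hc, h2, h3⟩ := hd
      refine ⟨c * lam i, by rw [mul_assoc, hc, mul_smul_comm, hlam, smul_smul], fun hne => ?_, fun hS => ?_⟩
      · obtain ⟨hc0, hl0⟩ := ne_zero_and_ne_zero_of_mul hne
        exact mul_mem (h.sigma_mem_weyl (Finset.mem_filter.2 ⟨Finset.mem_range.2 i.2, i.2, hl0⟩)) (h2 hc0)
      · refine mul_ne_zero (h3 hS) ?_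
        have : i.1 ∈ S := hS ▸ Finset.mem_range.2 i.2
        obtain ⟨_, hi, hl0⟩ := Finset.mem_filter.1 this
        exact hl0
  -- all eigenvalues are nonzero
  have hS : S = Finset.range D.rank := by
    by_contra hne
    obtain ⟨l, hl, hlS⟩ : ∃ l ∈ Finset.range D.rank, l ∉ S := by
      by_contra hall
      push Not at hall
      exact hne (Finset.Subset.antisymm hSJ hall)
    have hlr := Finset.mem_range.1 hl
    have hSl : S ⊆ (Finset.range D.rank).erase l := fun a ha =>
      Finset.mem_erase.2 ⟨fun e => hlS (e ▸ ha), hSJ ha⟩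
    set y := (hat U : MonoidAlgebra k (↥(D.group (ZMod p)))) * e
    have hbi : ∀ (u u' x : (↥(D.group (ZMod p)))), u ∈ U → u' ∈ U → y.coeff (u * x * u') = y.coeff x := by
      intro u u' x hu hu'
      have e2 : y * el u'⁻¹ = y := by
        show hat U * e * el u'⁻¹ = hat U * e
        rw [mul_assoc, ← hcen, ← mul_assoc, hat_mul_el (inv_mem hu')]
      have e1 : el u⁻¹ * y = y := ((lfix_hat U).mul e) u⁻¹ (inv_mem hu)
      have := congrArg (fun w : MonoidAlgebra k ↥(D.group (ZMod p)) => w.coeff x) (show el u⁻¹ * y * el u'⁻¹ = y by rw [e1, e2])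
      simpa [el, coeff_single_mul_apply, coeff_mul_single_apply, mul_assoc] using this
    have hyb : y * b = 0 := by
      have hdec : y = ∑ x : (↥(D.group (ZMod p))), y.coeff x • el x := MonoidAlgebra.ext (Finsupp.ext fun x => by
        simp [el, coeff_sum, Finsupp.coe_finsetSum, Finset.sum_apply, coeff_single, Finsupp.single_apply])
      set π : ↥(D.group (ZMod p)) → Set ↥(D.group (ZMod p)) := fun x => DoubleCoset.doubleCoset x (U : Set (↥(D.group (ZMod p)))) U
      rw [hdec, Finset.sum_mul, ← Finset.sum_fiberwise_of_maps_to (t := Finset.univ.image π) (g := π)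
        fun x _ => Finset.mem_image_of_mem π (Finset.mem_univ x)]
      refine Finset.sum_eq_zero fun Sx hSx => ?_
      obtain ⟨x0, -, rfl⟩ := Finset.mem_image.1 hSx
      have hfib : ∀ x, π x = π x0 ↔ x ∈ DoubleCoset.doubleCoset x0 (U : Set (↥(D.group (ZMod p)))) U := fun x =>
        ⟨fun e => (show π x = π x0 from e).subset (DoubleCoset.mem_doubleCoset_self U U x), fun hx => DoubleCoset.doubleCoset_eq_of_mem hx⟩
      rw [Finset.sum_congr rfl (g := fun x => y.coeff x0 • ((el x : MonoidAlgebra k (↥(D.group (ZMod p)))) * b)) fun x hx => by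
          obtain ⟨a, ha, c, hc, ex⟩ :=
            DoubleCoset.mem_doubleCoset.1 ((hfib x).1 (Finset.mem_filter.1 hx).2)
          rw [smul_mul_assoc, ex, hbi a c x0 ha hc],
        ← Finset.smul_sum, ← Finset.sum_mul,
        show (∑ x ∈ Finset.univ.filter (fun x => π x = π x0), (el x : MonoidAlgebra k (↥(D.group (ZMod p))))) = dsum U x0 by
          rw [dsum_def]; exact Finset.sum_congr (Finset.filter_congr fun x _ => hfib x) fun _ _ => rfl]
      obtain ⟨w, hw⟩ := hh.exists_bcell x0.2
      obtain ⟨c, hc, hc1, -⟩ := hcell x0 w hw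
      rw [hc]
      by_cases hc0 : c = 0
      · rw [hc0, zero_smul, smul_zero]
      rw [show y.coeff x0 = 0 from coeff_hat_mul_eq_zero (p := p) hcen (radG_le hh l)
        (hU.to_le (radG_le hh l)) (g := x0) (fun v hv => (Subgroup.mem_normalizer_iff.1
          (hh.parabolic_le_normalizer (Finset.erase_subset l _) (hh.mem_parabolic_of_bcell
            (Finset.erase_subset l _) (weyl_mono h hSl (hc1 hc0)) hw)) _).1 hv)
        (fun x hx => hcon l hlr x hx), zero_smul]
    apply hz0
    rw [← hez, hb, ← mul_assoc, ← hcen]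
    exact hyb
  -- the torus fixes the vector
  have hfix : ∀ t ∈ T, el t * z = z := by
    intro t ht
    have hcl := diag_le_closure hh ht
    clear ht
    induction hcl using Subgroup.closure_induction with
    | mem d hd =>
      obtain ⟨i, c, rfl⟩ := Set.mem_iUnion.1 hd
      have hq2 : ((el (hG hh i c) : MonoidAlgebra k (↥(D.group (ZMod p)))) - 1) * (qOp hh k i * (qOp hh k i * z)) = 0 :=
        quad_chev hh p i c hzL
      rw [hlam, mul_smul_comm, hlam, smul_smul, mul_smul_comm, smul_eq_zero] at hq2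
      have hl0 : lam i * lam i ≠ 0 := by
        have : i.1 ∈ S := hS ▸ Finset.mem_range.2 i.2
        obtain ⟨_, hi, hl0⟩ := Finset.mem_filter.1 this
        exact mul_ne_zero hl0 hl0
      have := hq2.resolve_left hl0
      rwa [sub_mul, one_mul, sub_eq_zero] at this
    | one => rw [el_one, one_mul]
    | mul a c _ _ ha hc => rw [← el_mul, mul_assoc, hc, ha]
    | inv a _ ha =>
      conv_lhs => rw [← ha]
      rw [← mul_assoc, el_mul, inv_mul_cancel, el_one, one_mul]
  -- it is then a Steinberg vector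
  obtain ⟨SD, hSU, hST⟩ := exists_splitData_eq (F := ZMod p) (k := k) hh p
  obtain ⟨L0, hL0, hneg, -⟩ := hh.exists_longest
  let n0 : ↥(D.group (ZMod p)) := ⟨nProd h (ZMod p) L0, hh.monomial_le_group (hh.nProd_mem_monomial hL0)⟩
  have hdn : (hat U : MonoidAlgebra k (↥(D.group (ZMod p)))) * el n0 * hat U = dsum U n0 := by
    refine hat_mul_el_mul_hat_eq_dsum hh fun u hu hu' => ?_
    have hu2 : (u : GL D.Idx (ZMod p)) ∈ rootGen D (ZMod p) (posSet D) := by
      rw [← h.posUnipotent_eq]; exact hu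
    have h2 := h.conj_rootGen_le hL0 (M := D.negUnipotent (ZMod p)) (fun r hr => hr.2)
      (fun r hr hrS _ => h.xGL_mem_neg _ (hneg r hrS.1 hr) _) hu2
    have h3 : ((n0 * u * n0⁻¹ : (↥(D.group (ZMod p)))) : GL D.Idx (ZMod p)) = 1 := Subgroup.mem_bot.1
      (hh.borel_inf_negUnipotent.le (Subgroup.mem_inf.2 ⟨Subgroup.mem_sup_left hu', h2⟩))
    exact conj_eq_one_iff.1 (Subtype.ext h3 : n0 * u * n0⁻¹ = 1)
  obtain ⟨c, hc, -, hc0⟩ := hcell n0 _ (hh.nProd_mem_bcell (F := ZMod p) hL0)
  obtain ⟨u, hu, m, u', hu', en, hm⟩ := SD.cells n0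
  rw [hSU] at hu hu' hm
  have hm' : (hat U : MonoidAlgebra k (↥(D.group (ZMod p)))) * el m * hat U = dsum U n0 := by
    rw [← hdn, en, ← el_mul, ← el_mul, ← mul_assoc, ← mul_assoc, hat_mul_el hu, mul_assoc _ (el u'),
      lfix_hat _ _ hu']
  obtain ⟨t, ht, rfl⟩ := hm.resolve_left (by rw [hm']; exact dsum_ne_zero U n0)
  have hv : (el t : MonoidAlgebra k (↥(D.group (ZMod p)))) * SD.vEl = dsum U n0 := by
    rw [← hm', SplitData.vEl, hSU, ← el_mul, ← mul_assoc, ← mul_assoc, ← hSU, SD.torus_mul_hatU ht,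
      mul_assoc (hat SD.U) (el t)]
    simp only [hSU]
    rfl
  have hTcard : (Nat.card SD.T : k) ≠ 0 := by
    rw [ne_eq, CharP.cast_eq_zero_iff k p]
    exact SD.T_prime
  have hTz : hat SD.T * z = (Nat.card SD.T : k) • z :=
    hat_mul_lfix fun s hs => hfix s (by rw [hST] at hs; exact hs)
  have hPb : SD.pEl * b = (c * Nat.card SD.T) • z := by
    rw [mul_smul, ← hTz, ← mul_smul_comm, ← hc, SplitData.pEl, mul_assoc, ← hv, mul_assoc (el t), ← mul_assoc,
      ← mul_assoc, hat_mul_el ht, mul_assoc]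
  have hPE : SD.pEl * E = SD.pEl := by
    have hEx : E * (SD.pEl * E) = SD.pEl * E := by rw [← mul_assoc, ← hE.central, mul_assoc, hE.idem]
    obtain ⟨a, ha⟩ := hE.exists_mul_mul_ne_zero hEx (SD.pE_ne_zero hE)
    obtain ⟨d, hd⟩ := SD.pap_mem (E * a)
    have hd0 : d ≠ 0 := by
      rintro rfl
      apply ha
      rw [zero_smul] at hd
      rw [show SD.pEl * E * a * (SD.pEl * E) = SD.pEl * (E * a) * SD.pEl * E by simp only [mul_assoc],
        hd, zero_mul]
    have h3 : SD.pEl * (E * a) * SD.pEl * E = SD.pEl * (E * a) * SD.pEl := by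
      calc SD.pEl * (E * a) * SD.pEl * E = SD.pEl * (E * (a * SD.pEl) * E) := by simp only [mul_assoc]
        _ = SD.pEl * (E * E * (a * SD.pEl)) := by rw [mul_assoc E _ E, hE.central, ← mul_assoc E E]
        _ = _ := by rw [hE.idem]; simp only [mul_assoc]
    rw [hd, smul_mul_assoc] at h3
    exact smul_right_injective _ hd0 h3
  have h4 : (c * Nat.card SD.T) • z = 0 := by
    rw [← hez, ← mul_smul_comm, ← hPb, ← hPE, mul_assoc, ← mul_assoc, ← hcen, mul_assoc, ← mul_assoc e,
      horth, zero_mul, mul_zero]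
  exact hz0 ((smul_eq_zero.1 h4).resolve_left (mul_ne_zero (hc0 hS) hTcard))

/-- A Chevalley group with the adjacency property over the field with `p` elements has two blocks. -/
theorem card_blocks_eq_two (hadj : chkAdj D C = true) {M : Ideal AlgInt} (hM : IsPModular p M) :
    Nat.card {B : Set (IrrCharacter ↥(D.group (ZMod p))) // IsPBlock M B} = 2 := by
  have hp := (Fact.out : p.Prime)
  have h := hh.toChecked
  haveI := hM.2.1.isPrime
  haveI := charP_residue hM
  let ψ : IrrCharacter ↥(D.group (ZMod p)) := ⟨D.steinbergCharacter (ZMod p), hh.steinberg_irr⟩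
  obtain ⟨m, hm, e⟩ := hh.card_group_split (F := ZMod p) p
  rw [ZMod.card] at e
  have hm0 : m ≠ 0 := by rintro rfl; exact hm (dvd_zero p)
  have hfull : (Nat.card (↥(D.group (ZMod p)))).factorization p = D.nroots / 2 := by
    rw [e, Nat.factorization_mul (pow_ne_zero _ hp.pos.ne') hm0, Finsupp.add_apply,
      Nat.factorization_eq_zero_of_not_dvd hm, hp.factorization_pow, Finsupp.single_eq_same, add_zero]
  have hdeg : charDegree (ψ : ↥(D.group (ZMod p)) → ℂ) = p ^ (D.nroots / 2) := by
    have h1 := (Chars.charDegree_spec ψ).2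
    rw [show (ψ : ↥(D.group (ZMod p)) → ℂ) 1 = (Fintype.card (ZMod p) : ℂ) ^ (D.nroots / 2) from hh.steinberg_one,
      ZMod.card] at h1
    exact_mod_cast h1.symm
  have hsing : blockOf M (ψ : ↥(D.group (ZMod p)) → ℂ) = {ψ} := by
    refine blockOf_eq_singleton_of_defect_zero hM ψ ?_
    rw [hdeg, e, Nat.mul_div_cancel_left _ (pow_pos hp.pos _)]
    exact hm
  have hB0 : IsPBlock M (blockOf M (ψ : ↥(D.group (ZMod p)) → ℂ)) := isPBlock_blockOf ψ
  have hd0 : blockDefect p (blockOf M (ψ : ↥(D.group (ZMod p)) → ℂ)) = 0 := by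
    rw [blockDefect, hsing, Set.image_singleton, csInf_singleton, hdeg, hfull, hp.factorization_pow,
      Finsupp.single_eq_same, Nat.sub_self]
  have hE := isDZ_toF hM hB0 hd0
  let one : IrrCharacter ↥(D.group (ZMod p)) := ⟨fun _ => 1, Chars.isIrrCharacter_one⟩
  have hB1 : IsPBlock M (blockOf M (one : ↥(D.group (ZMod p)) → ℂ)) := isPBlock_blockOf one
  have hne : blockOf M (one : ↥(D.group (ZMod p)) → ℂ) ≠ blockOf M (ψ : ↥(D.group (ZMod p)) → ℂ) := by
    intro he
    have hmem := mem_blockOf_self (M := M) one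
    rw [he, hsing, Set.mem_singleton_iff] at hmem
    have h1 : charDegree (one : ↥(D.group (ZMod p)) → ℂ) = 1 := by
      have := (Chars.charDegree_spec one).2
      have h2 : ((charDegree (one : ↥(D.group (ZMod p)) → ℂ) : ℕ) : ℂ) = ((1 : ℕ) : ℂ) := by
        rw [← this]; simp [one]
      exact_mod_cast h2
    rw [hmem, hdeg] at h1
    have h2 := h.sroot_pos (i := 0) (by
      have hb := h.basic_ok
      simp only [chkBasic, Bool.and_eq_true, Nat.blt_eq] at hb
      exact hb.1.1.2)
    have h3 := h.two_mul_half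
    have h4 := (h.sroot (i := 0) (by
      have hb := h.basic_ok
      simp only [chkBasic, Bool.and_eq_true, Nat.blt_eq] at hb
      exact hb.1.1.2)).2
    exact absurd h1 (Nat.one_lt_pow (by omega) hp.one_lt).ne'
  set fF : ∀ B : Set (IrrCharacter (↥(D.group (ZMod p)))), IsPBlock M B → MonoidAlgebra (Residue M) ↥(D.group (ZMod p)) :=
    fun _ hB => toF M ↥(D.group (ZMod p)) (blockIdem M hB : MonoidAlgebra (localRing M) (↥(D.group (ZMod p))))
  have hcenF : ∀ B hB, ∀ x, x * fF B hB = fF B hB * x :=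
    fun B hB x => Subalgebra.mem_center_iff.1 (map_mem_center _ (blockIdem M hB).2) x
  have hidemF : ∀ B hB, fF B hB * fF B hB = fF B hB := by
    intro B hB
    show toF M ↥(D.group (ZMod p)) _ * toF M ↥(D.group (ZMod p)) _ = _
    rw [← map_mul]
    exact congrArg (fun t : RCenter M ↥(D.group (ZMod p)) => toF M ↥(D.group (ZMod p)) (t : MonoidAlgebra (localRing M) (↥(D.group (ZMod p)))))
      (blockIdem_mul_self hB)
  have horth : ∀ B B' (hB : IsPBlock M B) (hB' : IsPBlock M B'), B ≠ B' → fF B hB * fF B' hB' = 0 := by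
    intro B B' hB hB' hBB
    have h0 : blockIdem M hB * blockIdem M hB' = 0 := rcenter_ext fun φ => by
      rw [map_mul, omegaR_blockIdem, omegaR_blockIdem, map_zero]
      split_ifs with ha hb
      · exact absurd (isPBlock_eq_of_mem hB hB' ha hb) hBB
      all_goals simp
    have h3 := congrArg (fun t : RCenter M ↥(D.group (ZMod p)) => toF M ↥(D.group (ZMod p)) (t : MonoidAlgebra (localRing M) (↥(D.group (ZMod p))))) h0
    simpa [fF] using h3
  have hU : IsPGroup p (uG D (ZMod p)) := isPGroup_U hh p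
  have hone : ∀ B (hB : IsPBlock M B), B ≠ blockOf M (ψ : ↥(D.group (ZMod p)) → ℂ) →
      ∀ x ∈ Subgroup.centralizer (uG D (ZMod p) : Set (↥(D.group (ZMod p)))), (fF B hB).coeff x = (1 : MonoidAlgebra (Residue M) ↥(D.group (ZMod p))).coeff x := by
    intro B hB hBne x hx
    obtain ⟨l, hl, x0, hx0, hne0⟩ := exists_coeff_ne_zero hh (hcenF B hB) (hidemF B hB)
      (Graded.toF_blockIdem_ne_zero hB) hE (horth _ _ hB hB0 hBne)
    rcases coeff_centralizer_cases (p := p) (hcenF B hB) (hidemF B hB) (hU.to_le (radG_le hh l))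
      (hU.to_le (centralizer_radG_le hh hadj hl)) with h1 | h1
    · exact absurd (h1 x0 hx0) hne0
    · exact h1 x (Subgroup.centralizer_le (SetLike.coe_subset_coe.2 (radG_le hh l)) hx)
  rw [Nat.card_eq_two_iff]
  refine ⟨⟨_, hB0⟩, ⟨_, hB1⟩, fun e => hne (congrArg Subtype.val e).symm, Set.eq_univ_iff_forall.2 ?_⟩
  rintro ⟨B, hB⟩
  by_contra hnot
  simp only [Set.mem_insert_iff, Set.mem_singleton_iff, Subtype.mk.injEq, not_or] at hnot
  exact mul_ne_zero_of_coeff_centralizer (p := p) (hcenF B hB) (hcenF _ hB1) hU (hone B hB hnot.1)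
    (hone _ hB1 hne) (horth _ _ hB hB1 hnot.2)

end Cfsg.Agent.Lib.SteinbergBlock
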